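import Cfsg.Agent.Lib.PolarSteinberg.Descent

/-!
Steinberg characters of groups embedded in isometry groups.
-/

set_option autoImplicit false

namespace CfsgLib.PolarSt

open scoped Classical Matrix
open Cfsg

universe u v w

/-- Matrices as linear automorphisms. -/
noncomputable def matAut {ι : Type} [Fintype ι] [DecidableEq ι] {F : Type u} [Field F] :
    Matrix.GeneralLinearGroup ι F ≃* ((ι → F) ≃ₗ[F] (ι → F)) :=
  Matrix.GeneralLinearGroup.toLin.trans (LinearMap.GeneralLinearGroup.generalLinearEquiv F (ι → F))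

theorem matAut_apply {ι : Type} [Fintype ι] [DecidableEq ι] {F : Type u} [Field F]
    (g : Matrix.GeneralLinearGroup ι F) (x : ι → F) : matAut g x = g.1 *ᵥ x := rfl

variable {F : Type u} [Field F] [Finite F] {V : Type v} [AddCommGroup V] [Module F V] [Module.Finite F V]

omit [Finite F] [Module.Finite F V] in
/-- Elements of prime power order in the characteristic are unipotent. -/
theorem nilpotent_of_pow (p : ℕ) [Fact p.Prime] [CharP F p] {g : V ≃ₗ[F] V} {k : ℕ}
    (hk : g ^ p ^ k = 1) : ∃ N : ℕ, ∀ v, (⇑(PForm.dif g))^[N] v = 0 := by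
  rcases subsingleton_or_nontrivial V with hV | hV
  · exact ⟨0, fun v => Subsingleton.elim _ _⟩
  haveI : CharP (Module.End F V) p :=
    charP_of_injective_ringHom (FaithfulSMul.algebraMap_injective F (Module.End F V)) p
  refine ⟨p ^ k, fun v => ?_⟩
  have hpow : ((g : V →ₗ[F] V) : Module.End F V) ^ p ^ k = 1 := by
    have := congrArg (LinearEquiv.automorphismGroup.toLinearMapMonoidHom (R := F) (M := V)) hk
    rw [map_pow, map_one] at this
    exact this
  have h : ((g : V →ₗ[F] V) - 1 : Module.End F V) ^ p ^ k = 0 := by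
    rw [sub_pow_char_pow_of_commute p k (Commute.one_right _), hpow, one_pow, sub_self]
  have h2 := LinearMap.congr_fun h v
  rw [Module.End.pow_apply] at h2
  exact h2

/-- A Steinberg character of the central quotient of an embedded normal subgroup. -/
theorem steinberg_of {H : Type v} [Group H] [Finite H] (D : PForm F V) (p : ℕ) [Fact p.Prime] [CharP F p]
    (ρ : H →* D.Iso) (hρ : Function.Injective ρ) [ρ.range.Normal]
    (hsq : ∀ x : H, (∀ t, PForm.dif ((ρ x : D.Iso) : V ≃ₗ[F] V) (PForm.dif ((ρ x : D.Iso) : V ≃ₗ[F] V) t) = 0) →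
      x ≠ 1 → ∃ z, PForm.dif ((ρ x : D.Iso) : V ≃ₗ[F] V) z ≠ 0 ∧
        D.Q (PForm.dif ((ρ x : D.Iso) : V ≃ₗ[F] V) z) = 0)
    (hidx : ¬ p ∣ ρ.range.index ∨ (p = 2 ∧ D.IsRefl ∧ ρ.range.index ∣ 2)) :
    ∃ χ : H ⧸ Subgroup.center H → ℂ, IsIrrCharacter (H ⧸ Subgroup.center H) χ ∧
      ∀ P : Sylow p (H ⧸ Subgroup.center H), χ 1 = Nat.card P ∧
        ∀ x : H ⧸ Subgroup.center H, x ∈ P → x ≠ 1 → χ x = 0 := by
  refine HasSteinberg.quotient (HasSteinberg.of_equiv (MonoidHom.ofInjective hρ) (D.hasSteinberg p ρ.range ?_ hidx))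
  rintro ⟨y, x, rfl⟩ hne ⟨k, hk⟩
  refine ⟨nilpotent_of_pow p (k := k) (congrArg (fun t : ρ.range => ((t : D.Iso) : V ≃ₗ[F] V)) hk), fun h2 h1 => ?_⟩
  exact hsq x h2 fun e => hne (Subtype.ext (by simp [e]))

/-- For a square-zero part the value of the form is automatically isotropic. -/
theorem B_dif_dif (D : PForm F V) {g : V ≃ₗ[F] V} (hg : g ∈ D.Iso)
    (h2 : ∀ t, PForm.dif g (PForm.dif g t) = 0) (z : V) :
    D.B (PForm.dif g z) (PForm.dif g z) = 0 :=
  PForm.fixed_perp hg (sub_eq_zero.mp (h2 z)) ⟨z, rfl⟩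

end CfsgLib.PolarSt
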