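import Cfsg.Agent.Lib.PolarSteinberg.Vanish

/-!
An element centralising a group of admissible elements of the largest order and reaching the
degree in absolute value takes the value of the identity.
-/

set_option autoImplicit false

namespace CfsgLib.PolarSt

open scoped Classical

universe u v

variable {F : Type u} [Field F] [Finite F]

namespace PForm

variable {V : Type v} [AddCommGroup V] [Module F V] [Module.Finite F V] {D : PForm F V}

theorem exists_frame_line_opp {x b : Submodule F V} (hx : D.IsSing x) (h1 : Module.finrank F x = 1)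
    (hb : b ∈ D.Opp x) : ∃ f : D.Frame 1, f.X = x ∧ f.Y = b := by
  obtain ⟨-, hbs, hbd, hbi⟩ := D.mem_Opp.mp hb
  rw [← h1]
  exact D.exists_frame_of_opp hx hbs hbd hbi

/-- A singular vector fixed by a group of admissible elements. -/
theorem exists_common_fixed (p : ℕ) [Fact p.Prime] [CharP F p] (P : Subgroup D.Iso) (hP : IsPGroup p P)
    (hgood : ∀ u ∈ P, u ≠ 1 → D.Good ((u : D.Iso) : V ≃ₗ[F] V)) (hne : P ≠ ⊥) :
    ∃ v, v ≠ 0 ∧ D.Q v = 0 ∧ D.B v v = 0 ∧ ∀ u ∈ P, (u : V ≃ₗ[F] V) v = v := by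
  haveI : Nontrivial P := (Subgroup.nontrivial_iff_ne_bot P).mpr hne
  haveI : Nontrivial (Subgroup.center P) := hP.center_nontrivial
  obtain ⟨⟨u₀, hu₀⟩, hu₁⟩ := exists_ne (1 : Subgroup.center P)
  have hu₁' : ((u₀ : P) : D.Iso) ≠ 1 := fun h => hu₁ (Subtype.ext (Subtype.ext h))
  set g : V ≃ₗ[F] V := (((u₀ : P) : D.Iso) : V ≃ₗ[F] V) with hg
  have hgI : g ∈ D.Iso := ((u₀ : P) : D.Iso).2
  let S : Submodule F V :=
    { carrier := {v | g v = v ∧ v ∈ LinearMap.range (dif g) ∧ D.Q v = 0}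
      zero_mem' := ⟨map_zero _, zero_mem _, D.Q_zero⟩
      add_mem' := fun {a b} ha hb => ⟨by rw [map_add, ha.1, hb.1], add_mem ha.2.1 hb.2.1, by
        rw [D.Q_add, ha.2.2, hb.2.2, fixed_perp hgI ha.1 hb.2.1, map_zero, add_zero, add_zero]⟩
      smul_mem' := fun c a ha => ⟨by rw [map_smul, ha.1], Submodule.smul_mem _ c ha.2.1,
        D.Q_smul c a ha.2.2⟩ }
  have hcomm : ∀ (u : P) (t : V),
      g (((u : D.Iso) : V ≃ₗ[F] V) t) = ((u : D.Iso) : V ≃ₗ[F] V) (g t) := fun u t => by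
    have h := (Subgroup.mem_center_iff.mp hu₀ u).symm
    exact congrArg (fun w : P => ((w : D.Iso) : V ≃ₗ[F] V) t) h
  have hinv : ∀ (u : P) (v : V), v ∈ S → ((u : D.Iso) : V ≃ₗ[F] V) v ∈ S := by
    rintro u v ⟨hv1, ⟨t, ht⟩, hv3⟩
    refine ⟨by rw [hcomm, hv1], ⟨((u : D.Iso) : V ≃ₗ[F] V) t, ?_⟩, by rw [(u : D.Iso).2.2]; exact hv3⟩
    rw [dif_apply, hcomm, ← map_sub, ← ht, dif_apply]
  letI : MulAction P S :=
    { smul := fun u v => ⟨((u : D.Iso) : V ≃ₗ[F] V) v, hinv u v v.2⟩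
      one_smul := fun _ => Subtype.ext rfl
      mul_smul := fun _ _ _ => Subtype.ext rfl }
  obtain ⟨v, hv0, hvfix, hvr, hvQ⟩ := exists_fixed hgI (hgood _ u₀.2 hu₁')
    (fun h => hu₁' (Subtype.ext h))
  have hvS : v ∈ S := ⟨hvfix, hvr, hvQ⟩
  haveI : Nontrivial S := ⟨⟨v, hvS⟩, 0, fun h => hv0 (congrArg Subtype.val h)⟩
  haveI : Finite S := Module.finite_of_finite F
  have hdvd : p ∣ Nat.card S := by
    letI := Fintype.ofFinite F
    obtain ⟨e, hp, he⟩ := FiniteField.card F p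
    rw [Module.natCard_eq_pow_finrank (K := F) (V := S), Nat.card_eq_fintype_card, he]
    exact dvd_pow (dvd_pow_self p e.ne_zero) Module.finrank_pos.ne'
  obtain ⟨w, hw, hw0⟩ := hP.exists_fixed_point_of_prime_dvd_card_of_fixed_point S hdvd
    (a := (0 : S)) (fun u => Subtype.ext (map_zero _))
  refine ⟨(w : V), fun h => hw0 (Subtype.ext h).symm, w.2.2.2, fixed_perp hgI w.2.1 w.2.2.1, fun u hu => ?_⟩
  exact congrArg Subtype.val (hw ⟨u, hu⟩)

theorem span_singular {v : V} (hQ : D.Q v = 0) (hB : D.B v v = 0) :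
    D.IsSing (Submodule.span F {v}) :=
  D.isSing_span _ (by rintro _ rfl; exact hQ) (by rintro _ rfl _ rfl; exact hB)

/-- Admissible elements fixing half a frame pointwise and the other setwise. -/
theorem sub_bound {k : ℕ} (f : D.Frame k) (P : Subgroup D.Iso)
    (hX : ∀ u ∈ P, ∀ v ∈ f.X, (u : V ≃ₗ[F] V) v = v)
    (hY : ∀ u ∈ P, f.Y.map ((u : V ≃ₗ[F] V) : V →ₗ[F] V) = f.Y)
    (hgood : ∀ u ∈ P, u ≠ 1 → D.Good ((u : D.Iso) : V ≃ₗ[F] V)) : Nat.card P ∣ f.rest.deg := by
  let ι : P →* pairStab f :=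
    (P.subtype).codRestrict (pairStab f) fun u => ⟨map_eq_of_fix (hX u u.2), hY u u.2⟩
  let φ : P →* f.rest.Iso := (MonoidHom.snd _ _).comp ((pairHom f).comp ι)
  refine card_dvd_deg φ ?_ fun u hu => ?_
  · intro a b h
    apply Subtype.ext
    have h1 : ι a = ι b := by
      refine (pairHom_bijective f).1 (Prod.ext ?_ h)
      refine LinearEquiv.ext fun x => Subtype.ext ?_
      show ((a : D.Iso) : V ≃ₗ[F] V) (x : V) = ((b : D.Iso) : V ≃ₗ[F] V) (x : V)
      rw [hX a a.2 x x.2, hX b b.2 x x.2]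
    exact congrArg (fun t : pairStab f => (t : D.Iso)) h1
  · exact (good_rest f (u : D.Iso).2 (hX u u.2) (hY u u.2) _ (hgood u u.2 fun h => hu (Subtype.ext h))
      fun h => hu (Subtype.ext (Subtype.ext h))).2

theorem Frame.rest_e_scalar {k : ℕ} (f : D.Frame k) (h : f.M ≃ₗ[F] f.M) (μ : F)
    (hμ : ∀ m, h m = μ • m) : f.rest.e h = f.rest.e 1 := by
  have : f.rest.subs h = f.rest.subs 1 := by
    ext W
    rw [mem_subs, mem_subs_one, mem_sing]
    refine and_congr_right fun _ => and_iff_left (Submodule.eq_of_le_of_finrank_eq ?_ (h.finrank_map_eq W))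
    rintro _ ⟨m, hm, rfl⟩
    show h m ∈ W
    rw [hμ]; exact W.smul_mem μ hm
  rw [PForm.e, this]; rfl

theorem scalar_rest (f : D.Frame 1) (z : D.Iso)
    (hX : f.X.map ((z : V ≃ₗ[F] V) : V →ₗ[F] V) = f.X)
    (hall : ∀ b ∈ D.Opp f.X, b.map ((z : V ≃ₗ[F] V) : V →ₗ[F] V) = b)
    (hM : f.M.map ((z : V ≃ₗ[F] V) : V →ₗ[F] V) = f.M) :
    f.rest.e (resS (z : V ≃ₗ[F] V) f.M hM) = f.rest.e 1 := by
  set g : V ≃ₗ[F] V := (z : V ≃ₗ[F] V)
  obtain ⟨d, hd⟩ := f.mem_Y.mp ((hall _ (f.Y_mem_Opp one_pos)).le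
    (Submodule.mem_map_of_mem (f.W_mem fun _ => 1)))
  refine f.rest_e_scalar _ (d 0) fun m => Subtype.ext ?_
  obtain ⟨a, ha⟩ := f.exists_good m
  obtain ⟨c, hc⟩ := Submodule.mem_span_singleton.mp ((hall _ (f.pt_line ha)).le
    (Submodule.mem_map_of_mem (Submodule.mem_span_singleton_self _)))
  obtain ⟨a', ha'⟩ := f.mem_X.mp (hX.le (Submodule.mem_map_of_mem (f.L_mem fun _ => a)))
  have hgm : g (m : V) ∈ f.M := hM.le (Submodule.mem_map_of_mem m.2)
  simp only [LinearEquiv.coe_coe] at hd hc ha'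
  simp only [Frame.pt, map_add, ← ha', ← hd] at hc
  have h1 := congrArg (fun v => f.cW v 0) hc
  simp only [map_smul, Pi.smul_apply, smul_eq_mul, f.cW_combo _ _ hgm, f.cW_combo _ _ m.2, mul_one] at h1
  have h2 := congrArg f.proj hc
  rw [map_smul, f.proj_combo _ _ hgm, f.proj_combo _ _ m.2, h1] at h2
  exact h2.symm

/-- The case of a fixed line. -/
theorem center_fixed (z : D.Iso) {x : Submodule F V} (hx : D.IsSing x) (h1 : Module.finrank F x = 1)
    (hzx : x.map ((z : V ≃ₗ[F] V) : V →ₗ[F] V) = x)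
    (habs : (D.e (z : V ≃ₗ[F] V)).natAbs = D.deg) : D.e (z : V ≃ₗ[F] V) = D.e 1 := by
  have hx0 : x ≠ ⊥ := fun h => by rw [h, finrank_bot] at h1; exact zero_ne_one h1
  have hxz : x ∈ D.subs (z : V ≃ₗ[F] V) := D.mem_subs.mpr ⟨hx0, hx, hzx⟩
  have hx1 : x ∈ D.subs 1 := D.mem_subs_one.mpr (D.mem_sing.mpr ⟨hx0, hx⟩)
  set c := (eul ((D.subs 1).filter (x < ·))).natAbs with hc
  have hsub : D.opps (z : V ≃ₗ[F] V) x ⊆ D.Opp x := fun b hb => by
    obtain ⟨hbm, hbd, hbi⟩ := Finset.mem_filter.mp hb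
    obtain ⟨hb0, hbs, -⟩ := D.mem_subs.mp hbm
    exact D.mem_Opp.mpr ⟨hb0, hbs, hbd, hbi⟩
  have hbound : ∀ b ∈ D.opps (z : V ≃ₗ[F] V) x,
      (eul ((D.subs (z : V ≃ₗ[F] V)).filter (b < ·))).natAbs ≤ c := by
    intro b hb
    obtain ⟨f, hfX, rfl⟩ := exists_frame_line_opp hx h1 (hsub hb)
    have hbz := (D.mem_subs.mp (Finset.mem_filter.mp hb).1).2.2
    have hM := M_invariant f z.2 (hfX ▸ hzx) hbz
    rw [above_eq f hM f.Y (Or.inr rfl) hbz, hc, above_one f x (Or.inl hfX.symm)]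
    exact f.rest.natAbs_le ⟨_, resS_mem f z.2 hM⟩
  have hdeg : D.deg = (D.Opp x).card * c := by
    rw [deg, D.e_line (one_mem _) hx1 h1, D.opps_one,
      Finset.sum_congr rfl fun b hb => above_one_opp hx hb, Finset.sum_const, Int.natAbs_neg,
      nsmul_eq_mul, Int.natAbs_mul, Int.natAbs_natCast]
  have heq : D.opps (z : V ≃ₗ[F] V) x = D.Opp x := by
    refine Finset.eq_of_subset_of_card_le hsub ?_
    have h2 : D.deg ≤ (D.opps (z : V ≃ₗ[F] V) x).card * c := by
      rw [← habs, D.e_line z.2 hxz h1, Int.natAbs_neg, ← smul_eq_mul, ← Finset.sum_const]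
      exact (Int.natAbs_sum_le _ _).trans (Finset.sum_le_sum hbound)
    rw [hdeg] at h2
    refine Nat.le_of_mul_le_mul_right h2 (Nat.pos_of_ne_zero fun h => ?_)
    have := D.deg_pos
    rw [hdeg, h, mul_zero] at this
    exact lt_irrefl _ this
  rw [D.e_line z.2 hxz h1, D.e_line (one_mem _) hx1 h1, D.opps_one, heq]
  refine congrArg Neg.neg (Finset.sum_congr rfl fun b hb => ?_)
  obtain ⟨f, rfl, rfl⟩ := exists_frame_line_opp hx h1 hb
  have hall : ∀ b' ∈ D.Opp f.X, b'.map ((z : V ≃ₗ[F] V) : V →ₗ[F] V) = b' := fun b' hb' => by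
    rw [← heq] at hb'
    exact (D.mem_subs.mp (Finset.mem_filter.mp hb').1).2.2
  have hM := M_invariant f z.2 hzx (hall _ hb)
  rw [above_eq f hM f.Y (Or.inr rfl) (hall _ hb), above_one f f.Y (Or.inr rfl)]
  exact scalar_rest f z hzx hall hM

theorem two_le_below {b : Submodule F V} (hs : D.IsSing b) (h2 : Module.finrank F b = 2) :
    2 ≤ eul ((D.subs 1).filter (· < b)) := by
  set s := (D.subs 1).filter (· < b)
  have hdim : ∀ W ∈ s, Module.finrank F W = 1 := fun W hW => by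
    obtain ⟨hWm, hlt⟩ := Finset.mem_filter.mp hW
    have := Submodule.finrank_lt_finrank_of_lt hlt
    have : Module.finrank F W ≠ 0 := fun h => (D.mem_subs.mp hWm).1 (Submodule.finrank_eq_zero.mp h)
    omega
  have hval : eul s = -1 + (s.card : ℤ) := by
    rw [eul_eq, Finset.sum_congr rfl fun W hW => by
      rw [Finset.filter_eq_empty_iff.mpr fun U hU hlt => by
        have := Submodule.finrank_lt_finrank_of_lt hlt
        rw [hdim W hW, hdim U hU] at this
        omega, eul_empty]]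
    simp
  let e := Module.finBasisOfFinrankEq F b h2
  have hind : ∀ c d : F, c • (e 0 : V) + d • (e 1 : V) = 0 → c = 0 ∧ d = 0 := by
    intro c d h
    have h' : c • e 0 + d • e 1 = 0 := Subtype.ext h
    exact ⟨by simpa [Finsupp.single_apply] using congrArg (fun t => e.repr t 0) h',
      by simpa [Finsupp.single_apply] using congrArg (fun t => e.repr t 1) h'⟩
  let pts : Fin 3 → V := ![(e 0 : V), (e 1 : V), (e 0 : V) + (e 1 : V)]
  have hmem : ∀ i, pts i ∈ b := by
    intro i; fin_cases i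
    exacts [(e 0).2, (e 1).2, add_mem (e 0).2 (e 1).2]
  have hne : ∀ i, pts i ≠ 0 := by
    intro i h; fin_cases i <;> simp [pts] at h
    · exact one_ne_zero (hind 1 0 (by simp [h])).1
    · exact one_ne_zero (hind 0 1 (by simp [h])).2
    · exact one_ne_zero (hind 1 1 (by simpa using h)).1
  have hinj : Function.Injective fun i => Submodule.span F {pts i} := by
    intro i j h
    obtain ⟨c, hc⟩ := Submodule.mem_span_singleton.mp
      ((show Submodule.span F {pts i} = Submodule.span F {pts j} from h) ▸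
        Submodule.mem_span_singleton_self (pts i))
    fin_cases i <;> fin_cases j <;> (first | rfl | exfalso) <;> simp [pts] at hc
    · exact one_ne_zero (neg_eq_zero.mp (hind (-1) c (by rw [hc]; simp)).1)
    · have := hind (c - 1) c (by linear_combination (norm := module) hc)
      rw [this.2] at this; simp at this
    · exact one_ne_zero (neg_eq_zero.mp (hind c (-1) (by rw [hc]; simp)).2)
    · have := hind c (c - 1) (by linear_combination (norm := module) hc)
      rw [this.1] at this; simp at this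
    · have := hind (c - 1) (-1) (by rw [sub_smul, one_smul, hc]; simp)
      exact one_ne_zero (neg_eq_zero.mp this.2)
    · have := hind (-1) (c - 1) (by rw [sub_smul, one_smul, hc]; simp)
      exact one_ne_zero (neg_eq_zero.mp this.1)
  have h3 : 3 ≤ s.card := by
    rw [← Fintype.card_fin 3, ← Finset.card_univ, ← Finset.card_image_of_injective _ hinj]
    refine Finset.card_le_card fun W hW => ?_
    obtain ⟨i, -, rfl⟩ := Finset.mem_image.mp hW
    have hle := (Submodule.span_singleton_le_iff_mem _ _).mpr (hmem i)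
    refine Finset.mem_filter.mpr ⟨D.mem_subs_one.mpr (D.mem_sing.mpr ⟨by simp [hne i], hs.mono D hle⟩),
      lt_of_le_of_ne hle fun h => ?_⟩
    have := finrank_span_singleton (K := F) (hne i)
    rw [h, h2] at this
    omega
  omega

/-- Admissible elements fixing a singular plane pointwise are few. -/
theorem plane_bound (P : Subgroup D.Iso) {y : Submodule F V} (hy : D.IsSing y)
    (h2 : Module.finrank F y = 2) (hfix : ∀ u ∈ P, ∀ v ∈ y, (u : V ≃ₗ[F] V) v = v)
    (hgood : ∀ u ∈ P, u ≠ 1 → D.Good ((u : D.Iso) : V ≃ₗ[F] V)) : Nat.card P < D.deg := by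
  haveI := Fintype.ofFinite P
  have hy0 : y ≠ ⊥ := fun h => by rw [h, finrank_bot] at h2; omega
  have hy1 : y ∈ D.subs 1 := D.mem_subs_one.mpr (D.mem_sing.mpr ⟨hy0, hy⟩)
  set c := eul ((D.subs 1).filter (y < ·)) with hc
  have hne := D.Opp_nonempty (D.mem_sing.mpr ⟨hy0, hy⟩)
  obtain ⟨b₀, hb₀⟩ := hne
  obtain ⟨-, hbs, hbd, hbi⟩ := D.mem_Opp.mp hb₀
  obtain ⟨f, hfX, rfl⟩ := D.exists_frame_of_opp hy hbs hbd hbi
  have hcf : c.natAbs = f.rest.deg := by rw [hc, above_one f y (Or.inl hfX.symm)]; rfl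
  have hcpos : 0 < c.natAbs := hcf ▸ f.rest.deg_pos
  let act : P → Submodule F V := fun u => f.Y.map (((u : D.Iso) : V ≃ₗ[F] V) : V →ₗ[F] V)
  have himg : Finset.univ.image act ⊆ D.Opp y := by
    intro W hW
    obtain ⟨u, -, rfl⟩ := Finset.mem_image.mp hW
    obtain ⟨hb0, -, -, -⟩ := D.mem_Opp.mp hb₀
    refine D.mem_Opp.mpr ⟨fun e => hb0 ?_, D.isSing_map (u : D.Iso).2 hbs,
      (((u : D.Iso) : V ≃ₗ[F] V).finrank_map_eq f.Y).trans hbd, ?_⟩
    · exact Submodule.map_injective_of_injective ((u : D.Iso) : V ≃ₗ[F] V).injective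
        (e.trans (Submodule.map_bot _).symm)
    · show f.Y.map _ ⊓ _ = ⊥
      rw [← D.perp_invariant (u : D.Iso).2 (map_eq_of_fix (hfix u u.2)),
        ← Submodule.map_inf _ ((u : D.Iso) : V ≃ₗ[F] V).injective, hbi, Submodule.map_bot]
  have hP : Nat.card P ≤ c.natAbs * (D.Opp y).card := by
    refine le_trans ?_ (Nat.mul_le_mul_left _ (Finset.card_le_card himg))
    rw [Nat.card_eq_fintype_card, ← Finset.card_univ]
    refine Finset.card_le_mul_card_image _ _ fun W hW => ?_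
    obtain ⟨t, -, rfl⟩ := Finset.mem_image.mp hW
    let Q : Subgroup D.Iso := P ⊓ stabS D.Iso f.Y
    have hQ : Nat.card Q ≤ c.natAbs := by
      rw [hcf]
      exact Nat.le_of_dvd f.rest.deg_pos (sub_bound f Q (fun u hu v hv => hfix u hu.1 v (hfX ▸ hv))
        (fun u hu => hu.2) fun u hu => hgood u hu.1)
    refine le_trans ?_ hQ
    haveI := Fintype.ofFinite Q
    rw [Nat.card_eq_fintype_card, ← Finset.card_univ]
    refine Finset.card_le_card_of_injOn (fun u => if h : ((t⁻¹ * u : P) : D.Iso) ∈ Q then ⟨_, h⟩ else 1)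
      (fun _ _ => Finset.mem_univ _) ?_
    have hmem : ∀ u ∈ Finset.univ.filter (fun u => act u = act t), ((t⁻¹ * u : P) : D.Iso) ∈ Q := by
      intro u hu
      refine ⟨(t⁻¹ * u).2, mem_stabS.mpr ?_⟩
      have h := congrArg (Submodule.map ((((t⁻¹ : P) : D.Iso) : V ≃ₗ[F] V) : V →ₗ[F] V))
        (Finset.mem_filter.mp hu).2
      simp only [act] at h
      rw [← Submodule.map_comp, ← Submodule.map_comp] at h
      refine h.trans ?_
      convert Submodule.map_id f.Y
      ext v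
      show ((((t⁻¹ * t : P)) : D.Iso) : V ≃ₗ[F] V) v = v
      rw [inv_mul_cancel]; rfl
    intro u hu u' hu' h
    simp only [dif_pos (hmem u hu), dif_pos (hmem u' hu')] at h
    exact mul_left_cancel (a := t⁻¹) (Subtype.ext (congrArg (fun q : Q => (q : D.Iso)) h))
  have hdeg : 2 * (D.Opp y).card * c.natAbs ≤ D.deg := by
    rw [deg, D.e_rec (one_mem _) hy1, D.opps_one,
      Finset.sum_congr rfl fun b hb => by rw [above_one_opp hy hb], ← Finset.sum_mul, ← hc,
      Int.natAbs_mul]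
    refine Nat.mul_le_mul_right _ ?_
    have hsum : ∀ b ∈ D.Opp y, (2 : ℤ) ≤ eul ((D.subs 1).filter (· < b)) := fun b hb =>
      two_le_below (D.mem_Opp.mp hb).2.1 ((D.mem_Opp.mp hb).2.2.1.trans h2)
    have := Finset.card_nsmul_le_sum _ _ _ hsum
    rw [nsmul_eq_mul] at this
    omega
  have hpos : 0 < (D.Opp y).card := Finset.card_pos.mpr ⟨_, hb₀⟩
  nlinarith

/-- The value at a central element of largest absolute value. -/
theorem center_eq (p : ℕ) [Fact p.Prime] [CharP F p] (z : D.Iso) (P : Subgroup D.Iso)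
    (hP : IsPGroup p P) (hgood : ∀ u ∈ P, u ≠ 1 → D.Good ((u : D.Iso) : V ≃ₗ[F] V))
    (hcomm : ∀ u ∈ P, u * z = z * u) (hcard : Nat.card P = D.deg) (hd : 1 < D.deg)
    (habs : (D.e (z : V ≃ₗ[F] V)).natAbs = D.deg) : D.e (z : V ≃ₗ[F] V) = D.e 1 := by
  obtain ⟨v, hv0, hvQ, hvB, hvfix⟩ := exists_common_fixed p P hP hgood fun h => by
    rw [h, Subgroup.card_bot] at hcard; omega
  set g : V ≃ₗ[F] V := (z : V ≃ₗ[F] V)
  set v' := g v
  have hv'fix : ∀ u ∈ P, (u : V ≃ₗ[F] V) v' = v' := fun u hu => by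
    have h := congrArg (fun w : D.Iso => (w : V ≃ₗ[F] V) v) (hcomm u hu)
    exact h.trans (congrArg g (hvfix u hu))
  have hv'0 : v' ≠ 0 := fun h => hv0 (g.map_eq_zero_iff.mp h)
  have hv'Q : D.Q v' = 0 := (z.2.2 v).trans hvQ
  have hv'B : D.B v' v' = 0 := (z.2.1 v v).trans hvB
  set x := Submodule.span F {v}
  set x' := Submodule.span F {v'}
  have hzx : x.map (g : V →ₗ[F] V) = x' := by simp [x, x', v', Submodule.map_span]
  have hxs : D.IsSing x := span_singular hvQ hvB
  have hxs' : D.IsSing x' := span_singular hv'Q hv'B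
  have hx1 : Module.finrank F x = 1 := finrank_span_singleton hv0
  have hx1' : Module.finrank F x' = 1 := finrank_span_singleton hv'0
  by_cases hsame : x' = x
  · exact center_fixed z hxs hx1 (hzx.trans hsame) habs
  exfalso
  by_cases hB : D.B v v' = 0
  · have hys : D.IsSing (x ⊔ x') := D.isSing_sup hxs hxs' fun a ha b hb => by
      obtain ⟨c, rfl⟩ := Submodule.mem_span_singleton.mp ha
      obtain ⟨d, rfl⟩ := Submodule.mem_span_singleton.mp hb
      rw [D.smul_left, D.smul_right, hB, mul_zero, mul_zero]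
    have hinf : x ⊓ x' = ⊥ := by
      by_contra h
      obtain ⟨t, ht, ht0⟩ := Submodule.exists_mem_ne_zero_of_ne_bot h
      have e1 := Submodule.eq_of_le_of_finrank_eq ((Submodule.span_singleton_le_iff_mem t x).mpr ht.1)
        (by rw [finrank_span_singleton ht0, hx1])
      have e2 := Submodule.eq_of_le_of_finrank_eq ((Submodule.span_singleton_le_iff_mem t x').mpr ht.2)
        (by rw [finrank_span_singleton ht0, hx1'])
      exact hsame (e2.symm.trans e1)
    have h2 : Module.finrank F ↥(x ⊔ x') = 2 := by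
      have := Submodule.finrank_sup_add_finrank_inf_eq x x'
      rw [hinf, finrank_bot, hx1, hx1', add_zero] at this
      exact this
    have := plane_bound P hys h2 (fun u hu t ht => by
      obtain ⟨a, ha, b, hb, rfl⟩ := Submodule.mem_sup.mp ht
      obtain ⟨c, rfl⟩ := Submodule.mem_span_singleton.mp ha
      obtain ⟨d, rfl⟩ := Submodule.mem_span_singleton.mp hb
      rw [map_add, map_smul, map_smul, hvfix u hu, hv'fix u hu]) hgood
    omega
  · have hopp : x' ∈ D.Opp x := by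
      refine D.mem_Opp.mpr ⟨by simp [x', hv'0], hxs', hx1'.trans hx1.symm, ?_⟩
      rw [Submodule.eq_bot_iff]
      rintro t ⟨ht1, ht2⟩
      obtain ⟨c, rfl⟩ := Submodule.mem_span_singleton.mp ht1
      have h := ht2 v (Submodule.mem_span_singleton_self v)
      rw [D.smul_right, mul_eq_zero] at h
      rw [h.resolve_right hB, zero_smul]
    obtain ⟨f, hfX, hfY⟩ := exists_frame_line_opp hxs hx1 hopp
    have hdvd := sub_bound f P (fun u hu t ht => by
      obtain ⟨c, rfl⟩ := Submodule.mem_span_singleton.mp (show t ∈ x from hfX ▸ ht)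
      rw [map_smul, hvfix u hu]) (fun u hu => map_eq_of_fix fun t ht => by
      obtain ⟨c, rfl⟩ := Submodule.mem_span_singleton.mp (show t ∈ x' from hfY ▸ ht)
      rw [map_smul, hv'fix u hu]) hgood
    rw [hcard, deg_frame f] at hdvd
    have h1 : (D.Opp f.X).card = 1 :=
      Nat.eq_one_of_dvd_one ((Nat.mul_dvd_mul_iff_right f.rest.deg_pos).mp (by rwa [one_mul]))
    rw [card_Opp f, card_good f] at h1
    haveI : Subsingleton f.M := (Nat.card_eq_one_iff_unique.mp (mul_eq_one.mp h1).1).1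
    have hr : f.rest.deg = 1 := f.rest.deg_eq_one_of_sing_empty (Finset.eq_empty_of_forall_notMem fun W hW =>
      (f.rest.mem_sing.mp hW).1 (Subsingleton.elim _ _))
    rw [deg_frame f, card_Opp f, card_good f, h1, hr] at hd
    omega

end PForm

end CfsgLib.PolarSt
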