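import Cfsg.Agent.Lib.PolarSteinberg.Sums
import Cfsg.Agent.Lib.CharTheory.MultFree
import Cfsg.Agent.Lib.CharTheory.Integral
import Cfsg.Agent.Lib.CharTheory.Coherence
import Cfsg.Agent.Lib.CharTheory.FeitNilpotent

/-!
The Euler characteristic is an irreducible character of the isometry group up to sign; its degree.
-/

set_option autoImplicit false

namespace CfsgLib.PolarSt

open scoped Classical ComplexConjugate
open Cfsg CfsgLib.CharTheory

universe u v

variable {F : Type u} [Field F] [Finite F]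

namespace PForm

variable {V : Type v} [AddCommGroup V] [Module F V] [Module.Finite F V] (D : PForm F V)

theorem chains_subs (g : D.Iso) :
    chains (D.subs (g : V ≃ₗ[F] V)) = (chains D.sing).filter
      fun c => c.image (fun W : Submodule F V => W.map ((g : V ≃ₗ[F] V) : V →ₗ[F] V)) = c := by
  ext c
  simp only [chains, Finset.mem_filter, Finset.mem_powerset, D.subs_eq, Finset.subset_iff]
  constructor
  · rintro ⟨h1, h2⟩
    refine ⟨⟨fun W hW => (h1 hW).1, h2⟩, ?_⟩
    conv_rhs => rw [← Finset.image_id (s := c)]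
    exact Finset.image_congr fun W hW => (h1 hW).2
  · rintro ⟨⟨h1, h2⟩, h3⟩
    refine ⟨fun W hW => ⟨h1 hW, ?_⟩, h2⟩
    have hm : W.map ((g : V ≃ₗ[F] V) : V →ₗ[F] V) ∈ c := h3 ▸ Finset.mem_image_of_mem _ hW
    have hd := (g : V ≃ₗ[F] V).finrank_map_eq W
    rcases h2 _ hm _ hW with h | h
    · exact Submodule.eq_of_le_of_finrank_eq h hd
    · exact (Submodule.eq_of_le_of_finrank_eq h hd.symm).symm

/-- Chains of singular subspaces of a given length. -/
abbrev Chain (k : ℕ) : Type v :=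
  {c : Finset (Submodule F V) // c ∈ chains D.sing ∧ c.card = k}

/-- The action on chains. -/
noncomputable instance chainAction (k : ℕ) : MulAction D.Iso (D.Chain k) where
  smul g c := ⟨c.1.image fun W => W.map ((g : V ≃ₗ[F] V) : V →ₗ[F] V), by
    obtain ⟨hs, hc⟩ := Finset.mem_filter.mp c.2.1
    refine ⟨Finset.mem_filter.mpr ⟨Finset.mem_powerset.mpr ?_, ?_⟩, ?_⟩
    · intro W hW
      obtain ⟨U, hU, rfl⟩ := Finset.mem_image.mp hW
      obtain ⟨h0, hU'⟩ := D.mem_sing.mp (Finset.mem_powerset.mp hs hU)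
      exact D.mem_sing.mpr ⟨fun e => h0 (Submodule.map_injective_of_injective
        (g : V ≃ₗ[F] V).injective (e.trans (Submodule.map_bot _).symm)), D.isSing_map g.2 hU'⟩
    · intro a ha b hb
      obtain ⟨U, hU, rfl⟩ := Finset.mem_image.mp ha
      obtain ⟨U', hU', rfl⟩ := Finset.mem_image.mp hb
      exact (hc U hU U' hU').imp Submodule.map_mono Submodule.map_mono
    · rw [Finset.card_image_of_injective _
        (Submodule.map_injective_of_injective (g : V ≃ₗ[F] V).injective)]
      exact c.2.2⟩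
  one_smul c := Subtype.ext (by
    show c.1.image _ = c.1
    exact (Finset.image_congr fun W _ => Submodule.map_id W).trans Finset.image_id)
  mul_smul a b c := Subtype.ext (by
    show c.1.image _ = (c.1.image _).image _
    rw [Finset.image_image]
    exact Finset.image_congr fun W _ => Submodule.map_comp _ _ W)

theorem card_fixed (g : D.Iso) (k : ℕ) :
    Nat.card (MulAction.fixedBy (D.Chain k) g) =
      ((chains (D.subs (g : V ≃ₗ[F] V))).filter fun c => c.card = k).card := by
  rw [D.chains_subs g, Finset.filter_filter]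
  rw [← Nat.card_eq_finsetCard]
  refine Nat.card_congr
    { toFun := fun c => ⟨c.1.1, Finset.mem_filter.mpr ⟨c.1.2.1, ?_, c.1.2.2⟩⟩
      invFun := fun c => ⟨⟨c.1, (Finset.mem_filter.mp c.2).1, (Finset.mem_filter.mp c.2).2.2⟩, ?_⟩
      left_inv := fun _ => rfl
      right_inv := fun _ => rfl }
  · exact congrArg Subtype.val (MulAction.mem_fixedBy.mp c.2)
  · exact MulAction.mem_fixedBy.mpr (Subtype.ext (Finset.mem_filter.mp c.2).2.1)

/-- The Euler characteristic as a complex function. -/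
noncomputable def eFun : D.Iso → ℂ := fun g => ((D.e (g : V ≃ₗ[F] V) : ℤ) : ℂ)

theorem isGenChar_eFun : IsGeneralizedCharacter D.Iso D.eFun := by
  let N := D.sing.card + 1
  have h : D.eFun = -∑ k ∈ Finset.range N,
      (((-1) ^ k : ℤ) : ℂ) • (fun g : D.Iso => (Nat.card (MulAction.fixedBy (D.Chain k) g) : ℂ)) := by
    funext g
    have hmaps : ∀ c ∈ chains (D.subs (g : V ≃ₗ[F] V)), c.card ∈ Finset.range N := by
      intro c hc
      rw [D.chains_subs g] at hc
      have := Finset.card_le_card (Finset.mem_powerset.mp (Finset.mem_filter.mp (Finset.mem_filter.mp hc).1).1)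
      exact Finset.mem_range.mpr (by omega)
    show ((D.e (g : V ≃ₗ[F] V) : ℤ) : ℂ) = _
    rw [PForm.e, eul_chains, ← Finset.sum_fiberwise_of_maps_to hmaps]
    simp only [Pi.neg_apply, Finset.sum_apply, Pi.smul_apply, smul_eq_mul, Int.cast_neg, Int.cast_sum]
    congr 1
    refine Finset.sum_congr rfl fun k _ => ?_
    rw [D.card_fixed, Finset.sum_congr rfl fun c hc => by rw [(Finset.mem_filter.mp hc).2]]
    simp [mul_comm]
  rw [h]
  refine isGenChar_neg (isGenChar_sum _ _ fun k _ => isGenChar_intSmul _ ?_)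
  haveI : Finite V := Module.finite_of_finite F
  haveI : Finite (Submodule F V) := Finite.of_injective _ SetLike.coe_injective
  haveI : Fintype (D.Chain k) := Fintype.ofFinite _
  rw [← permRep_character]
  exact isGenChar_of_char (isCharacter_character _)

theorem classInner_eFun : classInner D.eFun D.eFun = 1 := by
  have h : ∑ g : D.Iso, D.eFun g * conj (D.eFun g) = (Fintype.card D.Iso : ℂ) := by
    have h' := congrArg (fun z : ℤ => (z : ℂ)) (norm_eq (Module.finrank F V) V D rfl)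
    push_cast at h'
    rw [← h']
    refine Finset.sum_congr rfl fun g _ => ?_
    simp [eFun, sq]
  rw [classInner, h, Nat.card_eq_fintype_card,
    inv_mul_cancel₀ (Nat.cast_ne_zero.mpr Fintype.card_ne_zero)]

/-- The degree. -/
noncomputable def deg : ℕ := (D.e 1).natAbs

/-- The Euler characteristic is an irreducible character up to sign. -/
theorem exists_irr : ∃ s : ℤ, (s = 1 ∨ s = -1) ∧
    IsIrrCharacter D.Iso (fun g => ((s * D.e (g : V ≃ₗ[F] V) : ℤ) : ℂ)) := by
  rcases irr_or_neg_of_norm_one D.isGenChar_eFun D.classInner_eFun with h | h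
  · refine ⟨1, Or.inl rfl, ?_⟩
    convert h using 1
    funext g; simp [eFun]
  · refine ⟨-1, Or.inr rfl, ?_⟩
    convert h using 1
    funext g; simp [eFun]

theorem natAbs_le (g : D.Iso) : (D.e (g : V ≃ₗ[F] V)).natAbs ≤ D.deg := by
  obtain ⟨s, hs, hirr⟩ := D.exists_irr
  have h := norm_char_le (isCharacter_of_irr hirr) g
  simp only [Complex.norm_intCast, OneMemClass.coe_one] at h
  have hn : ∀ z : ℤ, |((s * z : ℤ) : ℝ)| = (z.natAbs : ℝ) := fun z => by
    rw [← Int.cast_abs, ← Int.natCast_natAbs, Int.natAbs_mul]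
    rcases hs with rfl | rfl <;> simp
  rw [hn, hn] at h
  exact_mod_cast h

theorem deg_pos : 0 < D.deg := by
  obtain ⟨s, -, hirr⟩ := D.exists_irr
  refine Int.natAbs_pos.mpr fun h => irr_ne_zero hirr ?_
  simp [h]

theorem deg_dvd_card : D.deg ∣ Nat.card D.Iso := by
  obtain ⟨s, hs, hirr⟩ := D.exists_irr
  obtain ⟨d, -, hd⟩ := irr_degree_pos hirr
  have h1 : d = D.deg := by
    simp only [OneMemClass.coe_one] at hd
    have h2 : s * D.e 1 = (d : ℤ) := by exact_mod_cast hd
    have h3 := congrArg Int.natAbs h2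
    rw [Int.natAbs_mul, Int.natAbs_natCast] at h3
    rcases hs with rfl | rfl <;> simpa [deg] using h3.symm
  rw [← h1]
  have := irr_degree_dvd_index (⊥ : Subgroup D.Iso) hirr (fun n hn => by rw [Subgroup.mem_bot.mp hn]) hd
  rwa [Subgroup.index_bot] at this

/-! ### The recursion at a line -/

theorem below_line (g : V ≃ₗ[F] V) {b : Submodule F V} (hb : Module.finrank F b = 1) :
    (D.subs g).filter (· < b) = ∅ := by
  refine Finset.filter_eq_empty_iff.mpr fun W hW hlt => ?_
  have h1 := Submodule.finrank_lt_finrank_of_lt hlt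
  exact (D.mem_subs.mp hW).1 (Submodule.finrank_eq_zero.mp (by omega))

theorem e_line {g : V ≃ₗ[F] V} (hg : g ∈ D.Iso) {x : Submodule F V} (hx : x ∈ D.subs g)
    (h1 : Module.finrank F x = 1) :
    D.e g = -∑ b ∈ D.opps g x, eul ((D.subs g).filter (b < ·)) := by
  rw [D.e_rec hg hx, ← Finset.sum_neg_distrib]
  refine Finset.sum_congr rfl fun b hb => ?_
  rw [D.below_line g ((Finset.mem_filter.mp hb).2.1.trans h1), eul_empty]
  ring

theorem mem_subs_one {W : Submodule F V} : W ∈ D.subs 1 ↔ W ∈ D.sing := by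
  rw [mem_subs, mem_sing]
  exact and_congr_right fun _ => and_iff_left (Submodule.map_id W)

theorem opps_one (x : Submodule F V) : D.opps 1 x = D.Opp x := by
  ext b
  rw [opps, Opp, Finset.mem_filter, Finset.mem_filter, mem_subs_one]

variable {D}

theorem resS_one (W : Submodule F V) (h : W.map ((1 : V ≃ₗ[F] V) : V →ₗ[F] V) = W) :
    resS (1 : V ≃ₗ[F] V) W h = 1 := LinearEquiv.ext fun _ => Subtype.ext rfl

theorem above_one {k : ℕ} (f : D.Frame k) (Z : Submodule F V) (hZ : Z = f.X ∨ Z = f.Y) :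
    eul ((D.subs 1).filter (Z < ·)) = f.rest.e 1 := by
  rw [above_eq f (g := 1) (Submodule.map_id _) Z hZ (Submodule.map_id _)]
  exact congrArg f.rest.e (resS_one f.M _)

theorem above_one_opp {x b : Submodule F V} (hx : D.IsSing x) (hb : b ∈ D.Opp x) :
    eul ((D.subs 1).filter (b < ·)) = eul ((D.subs 1).filter (x < ·)) := by
  obtain ⟨-, hbs, hbd, hbi⟩ := D.mem_Opp.mp hb
  obtain ⟨f, hfX, hfY⟩ := D.exists_frame_of_opp hx hbs hbd hbi
  rw [above_one f b (Or.inr hfY.symm), above_one f x (Or.inl hfX.symm)]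

theorem deg_frame (f : D.Frame 1) : D.deg = (D.Opp f.X).card * f.rest.deg := by
  have hX : f.X ∈ D.subs 1 := D.mem_subs_one.mpr (D.mem_sing.mpr
    ⟨fun h => by have := f.finrank_X; rw [h, finrank_bot] at this; exact zero_ne_one this, f.isSing_X⟩)
  rw [deg, D.e_line (one_mem _) hX f.finrank_X, D.opps_one,
    Finset.sum_congr rfl fun b hb => above_one_opp f.isSing_X hb, Finset.sum_const,
    above_one f f.X (Or.inl rfl), Int.natAbs_neg, nsmul_eq_mul, Int.natAbs_mul, Int.natAbs_natCast]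
  rfl

variable (D) in
/-- The kernel of the norm equations. -/
def K : AddSubgroup F where
  carrier := {a | D.T (D.σ a) = 0 ∧ D.σ a + D.ε * D.σ (D.σ a) = 0}
  zero_mem' := by simp
  add_mem' {a b} ha hb := ⟨by rw [map_add, map_add, ha.1, hb.1, add_zero],
    by rw [map_add, map_add]; linear_combination ha.2 + hb.2⟩
  neg_mem' {a} ha := ⟨by rw [map_neg, map_neg, ha.1, neg_zero],
    by rw [map_neg, map_neg]; linear_combination -ha.2⟩

/-- The vector with given coordinates over a frame of size one. -/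
noncomputable def Frame.pt (f : D.Frame 1) (p : f.M × F) : V :=
  f.L (fun _ => p.2) + f.W (fun _ => 1) + (p.1 : V)

/-- The singular points opposite to the first line. -/
noncomputable def Frame.good (f : D.Frame 1) : Finset (f.M × F) :=
  haveI : Finite f.M := Module.finite_of_finite F
  haveI := Fintype.ofFinite F
  haveI := Fintype.ofFinite f.M
  Finset.univ.filter fun p => D.T (D.σ p.2) + D.Q (p.1 : V) = 0 ∧
    D.σ p.2 + D.ε * D.σ (D.σ p.2) + D.B (p.1 : V) (p.1 : V) = 0

theorem Frame.Q_pt (f : D.Frame 1) (p : f.M × F) :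
    D.Q (f.pt p) = D.T (D.σ p.2) + D.Q (p.1 : V) := by
  rw [Frame.pt, f.Q_combo _ _ p.1.2]; simp

theorem Frame.B_pt (f : D.Frame 1) (p : f.M × F) :
    D.B (f.pt p) (f.pt p) = D.σ p.2 + D.ε * D.σ (D.σ p.2) + D.B (p.1 : V) (p.1 : V) := by
  rw [Frame.pt, f.B_combo _ _ _ _ p.1.2 p.1.2]; simp

theorem Frame.mem_good (f : D.Frame 1) (p : f.M × F) :
    p ∈ f.good ↔ D.Q (f.pt p) = 0 ∧ D.B (f.pt p) (f.pt p) = 0 := by
  rw [f.Q_pt, f.B_pt, Frame.good, Finset.mem_filter]
  simp

theorem Frame.pt_line (f : D.Frame 1) {p : f.M × F} (hp : p ∈ f.good) :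
    Submodule.span F {f.pt p} ∈ D.Opp f.X := by
  obtain ⟨h1, h2⟩ := (f.mem_good p).mp hp
  have hc : f.cW (f.pt p) = fun _ => 1 := f.cW_combo _ _ p.1.2
  have h0 : f.pt p ≠ 0 := fun h => by
    rw [h, map_zero] at hc; exact zero_ne_one (congrFun hc 0)
  refine D.mem_Opp.mpr ⟨by simp [h0], D.isSing_span _ (by rintro _ rfl; exact h1)
    (by rintro _ rfl _ rfl; exact h2), by rw [finrank_span_singleton h0, f.finrank_X], ?_⟩
  rw [Submodule.eq_bot_iff]
  rintro v ⟨hv1, hv2⟩
  obtain ⟨c, rfl⟩ := Submodule.mem_span_singleton.mp hv1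
  have h3 : f.cW (c • f.pt p) 0 = 0 := hv2 _ (Submodule.subset_span ⟨0, rfl⟩)
  rw [map_smul, hc, Pi.smul_apply, smul_eq_mul, mul_one] at h3
  rw [h3, zero_smul]

theorem Frame.pt_inj (f : D.Frame 1) {p q : f.M × F}
    (h : Submodule.span F {f.pt p} = Submodule.span F {f.pt q}) : p = q := by
  have hm : f.pt p ∈ Submodule.span F {f.pt q} := h ▸ Submodule.mem_span_singleton_self _
  obtain ⟨c, hc⟩ := Submodule.mem_span_singleton.mp hm
  have h1 := congrArg (fun v => f.cW v 0) hc
  simp only [Frame.pt, map_smul, Pi.smul_apply, smul_eq_mul, f.cW_combo _ _ q.1.2,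
    f.cW_combo _ _ p.1.2, mul_one] at h1
  rw [h1, one_smul] at hc
  refine Prod.ext (Subtype.ext ?_) ?_
  · have := congrArg f.proj hc
    rw [Frame.pt, Frame.pt, f.proj_combo _ _ q.1.2, f.proj_combo _ _ p.1.2] at this
    exact this.symm
  · have := congrArg (fun v => f.cL v 0) hc
    simp only [Frame.pt, f.cL_combo _ _ q.1.2, f.cL_combo _ _ p.1.2] at this
    exact this.symm

theorem Frame.pt_surj (f : D.Frame 1) {b : Submodule F V} (hb : b ∈ D.Opp f.X) :
    ∃ p ∈ f.good, Submodule.span F {f.pt p} = b := by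
  obtain ⟨hb0, hbs, hbd, hbi⟩ := D.mem_Opp.mp hb
  obtain ⟨u, hu, hu0⟩ := Submodule.exists_mem_ne_zero_of_ne_bot hb0
  have hc0 : f.cW u 0 ≠ 0 := fun h => by
    refine hu0 ((Submodule.mem_bot F).mp (hbi ▸ Submodule.mem_inf.mpr ⟨hu, D.perp_span.mpr ?_⟩))
    rintro _ ⟨i, rfl⟩
    rw [Subsingleton.elim i 0]
    exact h
  set w := (f.cW u 0)⁻¹ • u with hw
  have hwb : w ∈ b := b.smul_mem _ hu
  have hc : f.cW w = fun _ => 1 := funext fun i => by
    rw [Subsingleton.elim i 0, hw, map_smul, Pi.smul_apply, smul_eq_mul, inv_mul_cancel₀ hc0]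
  let p : f.M × F := (⟨f.proj w, f.proj_mem w⟩, f.cL w 0)
  have hp : f.pt p = w := by
    conv_rhs => rw [← f.decomp w]
    have : f.cL w = fun _ => f.cL w 0 := funext fun i => by rw [Subsingleton.elim i 0]
    rw [Frame.pt, hc]
    conv_rhs => rw [this]
  refine ⟨p, (f.mem_good p).mpr ⟨hp ▸ hbs.1 w hwb, hp ▸ hbs.2 w hwb w hwb⟩, ?_⟩
  have hw0 : w ≠ 0 := smul_ne_zero (inv_ne_zero hc0) hu0
  rw [hp]
  exact Submodule.eq_of_le_of_finrank_eq ((Submodule.span_singleton_le_iff_mem _ _).mpr hwb)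
    (by rw [finrank_span_singleton hw0, hbd, f.finrank_X])

theorem card_Opp (f : D.Frame 1) : (D.Opp f.X).card = f.good.card := by
  symm
  refine Finset.card_bij (fun p _ => Submodule.span F {f.pt p}) (fun p hp => f.pt_line hp)
    (fun p _ q _ h => f.pt_inj h) fun b hb => ?_
  obtain ⟨p, hp, e⟩ := f.pt_surj hb
  exact ⟨p, hp, e⟩

/-- Every point of the orthogonal lifts to a singular point opposite to the line. -/
theorem Frame.exists_good (f : D.Frame 1) : ∀ m : f.M, ∃ a, (m, a) ∈ f.good := by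
  intro m
  set w := f.W (fun _ => 1) + (m : V) with hw
  set l' := D.ε⁻¹ • f.l 0
  have h1 : D.B w l' = 1 := by
    rw [D.smul_right, hw, D.add_left, D.symm_zero ((f.mem_M.mp m.2).1 0), add_zero, f.W_apply,
      D.sum_left]
    simp [D.smul_left, f.wl, D.hε]
  obtain ⟨c, hc1, hc2⟩ := D.lift w l' h1 (D.Q_smul _ _ (f.Ql 0))
    (by rw [D.smul_left, D.smul_right, f.ll]; simp)
  refine ⟨c * D.ε⁻¹, (f.mem_good _).mpr ?_⟩
  have : f.pt (m, c * D.ε⁻¹) = w + c • l' := by
    rw [Frame.pt, hw, f.L_apply, smul_smul]; simp; abel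
  rw [this]; exact ⟨hc1, hc2⟩

theorem card_good (f : D.Frame 1) : f.good.card = Nat.card f.M * Nat.card D.K := by
  haveI : Finite f.M := Module.finite_of_finite F
  have hex := f.exists_good
  choose a ha using hex
  have hiff : ∀ p : f.M × F, p ∈ f.good ↔ p.2 - a p.1 ∈ D.K := fun p => by
    have h := ha p.1
    rw [f.mem_good, f.Q_pt, f.B_pt] at h ⊢
    show _ ↔ D.T (D.σ (p.2 - a p.1)) = 0 ∧ D.σ (p.2 - a p.1) + D.ε * D.σ (D.σ (p.2 - a p.1)) = 0
    simp only [map_sub]
    constructor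
    · rintro ⟨h1, h2⟩; exact ⟨by linear_combination h1 - h.1, by linear_combination h2 - h.2⟩
    · rintro ⟨h1, h2⟩; exact ⟨by linear_combination h1 + h.1, by linear_combination h2 + h.2⟩
  rw [← Nat.card_eq_finsetCard, ← Nat.card_prod]
  exact Nat.card_congr
    { toFun := fun p => (p.1.1, ⟨p.1.2 - a p.1.1, (hiff p.1).mp p.2⟩)
      invFun := fun q => ⟨(q.1, (q.2 : F) + a q.1), (hiff _).mpr (by
        simp only [add_sub_cancel_right]; exact q.2.2)⟩
      left_inv := fun p => Subtype.ext (Prod.ext rfl (sub_add_cancel _ _))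
      right_inv := fun q => Prod.ext rfl (Subtype.ext (add_sub_cancel_right _ _)) }

theorem Frame.Y_mem_Opp {k : ℕ} (f : D.Frame k) (hk : 0 < k) : f.Y ∈ D.Opp f.X := by
  refine D.mem_Opp.mpr ⟨fun h => ?_, f.isSing_Y, f.finrank_Y.trans f.finrank_X.symm, ?_⟩
  · have := f.finrank_Y; rw [h, finrank_bot] at this; omega
  · rw [Submodule.eq_bot_iff]
    rintro v ⟨hv1, hv2⟩
    obtain ⟨c, rfl⟩ := f.mem_Y.mp hv1
    have : c = 0 := funext fun i => by
      have h := hv2 (f.l i) (Submodule.subset_span ⟨i, rfl⟩)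
      rwa [f.BlW] at h
    rw [this, map_zero]

theorem deg_eq_one_of_sing_empty (D : PForm F V) (h : D.sing = ∅) : D.deg = 1 := by
  rw [deg, PForm.e, D.subs_eq, h, Finset.filter_empty, eul_empty]; rfl

theorem exists_frame_line (D : PForm F V) (h : D.sing.Nonempty) : Nonempty (D.Frame 1) := by
  obtain ⟨x, hx⟩ := D.lines_nonempty h
  obtain ⟨hs, hd⟩ := D.mem_lines.mp hx
  obtain ⟨f, -⟩ := D.exists_frame x hs
  rw [hd] at f
  exact ⟨f⟩

end PForm

/-- The degree is a power of the characteristic. -/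
theorem deg_ppow (p : ℕ) [Fact p.Prime] [CharP F p] :
    ∀ (n : ℕ) (V : Type v) [AddCommGroup V] [Module F V] [Module.Finite F V] (D : PForm F V),
      Module.finrank F V = n → ∃ a, D.deg = p ^ a := by
  intro n
  induction n using Nat.strong_induction_on with
  | h n ih =>
  intro V _ _ _ D hn
  rcases D.sing.eq_empty_or_nonempty with h0 | hne
  · exact ⟨0, by rw [D.deg_eq_one_of_sing_empty h0, pow_zero]⟩
  obtain ⟨f⟩ := D.exists_frame_line hne
  obtain ⟨a, ha⟩ := ih _ (hn ▸ f.finrank_M_lt one_pos) f.M f.rest rfl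
  letI := Fintype.ofFinite F
  obtain ⟨e, hp, he⟩ := FiniteField.card F p
  have hF : Nat.card F = p ^ (e : ℕ) := by rw [Nat.card_eq_fintype_card, he]
  obtain ⟨c, -, hc⟩ := (Nat.dvd_prime_pow hp).mp (hF ▸ D.K.card_addSubgroup_dvd_card)
  have hM : Nat.card f.M = (p ^ (e : ℕ)) ^ Module.finrank F f.M := by
    rw [Module.natCard_eq_pow_finrank (K := F) (V := f.M), hF]
  refine ⟨e * Module.finrank F f.M + c + a, ?_⟩
  rw [PForm.deg_frame f, PForm.card_Opp f, PForm.card_good f, hM, hc, ha, pow_add, pow_add, pow_mul]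

end CfsgLib.PolarSt
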