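import Cfsg.Agent.Lib.PolarSteinberg.Vanish

/-!
Orthogonal groups in characteristic two: twice the degree divides the order.
-/

set_option autoImplicit false

namespace CfsgLib.PolarSt

open scoped Classical

universe u v

variable {F : Type u} [Field F] [Finite F]

/-- Orbit times stabiliser for an action given by a function. -/
theorem card_stab_mul {H α : Type*} [Group H] [Fintype H] (act : H → α → α)
    (hmul : ∀ a b x, act (a * b) x = act a (act b x)) (hone : ∀ x, act 1 x = x) (s : Finset α)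
    {a : α} (ha : a ∈ s) (hst : ∀ h, ∀ x ∈ s, act h x ∈ s) (htr : ∀ x ∈ s, ∀ y ∈ s, ∃ h, act h x = y) :
    s.card * (Finset.univ.filter fun h => act h a = a).card = Fintype.card H := by
  rw [← sum_stab act hmul hone s ⟨a, ha⟩ hst htr]
  have : ∀ x ∈ s, (Finset.univ.filter fun h => act h x = x).card =
      (Finset.univ.filter fun h => act h a = a).card := by
    intro x hx
    obtain ⟨t, rfl⟩ := htr a ha x hx
    have hinv : ∀ y, act t⁻¹ (act t y) = y := fun y => by rw [← hmul, inv_mul_cancel, hone]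
    refine Finset.card_bij' (fun h _ => t⁻¹ * h * t) (fun h _ => t * h * t⁻¹) ?_ ?_ ?_ ?_
    · intro h hh
      simp only [Finset.mem_filter, Finset.mem_univ, true_and] at hh ⊢
      rw [hmul, hmul, hh, hinv]
    · intro h hh
      simp only [Finset.mem_filter, Finset.mem_univ, true_and] at hh ⊢
      rw [hmul, hmul, hinv, hh]
    · intro h _; group
    · intro h _; group
  rw [Finset.sum_congr rfl this, Finset.sum_const, smul_eq_mul]

namespace PForm

variable {V : Type v} [AddCommGroup V] [Module F V] [Module.Finite F V] (D : PForm F V)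

/-- Quadratic forms with their polar form in characteristic two. -/
def IsRefl : Prop := (2 : F) = 0 ∧ (∀ a, D.T a = a) ∧ (∀ a, D.σ a = a) ∧ ∀ c v, D.Q (c • v) = c ^ 2 * D.Q v

variable {D}

theorem IsRefl.rest (h : D.IsRefl) {k : ℕ} (f : D.Frame k) : f.rest.IsRefl :=
  ⟨h.1, h.2.1, h.2.2.1, fun c v => h.2.2.2 c (v : V)⟩

theorem IsRefl.polar (h : D.IsRefl) (a b : V) : D.B a b = D.Q (a + b) - D.Q a - D.Q b := by
  rw [D.Q_add, h.2.1]; ring

theorem IsRefl.two_dvd (h : D.IsRefl) [Nontrivial V] : 2 ∣ Nat.card D.Iso := by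
  have hsymm : ∀ a b, D.B a b = D.B b a := fun a b => by
    rw [h.polar, h.polar, add_comm a b]; ring
  have hBvv : ∀ v, D.B v v = 0 := fun v => by
    rw [h.polar, ← two_smul F v, h.2.2.2, h.1]; linear_combination (-D.Q v) * h.1
  obtain ⟨v, hv⟩ : ∃ v, D.Q v ≠ 0 := by
    by_contra hall
    push Not at hall
    obtain ⟨u, hu⟩ := exists_ne (0 : V)
    exact hu (D.nondeg u fun w => by rw [h.polar, hall, hall, hall]; ring)
  obtain ⟨x, hx⟩ : ∃ x, D.B v x ≠ 0 := by
    by_contra hall
    push Not at hall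
    exact hv (by rw [D.nondeg v hall, D.Q_zero])
  let r : V →ₗ[F] V := LinearMap.id + ((D.Q v)⁻¹ • D.lin v).smulRight v
  have hr : ∀ y, r y = y + ((D.Q v)⁻¹ * D.B v y) • v := fun y => rfl
  have hrr : ∀ y, r (r y) = y := fun y => by
    rw [hr (r y), hr y, D.add_right, D.smul_right, hBvv, mul_zero, add_zero, add_assoc, ← two_smul F
      (((D.Q v)⁻¹ * D.B v y) • v), h.1, zero_smul, add_zero]
  let R : V ≃ₗ[F] V := LinearEquiv.ofLinearMap r r (LinearMap.ext hrr) (LinearMap.ext hrr)
  have hQ : ∀ y, D.Q (R y) = D.Q y := fun y => by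
    show D.Q (r y) = _
    rw [hr, D.Q_add, h.2.1, h.2.2.2, D.smul_right, hsymm y v]
    field_simp
    linear_combination (D.B v y ^ 2) * h.1
  have hR : R ∈ D.Iso := ⟨fun a b => by rw [h.polar, h.polar a b, ← map_add, hQ, hQ, hQ], hQ⟩
  have hne : (⟨R, hR⟩ : D.Iso) ≠ 1 := fun e => by
    have h1 : r x = x := congrArg (fun t : D.Iso => (t : V ≃ₗ[F] V) x) e
    rw [hr, add_eq_left, smul_eq_zero] at h1
    rcases h1 with h1 | h1
    · exact mul_ne_zero (inv_ne_zero hv) hx h1
    · exact hv (by rw [h1, D.Q_zero])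
  have ho : orderOf (⟨R, hR⟩ : D.Iso) = 2 := by
    refine orderOf_eq_prime ?_ hne
    rw [sq]
    exact Subtype.ext (LinearEquiv.ext hrr)
  exact ho ▸ orderOf_dvd_natCard _

theorem card_pair_dvd (f : D.Frame 1) :
    (D.Opp f.X).card * Nat.card f.rest.Iso ∣ Nat.card D.Iso := by
  have hY := f.Y_mem_Opp one_pos
  have hs := card_stab_mul (fun (g : stabS D.Iso f.X) (W : Submodule F V) =>
      W.map (((g : D.Iso) : V ≃ₗ[F] V) : V →ₗ[F] V)) (fun a b W => by rw [← Submodule.map_comp]; rfl)
    (fun W => Submodule.map_id W) (D.Opp f.X) hY (fun g b hb => ?_) (fun b hb b' hb' => ?_)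
  · have hp : (Finset.univ.filter fun g : stabS D.Iso f.X =>
        f.Y.map (((g : D.Iso) : V ≃ₗ[F] V) : V →ₗ[F] V) = f.Y).card = Fintype.card (pairStab f) := by
      rw [← Fintype.card_subtype]
      exact Fintype.card_congr
        { toFun := fun g => ⟨g.1.1, g.1.2, g.2⟩
          invFun := fun g => ⟨⟨g.1, g.2.1⟩, g.2.2⟩
          left_inv := fun _ => rfl
          right_inv := fun _ => rfl }
    replace hs : (D.Opp f.X).card * Fintype.card (pairStab f) = Fintype.card (stabS D.Iso f.X) := by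
      rw [← hs, ← hp]; congr! 3
    rw [Fintype.card_of_bijective (pairHom_bijective f), Fintype.card_prod] at hs
    simp only [Nat.card_eq_fintype_card]
    refine dvd_trans ⟨Fintype.card (f.X ≃ₗ[F] f.X), ?_⟩ (Nat.card_eq_fintype_card (α := D.Iso) ▸
      Subgroup.card_subgroup_dvd_card (stabS D.Iso f.X))
    rw [Nat.card_eq_fintype_card, ← hs]
    ring
  · obtain ⟨hb0, hbs, hbd, hbi⟩ := D.mem_Opp.mp hb
    refine D.mem_Opp.mpr ⟨fun e => hb0 ?_, D.isSing_map (g : D.Iso).2 hbs,
      (((g : D.Iso) : V ≃ₗ[F] V).finrank_map_eq b).trans hbd, ?_⟩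
    · exact Submodule.map_injective_of_injective ((g : D.Iso) : V ≃ₗ[F] V).injective
        (e.trans (Submodule.map_bot _).symm)
    · rw [← D.perp_invariant (g : D.Iso).2 (mem_stabS.mp g.2),
        ← Submodule.map_inf _ ((g : D.Iso) : V ≃ₗ[F] V).injective, hbi, Submodule.map_bot]
  · obtain ⟨g, hg1, hg2⟩ := D.opp_trans f.isSing_X hb hb'
    exact ⟨⟨g, hg1⟩, hg2⟩

end PForm

/-- In characteristic two twice a non-trivial degree divides the order. -/
theorem two_deg_dvd : ∀ (n : ℕ) (V : Type v) [AddCommGroup V] [Module F V] [Module.Finite F V]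
    (D : PForm F V), Module.finrank F V = n → D.IsRefl → 1 < D.deg → 2 * D.deg ∣ Nat.card D.Iso := by
  intro n
  induction n using Nat.strong_induction_on with
  | h n ih =>
  intro V _ _ _ D hn hR hd
  rcases D.sing.eq_empty_or_nonempty with h0 | hne
  · exact absurd (D.deg_eq_one_of_sing_empty h0) hd.ne'
  obtain ⟨f⟩ := D.exists_frame_line hne
  refine dvd_trans ?_ (PForm.card_pair_dvd f)
  rw [PForm.deg_frame f, ← mul_assoc, mul_comm 2, mul_assoc]
  refine mul_dvd_mul_left _ ?_
  by_cases h1 : 1 < f.rest.deg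
  · exact ih _ (hn ▸ f.finrank_M_lt one_pos) f.M f.rest rfl (hR.rest f) h1
  have h1' : f.rest.deg = 1 := le_antisymm (not_lt.mp h1) f.rest.deg_pos
  rcases subsingleton_or_nontrivial f.M with hM | hM
  · exfalso
    rw [PForm.deg_frame f, h1', mul_one, PForm.card_Opp f, PForm.card_good f,
      Nat.card_of_subsingleton (0 : f.M), one_mul] at hd
    haveI : Subsingleton D.K := ⟨fun a b => Subtype.ext (by
      have ha := a.2.1; have hb := b.2.1
      rw [hR.2.1, hR.2.2.1] at ha hb
      rw [ha, hb])⟩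
    rw [Nat.card_of_subsingleton (0 : D.K)] at hd
    exact lt_irrefl _ hd
  · rw [h1', mul_one]
    exact (hR.rest f).two_dvd

end CfsgLib.PolarSt
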