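import Cfsg.Agent.Lib.PolarSteinberg.Centre
import Cfsg.Agent.Lib.PolarSteinberg.Refl
import Cfsg.Agent.Lib.CharTheory.Degree

/-!
Descent of the character to normal subgroups and their central quotients.
-/

set_option autoImplicit false

namespace CfsgLib.PolarSt

open scoped Classical ComplexConjugate
open Cfsg CfsgLib.CharTheory

universe u v w

/-- The sum of a class function over a Sylow subgroup does not depend on the choice. -/
theorem sum_sylow_eq {H : Type w} [Group H] [Fintype H] {p : ℕ} [Fact p.Prime] {θ : H → ℂ}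
    (hθ : IsClassFunction H θ) (P Q : Sylow p H) : ∑ x : P, θ (x : H) = ∑ x : Q, θ (x : H) := by
  obtain ⟨h, rfl⟩ := MulAction.exists_smul_eq H P Q
  symm
  refine Fintype.sum_equiv
    { toFun := fun x : ↥(h • P) => (⟨h⁻¹ * x * h, by
        have : (x : H) ∈ ((h • P : Sylow p H) : Subgroup H) := x.2
        rw [Sylow.coe_subgroup_smul, Subgroup.mem_pointwise_smul_iff_inv_smul_mem] at this
        have h' : h⁻¹ * (x : H) * h ∈ (P : Subgroup H) := by simpa using this
        exact h'⟩ : P)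
      invFun := fun x => ⟨h * x * h⁻¹, by
        show h * (x : H) * h⁻¹ ∈ ((h • P : Sylow p H) : Subgroup H)
        rw [Sylow.coe_subgroup_smul, Subgroup.mem_pointwise_smul_iff_inv_smul_mem]
        simp [mul_assoc]⟩
      left_inv := fun x => Subtype.ext (by simp [mul_assoc])
      right_inv := fun x => Subtype.ext (by simp [mul_assoc]) } _ _ fun x => ?_
  show θ (x : H) = θ (h⁻¹ * x * h)
  rw [← hθ (x : H) h⁻¹, inv_inv]

/-- An irreducible character with total one on a Sylow subgroup of a normal subgroup restricts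
irreducibly. -/
theorem irr_restrict_of_sylow {G : Type w} [Group G] [Fintype G] (N : Subgroup G) [N.Normal] [Fintype N]
    {p : ℕ} [Fact p.Prime] {χ : G → ℂ} (hχ : IsIrrCharacter G χ)
    (hsum : ∀ P : Sylow p N, ∑ x : P, χ ((x : N) : G) = Nat.card P) :
    IsIrrCharacter N (fun x : N => χ x) := by
  have hres := isCharacter_restrict (isCharacter_of_irr hχ) N
  have hne : (fun x : N => χ x) ≠ 0 := fun h => irr_ne_zero hχ (congrFun h 1)
  obtain ⟨θ, hθ, hc⟩ := exists_constituent hres hne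
  have hcl := clifford N hχ hθ hc
  obtain ⟨c, hcn⟩ := classInner_char_nat hres (isCharacter_of_irr hθ)
  obtain ⟨P⟩ := (inferInstance : Nonempty (Sylow p N))
  have hconj : ∀ ψ ∈ conjOrbit N θ, ∑ x : P, ψ (x : N) = ∑ x : P, θ (x : N) := by
    intro ψ hψ
    obtain ⟨g, rfl⟩ := (mem_conjOrbit N).mp hψ
    let α : N ≃* N := MulAut.conjNormal g
    let P' : Sylow p N := P.mapSurjective (f := α.toMonoidHom) α.surjective
    rw [sum_sylow_eq (isClassFunction_irr hθ) P P']
    refine Fintype.sum_equiv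
      ((Subgroup.equivMapOfInjective (P : Subgroup N) α.toMonoidHom α.injective).toEquiv.trans
        (MulEquiv.subgroupCongr (Sylow.coe_mapSurjective α.surjective P).symm).toEquiv) _ _ fun x => ?_
    rw [conjNormFun_eq]
    rfl
  obtain ⟨a, ha⟩ := classInner_char_nat
    (isCharacter_comp (isCharacter_of_irr hθ) (P : Subgroup N).subtype) (isCharacter_one (G := P))
  have hsθ : ∑ x : P, θ (x : N) = (Nat.card P : ℂ) * a := by
    rw [← ha, classInner]
    simp only [map_one, mul_one]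
    rw [mul_inv_cancel_left₀ (Nat.cast_ne_zero.mpr Nat.card_pos.ne')]
    rfl
  have h := hsum P
  rw [hcn] at hcl
  have hpt : ∀ n : N, χ (n : G) = _ := fun n => congrFun hcl n
  simp only [hpt] at h
  simp only [Pi.smul_apply, smul_eq_mul, Finset.sum_apply] at h
  rw [← Finset.mul_sum, Finset.sum_comm, Finset.sum_congr rfl hconj, Finset.sum_const, hsθ,
    nsmul_eq_mul] at h
  have h' : c * ((conjOrbit N θ).card * (Nat.card P * a)) = Nat.card P := by exact_mod_cast h
  have h'' : c * (conjOrbit N θ).card * a = 1 := by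
    have : Nat.card P * (c * (conjOrbit N θ).card * a) = Nat.card P * 1 := by
      rw [mul_one]; linarith
    exact Nat.eq_of_mul_eq_mul_left Nat.card_pos this
  have h1 := (mul_eq_one.mp h'').1
  obtain ⟨hc1, ho⟩ := mul_eq_one.mp h1
  obtain ⟨ψ, hψ⟩ := Finset.card_eq_one.mp ho
  have hθmem : θ ∈ conjOrbit N θ := (mem_conjOrbit N).mpr ⟨1, by funext n; simp [conjNormFun]⟩
  rw [hψ, Finset.mem_singleton] at hθmem
  rw [hcl, hψ, Finset.sum_singleton, ← hθmem, hc1, Nat.cast_one, one_smul]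
  exact hθ

/-- The data descending to a Steinberg character of the central quotient. -/
def HasSteinberg (H : Type w) [Group H] (p : ℕ) : Prop :=
  ∃ χ : H → ℂ, IsIrrCharacter H χ ∧ (∀ z ∈ Subgroup.center H, χ z = χ 1) ∧
    (∀ P : Sylow p H, χ 1 = Nat.card P) ∧ ∀ x : H, x ≠ 1 → (∃ k : ℕ, x ^ p ^ k = 1) → χ x = 0

theorem HasSteinberg.of_equiv {H K : Type w} [Group H] [Group K] [Finite H] [Finite K] {p : ℕ}
    [Fact p.Prime] (e : H ≃* K) (h : HasSteinberg K p) : HasSteinberg H p := by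
  obtain ⟨χ, hirr, hz, hd, hv⟩ := h
  refine ⟨fun x => χ (e x), isIrrCharacter_comp_surjective hirr e.toMonoidHom e.surjective,
    fun z hz' => ?_, fun P => ?_, fun x hx ⟨k, hk⟩ => hv _ (fun h => hx (e.injective (h.trans (map_one e).symm)))
      ⟨k, by rw [← map_pow, hk, map_one]⟩⟩
  · show χ (e z) = χ (e 1)
    rw [map_one]
    refine hz _ (Subgroup.mem_center_iff.mpr fun g => ?_)
    obtain ⟨g, rfl⟩ := e.surjective g
    rw [← map_mul, ← map_mul, Subgroup.mem_center_iff.mp hz' g]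
  · show χ (e 1) = _
    rw [map_one, hd (P.mapSurjective (f := e.toMonoidHom) e.surjective)]
    exact congrArg Nat.cast (Nat.card_congr (Subgroup.equivMapOfInjective (P : Subgroup H) e.toMonoidHom e.injective).toEquiv.symm)

/-- A Steinberg character of the central quotient. -/
theorem HasSteinberg.quotient {H : Type w} [Group H] [Finite H] {p : ℕ} [Fact p.Prime]
    (h : HasSteinberg H p) : ∃ χ : H ⧸ Subgroup.center H → ℂ,
      IsIrrCharacter (H ⧸ Subgroup.center H) χ ∧ ∀ P : Sylow p (H ⧸ Subgroup.center H),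
        χ 1 = Nat.card P ∧ ∀ x : H ⧸ Subgroup.center H, x ∈ P → x ≠ 1 → χ x = 0 := by
  haveI := Fintype.ofFinite H
  haveI : Finite (H ⧸ Subgroup.center H) := Quotient.finite _
  obtain ⟨χ, hirr, hz, hd, hv⟩ := h
  obtain ⟨ψ, hψ, he⟩ := exists_quotient_irr (Subgroup.center H) hirr hz
  refine ⟨ψ, hψ, fun P => ⟨?_, fun x hx hx1 => ?_⟩⟩
  · obtain ⟨Q⟩ := (inferInstance : Nonempty (Sylow p H))
    have hinj : Function.Injective ((QuotientGroup.mk' (Subgroup.center H)).comp (Q : Subgroup H).subtype) := by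
      rw [injective_iff_map_eq_one]
      intro u hu
      have hu' : (u : H) ∈ Subgroup.center H := (QuotientGroup.eq_one_iff _).mp hu
      by_contra hne
      obtain ⟨k, hk⟩ := Q.2 u
      have h0 := hv (u : H) (fun e => hne (Subtype.ext e)) ⟨k, congrArg Subtype.val hk⟩
      rw [hz _ hu'] at h0
      exact irr_ne_zero hirr h0
    let R := Q.mapSurjective (QuotientGroup.mk'_surjective (Subgroup.center H))
    rw [show ψ 1 = χ 1 from (congrFun he 1).symm, hd Q,
      Nat.card_congr (P.equiv R).toEquiv, Sylow.coe_mapSurjective]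
    refine congrArg Nat.cast (Nat.card_congr (Equiv.ofBijective
      (fun u => (⟨QuotientGroup.mk' (Subgroup.center H) (u : H), Subgroup.mem_map_of_mem _ u.2⟩ :
        (Q : Subgroup H).map (QuotientGroup.mk' (Subgroup.center H)))) ⟨?_, ?_⟩))
    · exact fun a b hab => hinj (congrArg Subtype.val hab)
    · rintro ⟨_, a, ha, rfl⟩; exact ⟨⟨a, ha⟩, rfl⟩
  · obtain ⟨a, rfl⟩ := QuotientGroup.mk_surjective x
    obtain ⟨k, hk⟩ := P.2 ⟨_, hx⟩
    have hk' : (a : H ⧸ Subgroup.center H) ^ p ^ k = 1 := congrArg Subtype.val hk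
    obtain ⟨j, r, hr, he'⟩ := Nat.exists_eq_pow_mul_and_not_dvd (orderOf_pos a).ne' p
      (Fact.out : p.Prime).ne_one
    have hcop : r.Coprime (orderOf (a : H ⧸ Subgroup.center H)) :=
      Nat.Coprime.of_dvd_right (orderOf_dvd_of_pow_eq_one hk')
        (Nat.Coprime.pow_right k ((Fact.out : p.Prime).coprime_iff_not_dvd.mpr hr).symm)
    obtain ⟨m, hm⟩ := exists_pow_eq_self_of_coprime hcop
    have hu : (((a ^ r) ^ m : H) : H ⧸ Subgroup.center H) = a := by
      rw [QuotientGroup.mk_pow, QuotientGroup.mk_pow, hm]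
    rw [← hu, show ψ ((((a ^ r) ^ m : H) : H ⧸ Subgroup.center H)) = χ ((a ^ r) ^ m) from (congrFun he _).symm]
    refine hv _ (fun e => hx1 ?_) ⟨j, ?_⟩
    · rw [← hu, e]; rfl
    · rw [← pow_mul, ← pow_mul, show r * (m * p ^ j) = orderOf a * m by rw [he']; ring, pow_mul,
        pow_orderOf_eq_one, one_pow]

variable {F : Type u} [Field F] [Finite F] {V : Type v} [AddCommGroup V] [Module F V] [Module.Finite F V]

/-- The central element takes the value of the identity. -/
theorem PForm.center_value (D : PForm F V) (p : ℕ) [Fact p.Prime] [CharP F p] (N : Subgroup D.Iso)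
    [Fintype N] (s : ℤ) (hs : s = 1 ∨ s = -1)
    (hirr : IsIrrCharacter N (fun x : N => ((s * D.e ((x : D.Iso) : V ≃ₗ[F] V) : ℤ) : ℂ)))
    (P : Sylow p N) (hP : Nat.card P = D.deg) (hd : 1 < D.deg)
    (hgood : ∀ x : N, x ≠ 1 → (∃ k : ℕ, x ^ p ^ k = 1) → D.Good ((x : D.Iso) : V ≃ₗ[F] V))
    {z : N} (hz : z ∈ Subgroup.center N) : D.e ((z : D.Iso) : V ≃ₗ[F] V) = D.e 1 := by
  have habs : (D.e ((z : D.Iso) : V ≃ₗ[F] V)).natAbs = D.deg := by
    obtain ⟨n, ρ, hρ, he⟩ := hirr
    obtain ⟨ω, hω⟩ := @exists_scalar_of_mem_center _ _ _ _ _ _ _ ρ hρ _ hz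
    have h1 : ((s * D.e ((z : D.Iso) : V ≃ₗ[F] V) : ℤ) : ℂ) = ω * ((s * D.e 1 : ℤ) : ℂ) := by
      rw [← congrFun he z]
      conv_rhs => rw [show ((s * D.e 1 : ℤ) : ℂ) = ρ.character 1 from (congrFun he 1).symm]
      rw [Representation.char_one]
      simp [Representation.character, hω, LinearMap.map_smul]
    have hwn : ‖ω‖ = 1 := by
      obtain ⟨k, hk, hzk⟩ : ∃ k, 0 < k ∧ z ^ k = 1 := ⟨orderOf z, orderOf_pos z, pow_orderOf_eq_one z⟩
      refine Complex.norm_eq_one_of_pow_eq_one (n := k) ?_ hk.ne'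
      have h2 : ρ (z ^ k) = ω ^ k • (LinearMap.id : (Fin n → ℂ) →ₗ[ℂ] (Fin n → ℂ)) := by
        rw [map_pow, hω, smul_pow]
        congr 1
        exact one_pow k
      rw [hzk, map_one] at h2
      have hn : n ≠ 0 := fun e => by
        subst e
        have h0 : ρ.character 1 = 0 := by rw [Representation.char_one]; simp
        rw [congrFun he 1] at h0
        simp only [OneMemClass.coe_one, Int.cast_eq_zero, mul_eq_zero] at h0
        rcases h0 with h0 | h0
        · rcases hs with rfl | rfl <;> norm_num at h0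
        · exact D.deg_pos.ne' (by rw [PForm.deg, h0]; rfl)
      have h3 := congrFun (LinearMap.congr_fun h2 (fun _ => 1)) ⟨0, Nat.pos_of_ne_zero hn⟩
      simpa using h3.symm
    have h4 := congrArg norm h1
    rw [norm_mul, hwn, one_mul, Complex.norm_intCast, Complex.norm_intCast, ← Int.cast_abs, ← Int.cast_abs,
      Int.cast_inj, Int.abs_eq_natAbs, Int.abs_eq_natAbs, Int.natCast_inj, Int.natAbs_mul,
      Int.natAbs_mul] at h4
    rcases hs with rfl | rfl <;> simpa [PForm.deg] using h4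
  refine PForm.center_eq p (z : D.Iso) ((P : Subgroup N).map N.subtype)
    (P.2.map _) ?_ ?_ ?_ hd habs
  · rintro u ⟨x, hx, rfl⟩ hu
    obtain ⟨k, hk⟩ := P.2 ⟨x, hx⟩
    exact hgood x (fun e => hu (by rw [e]; rfl)) ⟨k, congrArg Subtype.val hk⟩
  · rintro u ⟨x, -, rfl⟩
    exact congrArg N.subtype (Subgroup.mem_center_iff.mp hz x)
  · rw [← hP]
    exact Nat.card_congr (Subgroup.equivMapOfInjective _ _ N.subtype_injective).toEquiv.symm

/-- The normal subgroup carries a Steinberg character. -/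
theorem PForm.hasSteinberg (D : PForm F V) (p : ℕ) [Fact p.Prime] [CharP F p] (N : Subgroup D.Iso)
    [N.Normal] (hgood : ∀ x : N, x ≠ 1 → (∃ k : ℕ, x ^ p ^ k = 1) → D.Good ((x : D.Iso) : V ≃ₗ[F] V))
    (hidx : ¬ p ∣ N.index ∨ (p = 2 ∧ D.IsRefl ∧ N.index ∣ 2)) : HasSteinberg N p := by
  haveI := Fintype.ofFinite N
  have hgood' : ∀ (P : Sylow p N) (u : P), u ≠ 1 →
      D.Good ((((u : N)) : D.Iso) : V ≃ₗ[F] V) := fun P u hu => by
    obtain ⟨k, hk⟩ := P.2 u
    exact hgood u (fun e => hu (Subtype.ext e)) ⟨k, congrArg Subtype.val hk⟩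
  have hdvd : ∀ P : Sylow p N, Nat.card P ∣ D.deg := fun P =>
    PForm.card_dvd_deg (N.subtype.comp (P : Subgroup N).subtype)
      (fun a b h => Subtype.ext (Subtype.ext h)) fun u hu => hgood' P u hu
  obtain ⟨a, ha⟩ := deg_ppow p (Module.finrank F V) V D rfl
  rcases Nat.lt_or_ge 1 D.deg with hd | hd
  swap
  · have hd1 : D.deg = 1 := le_antisymm hd D.deg_pos
    have hP1 : ∀ P : Sylow p N, Nat.card P = 1 := fun P => Nat.eq_one_of_dvd_one (hd1 ▸ hdvd P)
    refine ⟨fun _ => 1, isIrrCharacter_one, fun _ _ => rfl, fun P => by rw [hP1 P, Nat.cast_one],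
      fun x hx ⟨k, hk⟩ => ?_⟩
    exfalso
    have hp : IsPGroup p (Subgroup.zpowers x) := IsPGroup.of_card (n := Nat.factorization (orderOf x) p) (by
      rw [Nat.card_zpowers]
      obtain ⟨j, -, hj⟩ := (Nat.dvd_prime_pow Fact.out).mp (orderOf_dvd_of_pow_eq_one hk)
      rw [hj, (Fact.out : p.Prime).factorization_pow, Finsupp.single_eq_same])
    obtain ⟨P, hP⟩ := hp.exists_le_sylow
    haveI := (Nat.card_eq_one_iff_unique.mp (hP1 P)).1
    exact hx (congrArg Subtype.val (Subsingleton.elim (⟨x, hP (Subgroup.mem_zpowers x)⟩ : P) 1))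
  have hcard : ∀ P : Sylow p N, Nat.card P = D.deg := by
    intro P
    refine Nat.dvd_antisymm (hdvd P) ?_
    have hN : D.deg ∣ Nat.card N := by
      rcases hidx with h | ⟨rfl, hR, h⟩
      · refine Nat.Coprime.dvd_of_dvd_mul_left (k := D.deg) (m := N.index) ?_
          (by rw [mul_comm, N.card_mul_index]; exact D.deg_dvd_card)
        rw [ha]
        exact Nat.Coprime.pow_left _ ((Fact.out : p.Prime).coprime_iff_not_dvd.mpr h)
      · have h2 := two_deg_dvd (Module.finrank F V) V D rfl hR hd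
        rw [← N.card_mul_index, mul_comm (Nat.card N)] at h2
        exact Nat.dvd_of_mul_dvd_mul_left two_pos (h2.trans (mul_dvd_mul_right h _))
    rw [← (P : Subgroup N).card_mul_index] at hN
    refine Nat.Coprime.dvd_of_dvd_mul_right ?_ hN
    rw [ha]
    exact Nat.Coprime.pow_left _ ((Fact.out : p.Prime).coprime_iff_not_dvd.mpr P.not_dvd_index)
  obtain ⟨s, hs, hirr⟩ := D.exists_irr
  have h1 : ((s * D.e 1 : ℤ) : ℂ) = (D.deg : ℂ) := by
    obtain ⟨d, -, hd'⟩ := irr_degree_pos hirr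
    simp only [OneMemClass.coe_one] at hd'
    rw [hd']
    have h2 : s * D.e 1 = (d : ℤ) := by exact_mod_cast hd'
    have h3 := congrArg Int.natAbs h2
    rw [Int.natAbs_mul, Int.natAbs_natCast] at h3
    rcases hs with rfl | rfl <;> simp [PForm.deg, ← h3]
  have hvan : ∀ x : N, x ≠ 1 → (∃ k : ℕ, x ^ p ^ k = 1) → D.e ((x : D.Iso) : V ≃ₗ[F] V) = 0 :=
    fun x hx hk => e_good _ V D rfl _ (x : D.Iso).2 (hgood x hx hk) fun e => hx (Subtype.ext (Subtype.ext e))
  have hres := irr_restrict_of_sylow (p := p) N hirr fun P => by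
    rw [Finset.sum_eq_single 1 (fun u _ hu => ?_) (by simp)]
    · simp only [OneMemClass.coe_one]; rw [h1, hcard]
    · obtain ⟨k, hk⟩ := P.2 u
      rw [hvan (u : N) (fun e => hu (Subtype.ext e)) ⟨k, congrArg Subtype.val hk⟩, mul_zero, Int.cast_zero]
  refine ⟨_, hres, fun z hz => ?_, fun P => ?_, fun x hx hk => ?_⟩
  · obtain ⟨P⟩ := (inferInstance : Nonempty (Sylow p N))
    show ((s * D.e ((z : D.Iso) : V ≃ₗ[F] V) : ℤ) : ℂ) = _
    rw [D.center_value p N s hs hres P (hcard P) hd hgood hz]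
    rfl
  · show ((s * D.e 1 : ℤ) : ℂ) = _
    rw [h1, hcard]
  · show ((s * D.e ((x : D.Iso) : V ≃ₗ[F] V) : ℤ) : ℂ) = 0
    rw [hvan x hx hk, mul_zero, Int.cast_zero]

end CfsgLib.PolarSt
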