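import Mathlib

/-!
The reduced Euler characteristic of a finite poset, given by a finite set in a partial order.
-/

set_option autoImplicit false

namespace CfsgLib.PolarSt

open scoped Classical

variable {α β : Type*} [PartialOrder α] [PartialOrder β]

/-- Reduced Euler characteristic of the order complex. -/
noncomputable def eul (s : Finset α) : ℤ :=
  -1 - ∑ x ∈ s.attach, eul (s.filter fun y => x.1 < y)
termination_by s.card
decreasing_by
  exact Finset.card_lt_card (Finset.filter_ssubset.mpr ⟨x.1, x.2, lt_irrefl _⟩)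

theorem eul_eq (s : Finset α) : eul s = -1 - ∑ x ∈ s, eul (s.filter fun y => x < y) := by
  rw [eul, Finset.sum_attach s fun x => eul (s.filter fun y => x < y)]

theorem eul_empty : eul (∅ : Finset α) = -1 := by rw [eul_eq]; simp

theorem eul_peel (s : Finset α) {x : α} (hx : x ∈ s) :
    eul s = eul (s.erase x) + eul (s.filter (· < x)) * eul (s.filter (x < ·)) := by
  induction h : s.card using Nat.strong_induction_on generalizing s with
  | h n ih =>
    subst h
    set U := s.filter (x < ·) with hU
    have hstep : ∀ y ∈ s.erase x, eul (s.filter (y < ·)) - eul ((s.erase x).filter (y < ·)) =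
        if y < x then eul ((s.filter (· < x)).filter (y < ·)) * eul U else 0 := by
      intro y hy
      obtain ⟨hyx, hys⟩ := Finset.mem_erase.mp hy
      have e : (s.erase x).filter (y < ·) = (s.filter (y < ·)).erase x := Finset.filter_erase _ _ _
      by_cases hlt : y < x
      · have hxm : x ∈ s.filter (y < ·) := Finset.mem_filter.mpr ⟨hx, hlt⟩
        rw [if_pos hlt, e, ih _ (Finset.card_lt_card (Finset.filter_ssubset.mpr ⟨y, hys, lt_irrefl _⟩))
          (s.filter (y < ·)) hxm rfl]
        have e1 : (s.filter (y < ·)).filter (· < x) = (s.filter (· < x)).filter (y < ·) :=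
          Finset.filter_comm _ _ _
        have e2 : (s.filter (y < ·)).filter (x < ·) = U := by
          rw [hU, Finset.filter_filter]
          exact Finset.filter_congr fun z _ => ⟨fun h => h.2, fun h => ⟨hlt.trans h, h⟩⟩
        rw [e1, e2]; ring
      · rw [if_neg hlt, e, Finset.erase_eq_of_notMem, sub_self]
        exact fun h => hlt (Finset.mem_filter.mp h).2
    rw [eul_eq s, eul_eq (s.erase x), eul_eq (s.filter (· < x)), ← Finset.add_sum_erase s _ hx]
    have := Finset.sum_congr rfl hstep
    rw [Finset.sum_sub_distrib, ← Finset.sum_filter] at this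
    have e3 : (s.erase x).filter (· < x) = s.filter (· < x) := by
      rw [Finset.filter_erase, Finset.erase_eq_of_notMem]
      exact fun h => lt_irrefl x (Finset.mem_filter.mp h).2
    rw [e3, ← Finset.sum_mul] at this
    linear_combination -this

theorem eul_max (s : Finset α) {x : α} (hx : x ∈ s) (hmax : ∀ y ∈ s, ¬ x < y) :
    eul s = eul (s.erase x) - eul (s.filter (· < x)) := by
  rw [eul_peel s hx, Finset.filter_eq_empty_iff.mpr hmax, eul_empty]
  ring

/-- The recursion from the top. -/
theorem eul_eq_down (s : Finset α) : eul s = -1 - ∑ x ∈ s, eul (s.filter (· < x)) := by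
  induction h : s.card using Nat.strong_induction_on generalizing s with
  | h n ih =>
    subst h
    rcases s.eq_empty_or_nonempty with rfl | hne
    · simp [eul_empty]
    · obtain ⟨x, hx⟩ := s.exists_maximal hne
      have hmax : ∀ y ∈ s, ¬ x < y := fun y hy hxy => not_le_of_gt hxy (hx.2 hy hxy.le)
      rw [eul_max s hx.1 hmax, ih _ (Finset.card_erase_lt_of_mem hx.1) (s.erase x) rfl,
        ← Finset.add_sum_erase s _ hx.1]
      have : ∑ y ∈ s.erase x, eul ((s.erase x).filter (· < y)) =
          ∑ y ∈ s.erase x, eul (s.filter (· < y)) := by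
        refine Finset.sum_congr rfl fun y hy => ?_
        rw [Finset.filter_erase, Finset.erase_eq_of_notMem]
        exact fun h => hmax y (Finset.mem_of_mem_erase hy) (Finset.mem_filter.mp h).2
      rw [this]; ring

/-- A least element makes the complex a cone. -/
theorem eul_least (s : Finset α) {z : α} (hz : z ∈ s) (hle : ∀ y ∈ s, z ≤ y) : eul s = 0 := by
  have e : s.filter (z < ·) = s.erase z := by
    ext y
    simp only [Finset.mem_filter, Finset.mem_erase]
    exact ⟨fun h => ⟨h.2.ne', h.1⟩, fun h => ⟨h.2, lt_of_le_of_ne (hle y h.2) (Ne.symm h.1)⟩⟩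
  have e2 : s.filter (· < z) = ∅ :=
    Finset.filter_eq_empty_iff.mpr fun y hy h => not_le_of_gt h (hle y hy)
  rw [eul_peel s hz, e, e2, eul_empty]
  ring

theorem eul_greatest (s : Finset α) {z : α} (hz : z ∈ s) (hle : ∀ y ∈ s, y ≤ z) : eul s = 0 := by
  have e : s.filter (· < z) = s.erase z := by
    ext y
    simp only [Finset.mem_filter, Finset.mem_erase]
    exact ⟨fun h => ⟨h.2.ne, h.1⟩, fun h => ⟨h.2, lt_of_le_of_ne (hle y h.2) h.1⟩⟩
  have e2 : s.filter (z < ·) = ∅ :=
    Finset.filter_eq_empty_iff.mpr fun y hy h => not_le_of_gt h (hle y hy)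
  rw [eul_peel s hz, e, e2, eul_empty]
  ring

/-- A decreasing monotone retraction preserves the Euler characteristic. -/
theorem eul_retract_down (T : Finset α) : ∀ (s : Finset α), T ⊆ s → ∀ r : α → α,
    (∀ x ∈ s, r x ∈ T) → (∀ x ∈ s, r x ≤ x) → (∀ x ∈ T, r x = x) →
    (∀ x ∈ s, ∀ y ∈ s, x ≤ y → r x ≤ r y) → eul s = eul T := by
  intro s
  induction h : (s \ T).card using Nat.strong_induction_on generalizing s with
  | h n ih =>
    subst h
    intro hT r hr1 hr2 hr3 hr4
    rcases (s \ T).eq_empty_or_nonempty with he | hne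
    · rw [Finset.Subset.antisymm (Finset.sdiff_eq_empty_iff_subset.mp he) hT]
    · obtain ⟨x, hxm, hx⟩ := (s \ T).exists_minimal hne
      obtain ⟨hxs, hxT⟩ := Finset.mem_sdiff.mp hxm
      have hlt : r x < x := lt_of_le_of_ne (hr2 x hxs) fun e => hxT (e ▸ hr1 x hxs)
      have hg : eul (s.filter (· < x)) = 0 := by
        refine eul_greatest _ (z := r x) (Finset.mem_filter.mpr ⟨hT (hr1 x hxs), hlt⟩) fun y hy => ?_
        obtain ⟨hys, hyx⟩ := Finset.mem_filter.mp hy
        have hyT : y ∈ T := by
          by_contra hyT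
          exact not_le_of_gt hyx (hx (Finset.mem_sdiff.mpr ⟨hys, hyT⟩) hyx.le)
        exact hr3 y hyT ▸ hr4 y hys x hxs hyx.le
      rw [eul_peel s hxs, hg, zero_mul, add_zero]
      refine ih _ ?_ (s.erase x) rfl (fun y hy => Finset.mem_erase.mpr ⟨fun e => hxT (e ▸ hy), hT hy⟩) r
        (fun y hy => hr1 y (Finset.mem_of_mem_erase hy)) (fun y hy => hr2 y (Finset.mem_of_mem_erase hy))
        hr3 (fun y hy z hz => hr4 y (Finset.mem_of_mem_erase hy) z (Finset.mem_of_mem_erase hz))
      rw [Finset.erase_sdiff_comm]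
      exact Finset.card_erase_lt_of_mem hxm

/-- An increasing monotone map into a cone with apex `z`. -/
theorem eul_retract_up (T : Finset α) : ∀ (s : Finset α), T ⊆ s → ∀ r : α → α,
    (∀ x ∈ s, r x ∈ T) → (∀ x ∈ s, x ≤ r x) → (∀ x ∈ T, r x = x) →
    (∀ x ∈ s, ∀ y ∈ s, x ≤ y → r x ≤ r y) → eul s = eul T := by
  intro s
  induction h : (s \ T).card using Nat.strong_induction_on generalizing s with
  | h n ih =>
    subst h
    intro hT r hr1 hr2 hr3 hr4
    rcases (s \ T).eq_empty_or_nonempty with he | hne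
    · rw [Finset.Subset.antisymm (Finset.sdiff_eq_empty_iff_subset.mp he) hT]
    · obtain ⟨x, hxm, hx⟩ := (s \ T).exists_maximal hne
      obtain ⟨hxs, hxT⟩ := Finset.mem_sdiff.mp hxm
      have hlt : x < r x := lt_of_le_of_ne (hr2 x hxs) fun e => hxT (e ▸ hr1 x hxs)
      have hg : eul (s.filter (x < ·)) = 0 := by
        refine eul_least _ (z := r x) (Finset.mem_filter.mpr ⟨hT (hr1 x hxs), hlt⟩) fun y hy => ?_
        obtain ⟨hys, hyx⟩ := Finset.mem_filter.mp hy
        have hyT : y ∈ T := by
          by_contra hyT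
          exact not_le_of_gt hyx (hx (Finset.mem_sdiff.mpr ⟨hys, hyT⟩) hyx.le)
        exact hr3 y hyT ▸ hr4 x hxs y hys hyx.le
      rw [eul_peel s hxs, hg, mul_zero, add_zero]
      refine ih _ ?_ (s.erase x) rfl (fun y hy => Finset.mem_erase.mpr ⟨fun e => hxT (e ▸ hy), hT hy⟩) r
        (fun y hy => hr1 y (Finset.mem_of_mem_erase hy)) (fun y hy => hr2 y (Finset.mem_of_mem_erase hy))
        hr3 (fun y hy z hz => hr4 y (Finset.mem_of_mem_erase hy) z (Finset.mem_of_mem_erase hz))
      rw [Finset.erase_sdiff_comm]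
      exact Finset.card_erase_lt_of_mem hxm

/-- Split off a downward closed part. -/
theorem eul_split (s : Finset α) (Bd : Finset α) (hB : Bd ⊆ s)
    (hdown : ∀ b ∈ Bd, ∀ y ∈ s, y < b → y ∈ Bd) :
    eul s = eul (s \ Bd) +
      ∑ b ∈ Bd, eul (s.filter (· < b)) * eul ((s \ Bd).filter (b < ·)) := by
  induction h : Bd.card using Nat.strong_induction_on generalizing s Bd with
  | h n ih =>
    subst h
    rcases Bd.eq_empty_or_nonempty with rfl | hne
    · simp
    · obtain ⟨b, hb, hbmax⟩ := Bd.exists_maximal hne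
      have hnot : ∀ y ∈ Bd, ¬ b < y := fun y hy hlt => not_le_of_gt hlt (hbmax hy hlt.le)
      have e1 : s.filter (b < ·) = (s \ Bd).filter (b < ·) := by
        ext y
        simp only [Finset.mem_filter, Finset.mem_sdiff]
        exact ⟨fun h => ⟨⟨h.1, fun hy => hnot y hy h.2⟩, h.2⟩, fun h => ⟨h.1.1, h.2⟩⟩
      have e2 : s.erase b \ Bd.erase b = s \ Bd := by
        ext y
        simp only [Finset.mem_sdiff, Finset.mem_erase]
        constructor
        · rintro ⟨⟨h1, h2⟩, h3⟩; exact ⟨h2, fun h => h3 ⟨h1, h⟩⟩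
        · rintro ⟨h1, h2⟩; exact ⟨⟨fun e => h2 (e ▸ hb), h1⟩, fun h => h2 h.2⟩
      have := ih _ (Finset.card_erase_lt_of_mem hb) (s.erase b) (Bd.erase b)
        (Finset.erase_subset_erase b hB) (fun c hc y hy hyc => Finset.mem_erase.mpr
          ⟨(Finset.mem_erase.mp hy).1,
            hdown c (Finset.mem_of_mem_erase hc) y (Finset.mem_of_mem_erase hy) hyc⟩) rfl
      rw [eul_peel s (hB hb), e1, this, e2, ← Finset.add_sum_erase Bd _ hb]
      have : ∀ c ∈ Bd.erase b, (s.erase b).filter (· < c) = s.filter (· < c) := fun c hc => by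
        rw [Finset.filter_erase, Finset.erase_eq_of_notMem]
        exact fun h => hnot c (Finset.mem_of_mem_erase hc) (Finset.mem_filter.mp h).2
      rw [Finset.sum_congr rfl fun c hc => by rw [this c hc]]
      ring

/-- Order isomorphisms preserve the Euler characteristic. -/
theorem eul_map (s : Finset α) (t : Finset β) (f : α → β) (g : β → α) (hf : ∀ x ∈ s, f x ∈ t)
    (hg : ∀ y ∈ t, g y ∈ s) (hgf : ∀ x ∈ s, g (f x) = x) (hfg : ∀ y ∈ t, f (g y) = y)
    (hmono : ∀ x ∈ s, ∀ y ∈ s, x ≤ y → f x ≤ f y) (hmono' : ∀ x ∈ t, ∀ y ∈ t, x ≤ y → g x ≤ g y) :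
    eul s = eul t := by
  induction h : s.card using Nat.strong_induction_on generalizing s t with
  | h n ih =>
    subst h
    rw [eul_eq s, eul_eq t]
    congr 1
    refine Finset.sum_bij' (fun x _ => f x) (fun y _ => g y) hf hg hgf hfg fun x hx => ?_
    have hlt : ∀ y ∈ s, x < y ↔ f x < f y := fun y hy => by
      simp only [lt_iff_le_and_ne]
      refine and_congr ⟨hmono x hx y hy, fun h => ?_⟩ (not_congr ⟨congrArg f, fun h => ?_⟩)
      · simpa [hgf x hx, hgf y hy] using hmono' _ (hf x hx) _ (hf y hy) h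
      · simpa [hgf x hx, hgf y hy] using congrArg g h
    refine ih _ (Finset.card_lt_card (Finset.filter_ssubset.mpr ⟨x, hx, lt_irrefl _⟩)) _ _
      (fun y hy => ?_) (fun y hy => ?_) (fun y hy => hgf y (Finset.mem_filter.mp hy).1)
      (fun y hy => hfg y (Finset.mem_filter.mp hy).1)
      (fun a ha b hb => hmono a (Finset.mem_filter.mp ha).1 b (Finset.mem_filter.mp hb).1)
      (fun a ha b hb => hmono' a (Finset.mem_filter.mp ha).1 b (Finset.mem_filter.mp hb).1) rfl
    · obtain ⟨hy, hxy⟩ := Finset.mem_filter.mp hy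
      exact Finset.mem_filter.mpr ⟨hf y hy, (hlt y hy).mp hxy⟩
    · obtain ⟨hy, hxy⟩ := Finset.mem_filter.mp hy
      exact Finset.mem_filter.mpr ⟨hg y hy, (hlt _ (hg y hy)).mpr (by rwa [hfg y hy])⟩

/-- The chains inside a finite set. -/
noncomputable def chains (s : Finset α) : Finset (Finset α) :=
  s.powerset.filter fun c => ∀ a ∈ c, ∀ b ∈ c, a ≤ b ∨ b ≤ a

theorem eul_chains (s : Finset α) : eul s = -∑ c ∈ chains s, (-1) ^ c.card := by
  induction h : s.card using Nat.strong_induction_on generalizing s with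
  | h n ih =>
    subst h
    rcases s.eq_empty_or_nonempty with rfl | hne
    · simp [eul_empty, chains, Finset.filter_singleton]
    · obtain ⟨x, hxs, hx⟩ := s.exists_maximal hne
      have hmax : ∀ y ∈ s, ¬ x < y := fun y hy hxy => not_le_of_gt hxy (hx hy hxy.le)
      have hlt : (s.filter (· < x)).card < s.card :=
        Finset.card_lt_card (Finset.filter_ssubset.mpr ⟨x, hxs, lt_irrefl _⟩)
      rw [eul_max s hxs hmax, ih _ (Finset.card_erase_lt_of_mem hxs) _ rfl, ih _ hlt _ rfl,
        ← Finset.sum_filter_add_sum_filter_not (chains s) (fun c => x ∈ c)]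
      have e1 : (chains s).filter (fun c => ¬ x ∈ c) = chains (s.erase x) := by
        ext c
        simp only [chains, Finset.mem_filter, Finset.mem_powerset, Finset.subset_erase]
        tauto
      have e2 : ∑ c ∈ (chains s).filter (fun c => x ∈ c), (-1 : ℤ) ^ c.card =
          -∑ c ∈ chains (s.filter (· < x)), (-1) ^ c.card := by
        rw [← Finset.sum_neg_distrib]
        refine Finset.sum_bij' (fun c _ => c.erase x) (fun c _ => insert x c) ?_ ?_ ?_ ?_ ?_
        · intro c hc
          simp only [chains, Finset.mem_filter, Finset.mem_powerset] at hc ⊢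
          refine ⟨fun y hy => ?_, fun a ha b hb => hc.1.2 a (Finset.mem_of_mem_erase ha) b (Finset.mem_of_mem_erase hb)⟩
          obtain ⟨hyx, hyc⟩ := Finset.mem_erase.mp hy
          refine Finset.mem_filter.mpr ⟨hc.1.1 hyc, ?_⟩
          rcases hc.1.2 y hyc x hc.2 with h | h
          · exact lt_of_le_of_ne h hyx
          · exact absurd (lt_of_le_of_ne h (Ne.symm hyx)) (hmax y (hc.1.1 hyc))
        · intro c hc
          simp only [chains, Finset.mem_filter, Finset.mem_powerset] at hc ⊢
          refine ⟨⟨Finset.insert_subset hxs fun y hy => (Finset.mem_filter.mp (hc.1 hy)).1, ?_⟩,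
            Finset.mem_insert_self x c⟩
          intro a ha b hb
          rcases Finset.mem_insert.mp ha with rfl | ha' <;> rcases Finset.mem_insert.mp hb with rfl | hb'
          · exact Or.inl le_rfl
          · exact Or.inr (Finset.mem_filter.mp (hc.1 hb')).2.le
          · exact Or.inl (Finset.mem_filter.mp (hc.1 ha')).2.le
          · exact hc.2 a ha' b hb'
        · exact fun c hc => Finset.insert_erase (Finset.mem_filter.mp hc).2
        · intro c hc
          refine Finset.erase_insert fun h => ?_
          exact lt_irrefl x (Finset.mem_filter.mp (Finset.mem_powerset.mp (Finset.mem_filter.mp hc).1 h)).2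
        · intro c hc
          have hxc := (Finset.mem_filter.mp hc).2
          rw [← Finset.card_erase_add_one hxc, pow_succ]
          ring
      rw [e1, e2]
      ring

end CfsgLib.PolarSt
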