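import Mathlib

/-!
Forms of polar spaces: a reflexive sesquilinear form with a compatible quadratic function,
totally singular subspaces, hyperbolic frames and gluing of isometries.
-/

set_option autoImplicit false

namespace CfsgLib.PolarSt

open scoped Classical

/-- A non-degenerate reflexive form with a quadratic function. -/
structure PForm (F V : Type*) [Field F] [AddCommGroup V] [Module F V] where
  σ : F →+* F
  ε : F
  hε : ε ≠ 0
  B : V → V → F
  add_right : ∀ u v w, B u (v + w) = B u v + B u w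
  smul_right : ∀ u v (c : F), B u (c • v) = c * B u v
  refl : ∀ u v, B v u = ε * σ (B u v)
  nondeg : ∀ u, (∀ v, B u v = 0) → u = 0
  T : F →+ F
  Q : V → F
  Q_add : ∀ u v, Q (u + v) = Q u + Q v + T (B u v)
  Q_smul : ∀ (c : F) v, Q v = 0 → Q (c • v) = 0
  lift : ∀ w l, B w l = 1 → Q l = 0 → B l l = 0 →
    ∃ c : F, Q (w + c • l) = 0 ∧ B (w + c • l) (w + c • l) = 0

namespace PForm

variable {F V : Type*} [Field F] [AddCommGroup V] [Module F V] (D : PForm F V)

/-- The form as a linear functional in the second variable. -/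
def lin (u : V) : V →ₗ[F] F where
  toFun := D.B u
  map_add' := D.add_right u
  map_smul' c v := D.smul_right u v c

@[simp] theorem lin_apply (u v : V) : D.lin u v = D.B u v := rfl

theorem zero_right (u : V) : D.B u 0 = 0 := (D.lin u).map_zero

theorem sub_right (u v w : V) : D.B u (v - w) = D.B u v - D.B u w := (D.lin u).map_sub v w

theorem sum_right {ι : Type*} (s : Finset ι) (u : V) (f : ι → V) :
    D.B u (∑ i ∈ s, f i) = ∑ i ∈ s, D.B u (f i) := map_sum (D.lin u) f s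

theorem add_left (u v w : V) : D.B (u + v) w = D.B u w + D.B v w := by
  rw [D.refl w (u + v), D.add_right, map_add, mul_add, ← D.refl w u, ← D.refl w v]

theorem smul_left (c : F) (u v : V) : D.B (c • u) v = D.σ c * D.B u v := by
  rw [D.refl v (c • u), D.smul_right, map_mul, D.refl v u]; ring

theorem zero_left (v : V) : D.B 0 v = 0 := by
  rw [D.refl v 0, D.zero_right, map_zero, mul_zero]

theorem sum_left {ι : Type*} (s : Finset ι) (f : ι → V) (v : V) :
    D.B (∑ i ∈ s, f i) v = ∑ i ∈ s, D.B (f i) v := by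
  induction s using Finset.induction_on with
  | empty => simp [zero_left]
  | insert a s ha ih => rw [Finset.sum_insert ha, Finset.sum_insert ha, D.add_left, ih]

theorem symm_zero {u v : V} (h : D.B u v = 0) : D.B v u = 0 := by
  rw [D.refl u v, h, map_zero, mul_zero]

theorem Q_zero : D.Q 0 = 0 := by
  have h := D.Q_add 0 0
  rw [add_zero, D.zero_right, map_zero, add_zero] at h
  linear_combination -h

/-- A totally singular subspace. -/
def IsSing (W : Submodule F V) : Prop :=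
  (∀ u ∈ W, D.Q u = 0) ∧ ∀ u ∈ W, ∀ v ∈ W, D.B u v = 0

theorem IsSing.mono {W U : Submodule F V} (h : D.IsSing W) (hle : U ≤ W) : D.IsSing U :=
  ⟨fun u hu => h.1 u (hle hu), fun u hu v hv => h.2 u (hle hu) v (hle hv)⟩

theorem isSing_bot : D.IsSing ⊥ := by
  refine ⟨fun u hu => ?_, fun u hu v _ => ?_⟩
  · rw [(Submodule.mem_bot F).mp hu, D.Q_zero]
  · rw [(Submodule.mem_bot F).mp hu, D.zero_left]

theorem isSing_span (s : Set V) (hQ : ∀ u ∈ s, D.Q u = 0) (hB : ∀ u ∈ s, ∀ v ∈ s, D.B u v = 0) :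
    D.IsSing (Submodule.span F s) := by
  have h1 : ∀ u ∈ s, ∀ v ∈ Submodule.span F s, D.B u v = 0 := fun u hu v hv =>
    (Submodule.span_le (p := LinearMap.ker (D.lin u))).mpr (fun t ht => hB u hu t ht) hv
  have h2 : ∀ u ∈ Submodule.span F s, ∀ v ∈ Submodule.span F s, D.B u v = 0 := fun u hu v hv =>
    D.symm_zero ((Submodule.span_le (p := LinearMap.ker (D.lin v))).mpr
      (fun t ht => D.symm_zero (h1 t ht v hv)) hu)
  refine ⟨fun u hu => ?_, h2⟩
  induction hu using Submodule.span_induction with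
  | mem u hu => exact hQ u hu
  | zero => exact D.Q_zero
  | add u v hu hv iu iv => rw [D.Q_add, iu, iv, h2 u hu v hv, map_zero, add_zero, add_zero]
  | smul c u hu iu => exact D.Q_smul c u iu

theorem isSing_sup {W U : Submodule F V} (hW : D.IsSing W) (hU : D.IsSing U)
    (h : ∀ u ∈ U, ∀ w ∈ W, D.B w u = 0) : D.IsSing (W ⊔ U) := by
  refine ⟨fun x hx => ?_, fun x hx y hy => ?_⟩
  · obtain ⟨w, hw, u, hu, rfl⟩ := Submodule.mem_sup.mp hx
    rw [D.Q_add, hW.1 w hw, hU.1 u hu, h u hu w hw, map_zero, add_zero, add_zero]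
  · obtain ⟨w, hw, u, hu, rfl⟩ := Submodule.mem_sup.mp hx
    obtain ⟨w', hw', u', hu', rfl⟩ := Submodule.mem_sup.mp hy
    rw [D.add_left, D.add_right, D.add_right, hW.2 w hw w' hw', hU.2 u hu u' hu', h u' hu' w hw,
      D.symm_zero (h u hu w' hw')]
    simp

/-- The orthogonal of a subspace. -/
def perp (W : Submodule F V) : Submodule F V where
  carrier := {v | ∀ w ∈ W, D.B w v = 0}
  add_mem' {a b} ha hb w hw := by rw [D.add_right, ha w hw, hb w hw, add_zero]
  zero_mem' w _ := D.zero_right w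
  smul_mem' c a ha w hw := by rw [D.smul_right, ha w hw, mul_zero]

theorem mem_perp {W : Submodule F V} {v : V} : v ∈ D.perp W ↔ ∀ w ∈ W, D.B w v = 0 := Iff.rfl

theorem perp_span {s : Set V} {v : V} : v ∈ D.perp (Submodule.span F s) ↔ ∀ w ∈ s, D.B w v = 0 := by
  refine ⟨fun h w hw => h w (Submodule.subset_span hw), fun h w hw => ?_⟩
  exact D.symm_zero ((Submodule.span_le (p := LinearMap.ker (D.lin v))).mpr
    (fun t ht => D.symm_zero (h t ht)) hw)

theorem le_perp {W : Submodule F V} (h : D.IsSing W) : W ≤ D.perp W :=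
  fun v hv w hw => h.2 w hw v hv

theorem perp_anti {W U : Submodule F V} (h : W ≤ U) : D.perp U ≤ D.perp W :=
  fun _ hv w hw => hv w (h hw)

theorem perp_sup (W U : Submodule F V) : D.perp (W ⊔ U) = D.perp W ⊓ D.perp U := by
  refine le_antisymm (le_inf (D.perp_anti le_sup_left) (D.perp_anti le_sup_right)) ?_
  intro v hv x hx
  obtain ⟨w, hw, u, hu, rfl⟩ := Submodule.mem_sup.mp hx
  rw [D.add_left, hv.1 w hw, hv.2 u hu, add_zero]

/-- The isometry group. -/
def Iso : Subgroup (V ≃ₗ[F] V) where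
  carrier := {g | (∀ u v, D.B (g u) (g v) = D.B u v) ∧ ∀ v, D.Q (g v) = D.Q v}
  mul_mem' {a b} ha hb := ⟨fun u v => (ha.1 (b u) (b v)).trans (hb.1 u v),
    fun v => (ha.2 (b v)).trans (hb.2 v)⟩
  one_mem' := ⟨fun _ _ => rfl, fun _ => rfl⟩
  inv_mem' {a} ha := by
    refine ⟨fun u v => ?_, fun v => ?_⟩
    · show D.B (a.symm u) (a.symm v) = _
      rw [← ha.1, a.apply_symm_apply, a.apply_symm_apply]
    · show D.Q (a.symm v) = _
      rw [← ha.2, a.apply_symm_apply]

theorem isSing_map {g : V ≃ₗ[F] V} (hg : g ∈ D.Iso) {W : Submodule F V} (h : D.IsSing W) :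
    D.IsSing (W.map (g : V →ₗ[F] V)) := by
  refine ⟨fun u hu => ?_, fun u hu v hv => ?_⟩
  · obtain ⟨a, ha, rfl⟩ := Submodule.mem_map.mp hu
    exact (hg.2 a).trans (h.1 a ha)
  · obtain ⟨a, ha, rfl⟩ := Submodule.mem_map.mp hu
    obtain ⟨b, hb, rfl⟩ := Submodule.mem_map.mp hv
    exact (hg.1 a b).trans (h.2 a ha b hb)

theorem perp_map {g : V ≃ₗ[F] V} (hg : g ∈ D.Iso) (W : Submodule F V) :
    (D.perp W).map (g : V →ₗ[F] V) = D.perp (W.map (g : V →ₗ[F] V)) := by
  ext v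
  rw [Submodule.mem_map]
  constructor
  · rintro ⟨a, ha, rfl⟩ x hx
    obtain ⟨w, hw, rfl⟩ := Submodule.mem_map.mp hx
    exact (hg.1 w a).trans (ha w hw)
  · intro hv
    refine ⟨g.symm v, fun w hw => ?_, g.apply_symm_apply v⟩
    rw [← hg.1, g.apply_symm_apply]
    exact hv _ (Submodule.mem_map_of_mem hw)

/-- A hyperbolic frame of size `k`. -/
structure Frame (k : ℕ) where
  l : Fin k → V
  w : Fin k → V
  ll : ∀ i j, D.B (l i) (l j) = 0
  ww : ∀ i j, D.B (w i) (w j) = 0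
  lw : ∀ i j, D.B (l i) (w j) = if i = j then 1 else 0
  Ql : ∀ i, D.Q (l i) = 0
  Qw : ∀ i, D.Q (w i) = 0

namespace Frame

variable {D} {k : ℕ} (f : D.Frame k)

theorem wl (i j : Fin k) : D.B (f.w i) (f.l j) = if j = i then D.ε else 0 := by
  rw [D.refl, f.lw]; split_ifs <;> simp

/-- The span of the first half. -/
def X : Submodule F V := Submodule.span F (Set.range f.l)

/-- The span of the second half. -/
def Y : Submodule F V := Submodule.span F (Set.range f.w)

/-- The orthogonal of the frame. -/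
def M : Submodule F V := D.perp f.X ⊓ D.perp f.Y

theorem mem_M {v : V} : v ∈ f.M ↔ (∀ i, D.B (f.l i) v = 0) ∧ ∀ i, D.B (f.w i) v = 0 := by
  simp [M, X, Y, perp_span, Submodule.mem_inf]

theorem isSing_X : D.IsSing f.X :=
  D.isSing_span _ (by rintro _ ⟨i, rfl⟩; exact f.Ql i)
    (by rintro _ ⟨i, rfl⟩ _ ⟨j, rfl⟩; exact f.ll i j)

theorem isSing_Y : D.IsSing f.Y :=
  D.isSing_span _ (by rintro _ ⟨i, rfl⟩; exact f.Qw i)
    (by rintro _ ⟨i, rfl⟩ _ ⟨j, rfl⟩; exact f.ww i j)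

/-- Linear combination of the first half. -/
def L : (Fin k → F) →ₗ[F] V := Fintype.linearCombination F f.l

/-- Linear combination of the second half. -/
def W : (Fin k → F) →ₗ[F] V := Fintype.linearCombination F f.w

theorem L_apply (a : Fin k → F) : f.L a = ∑ i, a i • f.l i := Fintype.linearCombination_apply F f.l a

theorem W_apply (a : Fin k → F) : f.W a = ∑ i, a i • f.w i := Fintype.linearCombination_apply F f.w a

theorem mem_X {v : V} : v ∈ f.X ↔ ∃ a, f.L a = v := by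
  rw [X, ← Fintype.range_linearCombination]; rfl

theorem mem_Y {v : V} : v ∈ f.Y ↔ ∃ a, f.W a = v := by
  rw [Y, ← Fintype.range_linearCombination]; rfl

theorem L_mem (a : Fin k → F) : f.L a ∈ f.X := f.mem_X.mpr ⟨a, rfl⟩

theorem W_mem (a : Fin k → F) : f.W a ∈ f.Y := f.mem_Y.mpr ⟨a, rfl⟩

theorem BlL (i : Fin k) (a : Fin k → F) : D.B (f.l i) (f.L a) = 0 :=
  f.isSing_X.2 _ (Submodule.subset_span ⟨i, rfl⟩) _ (f.L_mem a)

theorem BwW (i : Fin k) (a : Fin k → F) : D.B (f.w i) (f.W a) = 0 :=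
  f.isSing_Y.2 _ (Submodule.subset_span ⟨i, rfl⟩) _ (f.W_mem a)

theorem BlW (i : Fin k) (a : Fin k → F) : D.B (f.l i) (f.W a) = a i := by
  simp [W_apply, D.sum_right, D.smul_right, f.lw]

theorem BwL (i : Fin k) (a : Fin k → F) : D.B (f.w i) (f.L a) = D.ε * a i := by
  simp [L_apply, D.sum_right, D.smul_right, f.wl, mul_comm]

/-- Coordinates along the first half. -/
def cL : V →ₗ[F] (Fin k → F) := LinearMap.pi fun i => D.ε⁻¹ • D.lin (f.w i)

/-- Coordinates along the second half. -/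
def cW : V →ₗ[F] (Fin k → F) := LinearMap.pi fun i => D.lin (f.l i)

theorem cL_apply (v : V) (i : Fin k) : f.cL v i = D.ε⁻¹ * D.B (f.w i) v := rfl

theorem cW_apply (v : V) (i : Fin k) : f.cW v i = D.B (f.l i) v := rfl

theorem cW_L (a : Fin k → F) : f.cW (f.L a) = 0 := funext fun i => f.BlL i a

theorem cL_W (a : Fin k → F) : f.cL (f.W a) = 0 := funext fun i => by
  rw [f.cL_apply, f.BwW]; simp

theorem cW_W (a : Fin k → F) : f.cW (f.W a) = a := funext fun i => f.BlW i a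

theorem cL_L (a : Fin k → F) : f.cL (f.L a) = a := funext fun i => by
  rw [f.cL_apply, f.BwL, ← mul_assoc, inv_mul_cancel₀ D.hε, one_mul]

theorem cW_M {m : V} (hm : m ∈ f.M) : f.cW m = 0 := funext fun i => (f.mem_M.mp hm).1 i

theorem cL_M {m : V} (hm : m ∈ f.M) : f.cL m = 0 := funext fun i => by
  rw [f.cL_apply, (f.mem_M.mp hm).2 i]; simp

theorem cL_combo (a c : Fin k → F) {m : V} (hm : m ∈ f.M) : f.cL (f.L a + f.W c + m) = a := by
  rw [map_add, map_add, f.cL_L, f.cL_W, f.cL_M hm, add_zero, add_zero]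

theorem cW_combo (a c : Fin k → F) {m : V} (hm : m ∈ f.M) : f.cW (f.L a + f.W c + m) = c := by
  rw [map_add, map_add, f.cW_W, f.cW_L, f.cW_M hm, zero_add, add_zero]

/-- Projection to the orthogonal of the frame. -/
def proj : V →ₗ[F] V := LinearMap.id - f.L.comp f.cL - f.W.comp f.cW

theorem proj_apply (v : V) : f.proj v = v - f.L (f.cL v) - f.W (f.cW v) := rfl

theorem proj_mem (v : V) : f.proj v ∈ f.M := by
  refine f.mem_M.mpr ⟨fun i => ?_, fun i => ?_⟩
  · rw [proj_apply, D.sub_right, D.sub_right, f.BlL, f.BlW, f.cW_apply]; ring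
  · rw [proj_apply, D.sub_right, D.sub_right, f.BwL, f.BwW, f.cL_apply, ← mul_assoc,
      mul_inv_cancel₀ D.hε]
    ring

theorem decomp (v : V) : f.L (f.cL v) + f.W (f.cW v) + f.proj v = v := by
  rw [proj_apply]; abel

theorem proj_combo (a c : Fin k → F) {m : V} (hm : m ∈ f.M) : f.proj (f.L a + f.W c + m) = m := by
  rw [proj_apply, f.cL_combo a c hm, f.cW_combo a c hm]; abel

theorem proj_M {m : V} (hm : m ∈ f.M) : f.proj m = m := by
  simpa using f.proj_combo 0 0 hm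

theorem proj_X {v : V} (hv : v ∈ f.X) : f.proj v = 0 := by
  obtain ⟨a, rfl⟩ := f.mem_X.mp hv
  simpa using f.proj_combo a 0 (zero_mem _)

theorem M_perp_L {m : V} (hm : m ∈ f.M) (a : Fin k → F) : D.B (f.L a) m = 0 :=
  hm.1 _ (f.L_mem a)

theorem M_perp_W {m : V} (hm : m ∈ f.M) (a : Fin k → F) : D.B (f.W a) m = 0 :=
  hm.2 _ (f.W_mem a)

theorem B_LW (a c : Fin k → F) : D.B (f.L a) (f.W c) = ∑ i, D.σ (a i) * c i := by
  rw [f.L_apply, D.sum_left]
  exact Finset.sum_congr rfl fun i _ => by rw [D.smul_left, f.BlW]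

theorem B_WL (c a : Fin k → F) : D.B (f.W c) (f.L a) = D.ε * D.σ (∑ i, D.σ (a i) * c i) := by
  rw [D.refl (f.L a) (f.W c), f.B_LW]

theorem B_combo (a c a' c' : Fin k → F) {m m' : V} (hm : m ∈ f.M) (hm' : m' ∈ f.M) :
    D.B (f.L a + f.W c + m) (f.L a' + f.W c' + m') =
      (∑ i, D.σ (a i) * c' i) + D.ε * D.σ (∑ i, D.σ (a' i) * c i) + D.B m m' := by
  simp only [D.add_left, D.add_right, f.M_perp_L hm', f.M_perp_W hm', D.symm_zero (f.M_perp_L hm a'),
    D.symm_zero (f.M_perp_W hm c'), f.B_LW, f.B_WL, f.isSing_X.2 _ (f.L_mem a) _ (f.L_mem a'),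
    f.isSing_Y.2 _ (f.W_mem c) _ (f.W_mem c')]
  ring

theorem Q_combo (a c : Fin k → F) {m : V} (hm : m ∈ f.M) :
    D.Q (f.L a + f.W c + m) = D.T (∑ i, D.σ (a i) * c i) + D.Q m := by
  rw [D.Q_add, D.Q_add, f.isSing_X.1 _ (f.L_mem a), f.isSing_Y.1 _ (f.W_mem c), f.B_LW,
    D.add_left, f.M_perp_L hm, f.M_perp_W hm, add_zero, map_zero]
  ring

/-- The form on the orthogonal of a frame. -/
def rest : PForm F f.M where
  σ := D.σ
  ε := D.ε
  hε := D.hε
  B u v := D.B u v
  add_right u v w := D.add_right u v w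
  smul_right u v c := D.smul_right u v c
  refl u v := D.refl u v
  nondeg u h := by
    refine Subtype.ext (D.nondeg (u : V) fun v => ?_)
    rw [← f.decomp v, D.add_right, D.add_right, D.symm_zero (f.M_perp_L u.2 _),
      D.symm_zero (f.M_perp_W u.2 _), zero_add, zero_add]
    exact h ⟨f.proj v, f.proj_mem v⟩
  T := D.T
  Q v := D.Q v
  Q_add u v := D.Q_add u v
  Q_smul c v h := D.Q_smul c v h
  lift w l h1 h2 h3 := by
    obtain ⟨c, hc⟩ := D.lift w l h1 h2 h3
    exact ⟨c, hc⟩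

/-- Exchange the two halves. -/
def swap : D.Frame k where
  l := f.w
  w i := D.ε⁻¹ • f.l i
  ll := f.ww
  ww i j := by rw [D.smul_left, D.smul_right, f.ll]; simp
  lw i j := by
    rw [D.smul_right, f.wl]
    by_cases h : i = j
    · rw [if_pos h.symm, if_pos h, inv_mul_cancel₀ D.hε]
    · rw [if_neg (Ne.symm h), if_neg h, mul_zero]
  Ql := f.Qw
  Qw i := D.Q_smul _ _ (f.Ql i)

theorem swap_X : f.swap.X = f.Y := rfl

theorem swap_Y : f.swap.Y = f.X := by
  refine le_antisymm (Submodule.span_le.mpr ?_) (Submodule.span_le.mpr ?_)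
  · rintro _ ⟨i, rfl⟩; exact Submodule.smul_mem _ _ (Submodule.subset_span ⟨i, rfl⟩)
  · rintro _ ⟨i, rfl⟩
    have : f.l i = D.ε • f.swap.w i := by
      show f.l i = D.ε • D.ε⁻¹ • f.l i
      rw [smul_smul, mul_inv_cancel₀ D.hε, one_smul]
    rw [this]
    exact Submodule.smul_mem _ _ (Submodule.subset_span ⟨i, rfl⟩)

theorem swap_M : f.swap.M = f.M := by rw [M, M, f.swap_X, f.swap_Y, inf_comm]

theorem finrank_X [Module.Finite F V] : Module.finrank F f.X = k := by
  have h : Function.Injective f.L := Function.LeftInverse.injective (g := f.cL) f.cL_L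
  have e : f.X = LinearMap.range f.L := by ext v; exact f.mem_X
  rw [e, LinearMap.finrank_range_of_inj h, Module.finrank_fin_fun]

theorem finrank_Y [Module.Finite F V] : Module.finrank F f.Y = k := f.swap_X ▸ f.swap.finrank_X

theorem finrank_M_lt [Module.Finite F V] (hk : 0 < k) :
    Module.finrank F f.M < Module.finrank F V := by
  refine Submodule.finrank_lt fun h => ?_
  have h1 : f.l ⟨0, hk⟩ ∈ f.M := h ▸ Submodule.mem_top
  have h2 := (f.mem_M.mp h1).2 ⟨0, hk⟩
  rw [f.wl, if_pos rfl] at h2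
  exact D.hε h2

section Glue

variable {k' : ℕ} (f' : D.Frame k)

/-- The linear map gluing an isometry of orthogonals to the frames. -/
def gluL (φ : f.M →ₗ[F] f'.M) : V →ₗ[F] V :=
  f'.L.comp f.cL + f'.W.comp f.cW +
    f'.M.subtype.comp (φ.comp (LinearMap.codRestrict f.M f.proj f.proj_mem))

theorem gluL_apply (φ : f.M →ₗ[F] f'.M) (v : V) :
    f.gluL f' φ v = f'.L (f.cL v) + f'.W (f.cW v) + (φ ⟨f.proj v, f.proj_mem v⟩ : V) := rfl

theorem gluL_gluL (φ : f.M ≃ₗ[F] f'.M) (v : V) :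
    f'.gluL f φ.symm.toLinearMap (f.gluL f' φ.toLinearMap v) = v := by
  rw [gluL_apply f' f, gluL_apply f f']
  set a := f.cL v
  set c := f.cW v
  set m := φ.toLinearMap ⟨f.proj v, f.proj_mem v⟩ with hm
  have e : (⟨f'.proj (f'.L a + f'.W c + (m : V)), f'.proj_mem _⟩ : f'.M) = m :=
    Subtype.ext (f'.proj_combo a c m.2)
  rw [e, f'.cL_combo a c m.2, f'.cW_combo a c m.2, hm]
  simp only [LinearEquiv.coe_coe, LinearEquiv.symm_apply_apply]
  exact f.decomp v

/-- Gluing. -/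
def glue (φ : f.M ≃ₗ[F] f'.M) : V ≃ₗ[F] V :=
  LinearEquiv.ofLinearMap (f.gluL f' φ.toLinearMap) (f'.gluL f φ.symm.toLinearMap)
    (LinearMap.ext fun v => by
      have h := f'.gluL_gluL f φ.symm v
      rwa [LinearEquiv.symm_symm] at h)
    (LinearMap.ext fun v => f.gluL_gluL f' φ v)

theorem glue_apply (φ : f.M ≃ₗ[F] f'.M) (v : V) :
    f.glue f' φ v = f'.L (f.cL v) + f'.W (f.cW v) + (φ ⟨f.proj v, f.proj_mem v⟩ : V) := rfl

theorem glue_mem (φ : f.M ≃ₗ[F] f'.M) (hB : ∀ u v, D.B (φ u : V) (φ v : V) = D.B (u : V) (v : V))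
    (hQ : ∀ v, D.Q (φ v : V) = D.Q (v : V)) : f.glue f' φ ∈ D.Iso := by
  refine ⟨fun u v => ?_, fun v => ?_⟩
  · rw [glue_apply, glue_apply, f'.B_combo _ _ _ _ (φ _).2 (φ _).2, hB]
    conv_rhs => rw [← f.decomp u, ← f.decomp v, f.B_combo _ _ _ _ (f.proj_mem u) (f.proj_mem v)]
  · rw [glue_apply, f'.Q_combo _ _ (φ _).2, hQ]
    conv_rhs => rw [← f.decomp v, f.Q_combo _ _ (f.proj_mem v)]

theorem glue_l (φ : f.M ≃ₗ[F] f'.M) (i : Fin k) : f.glue f' φ (f.l i) = f'.l i := by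
  have h1 : f.l i = f.L (Pi.single i 1) + f.W 0 + ((0 : f.M) : V) := by
    simp [L, Fintype.linearCombination_apply_single]
  rw [h1, glue_apply]
  have e : (⟨f.proj (f.L (Pi.single i 1) + f.W 0 + ((0 : f.M) : V)), f.proj_mem _⟩ : f.M) = 0 :=
    Subtype.ext (f.proj_combo _ _ (0 : f.M).2)
  rw [e, f.cL_combo _ _ (0 : f.M).2, f.cW_combo _ _ (0 : f.M).2]
  simp [L, Fintype.linearCombination_apply_single]

theorem glue_w (φ : f.M ≃ₗ[F] f'.M) (i : Fin k) : f.glue f' φ (f.w i) = f'.w i := by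
  have h1 : f.w i = f.L 0 + f.W (Pi.single i 1) + ((0 : f.M) : V) := by
    simp [W, Fintype.linearCombination_apply_single]
  rw [h1, glue_apply]
  have e : (⟨f.proj (f.L 0 + f.W (Pi.single i 1) + ((0 : f.M) : V)), f.proj_mem _⟩ : f.M) = 0 :=
    Subtype.ext (f.proj_combo _ _ (0 : f.M).2)
  rw [e, f.cL_combo _ _ (0 : f.M).2, f.cW_combo _ _ (0 : f.M).2]
  simp [W, Fintype.linearCombination_apply_single]

theorem glue_M (φ : f.M ≃ₗ[F] f'.M) (m : f.M) : f.glue f' φ (m : V) = (φ m : V) := by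
  rw [glue_apply, f.cL_M m.2, f.cW_M m.2]
  simp [f.proj_M m.2]

/-- Frames with the same first half have canonically isometric orthogonals. -/
theorem exists_same_X (h : f.X = f'.X) : ∃ φ : f.M ≃ₗ[F] f'.M,
    (∀ u v, D.B (φ u : V) (φ v : V) = D.B (u : V) (v : V)) ∧ (∀ v, D.Q (φ v : V) = D.Q (v : V)) := by
  have key : ∀ (f f' : D.Frame k), f.X = f'.X → ∀ m : V, m ∈ f.M →
      m - f'.proj m ∈ f.X ∧ f.proj (f'.proj m) = m := by
    intro f f' h m hm
    have hc : f'.cW m = 0 := funext fun i => by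
      rw [f'.cW_apply]
      exact hm.1 _ (h ▸ Submodule.subset_span ⟨i, rfl⟩)
    have hd : m - f'.proj m ∈ f.X := by
      rw [proj_apply, hc, map_zero, sub_zero, sub_sub_cancel, h]
      exact f'.L_mem _
    refine ⟨hd, ?_⟩
    have := f.proj_X hd
    rw [map_sub, f.proj_M hm, sub_eq_zero] at this
    exact this.symm
  let φ : f.M →ₗ[F] f'.M := LinearMap.codRestrict f'.M (f'.proj.comp f.M.subtype) fun m => f'.proj_mem _
  let ψ : f'.M →ₗ[F] f.M := LinearMap.codRestrict f.M (f.proj.comp f'.M.subtype) fun m => f.proj_mem _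
  refine ⟨LinearEquiv.ofLinearMap φ ψ (LinearMap.ext fun m => Subtype.ext (key f' f h.symm m m.2).2)
    (LinearMap.ext fun m => Subtype.ext (key f f' h m m.2).2), fun u v => ?_, fun v => ?_⟩
  · show D.B (f'.proj (u : V)) (f'.proj (v : V)) = _
    have hu := (key f f' h u u.2).1
    have hv := (key f f' h v v.2).1
    obtain ⟨a, ha⟩ : ∃ a ∈ f'.X, (u : V) = f'.proj (u : V) + a := ⟨_, h ▸ hu, by abel⟩
    obtain ⟨b, hb⟩ : ∃ b ∈ f'.X, (v : V) = f'.proj (v : V) + b := ⟨_, h ▸ hv, by abel⟩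
    conv_rhs => rw [ha.2, hb.2, D.add_left, D.add_right, D.add_right,
      D.symm_zero ((f'.proj_mem (u : V)).1 b hb.1), (f'.proj_mem (v : V)).1 a ha.1,
      f'.isSing_X.2 a ha.1 b hb.1]
    simp
  · show D.Q (f'.proj (v : V)) = _
    obtain ⟨b, hb⟩ : ∃ b ∈ f'.X, (v : V) = f'.proj (v : V) + b := ⟨_, h ▸ (key f f' h v v.2).1, by abel⟩
    conv_rhs => rw [hb.2, D.Q_add, f'.isSing_X.1 b hb.1, D.symm_zero ((f'.proj_mem (v : V)).1 b hb.1)]
    simp

end Glue

end Frame

/-- A frame of size one from a singular pair. -/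
def frameOne {l w : V} (hl : D.Q l = 0) (hll : D.B l l = 0) (hw : D.Q w = 0) (hww : D.B w w = 0)
    (h : D.B l w = 1) : D.Frame 1 where
  l _ := l
  w _ := w
  ll _ _ := hll
  ww _ _ := hww
  lw i j := by rw [if_pos (Subsingleton.elim i j), h]
  Ql _ := hl
  Qw _ := hw

/-- A singular vector has an opposite. -/
theorem exists_opp_vec {l : V} (hl0 : l ≠ 0) (hl : D.Q l = 0) (hll : D.B l l = 0) :
    ∃ w, D.Q w = 0 ∧ D.B w w = 0 ∧ D.B l w = 1 := by
  obtain ⟨v, hv⟩ : ∃ v, D.B l v ≠ 0 := by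
    by_contra h
    push Not at h
    exact hl0 (D.nondeg l h)
  obtain ⟨a, ha⟩ : ∃ a : F, D.B (a • v) l = 1 := by
    have h1 : D.B l ((D.B l v)⁻¹ • v) = 1 := by rw [D.smul_right, inv_mul_cancel₀ hv]
    have h2 := D.refl l ((D.B l v)⁻¹ • v)
    rw [h1, map_one, mul_one] at h2
    have h3 := D.refl ((D.B l v)⁻¹ • v) l
    rw [h2, h1] at h3
    refine ⟨D.ε * (D.B l v)⁻¹, ?_⟩
    rw [D.refl l, D.smul_right, mul_assoc, inv_mul_cancel₀ hv, mul_one, ← h3]
  obtain ⟨c, hc1, hc2⟩ := D.lift (a • v) l ha hl hll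
  set s := a • v + c • l with hs
  have hsl : D.B s l = 1 := by
    rw [hs, D.add_left, ha, D.smul_left, hll, mul_zero, add_zero]
  have hne : D.B l s ≠ 0 := fun h => by
    have := D.symm_zero h
    rw [hsl] at this
    exact one_ne_zero this
  exact ⟨(D.B l s)⁻¹ • s, D.Q_smul _ _ hc1, by rw [D.smul_left, D.smul_right, hc2]; simp,
    by rw [D.smul_right, inv_mul_cancel₀ hne]⟩

end PForm

end CfsgLib.PolarSt
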