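import Cfsg.Agent.Lib.PolarSteinberg.Unitary
import Cfsg.Agent.Lib.OmegaList

/-!
The orthogonal case.
-/

set_option autoImplicit false

namespace CfsgLib.PolarSt

open scoped Classical Matrix
open Cfsg QuadraticMap Module

universe u

variable {F : Type u} [Field F] [Fintype F] {ι : Type} [Fintype ι] [DecidableEq ι]

theorem omega_steinberg (p : ℕ) [Fact p.Prime] [CharP F p] (Q : QuadraticForm F (ι → F))
    (hQ : (polarBilin Q).Nondegenerate) (hι : 0 < Fintype.card ι)
    (h4 : (∃ t : F, t ≠ 0 ∧ t ≠ 1) ∨ Fintype.card ι ≠ 4) :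
    ∃ χ : POmega F ⇑Q → ℂ, IsIrrCharacter (POmega F ⇑Q) χ ∧
      ∀ P : Sylow p (POmega F ⇑Q), χ 1 = Nat.card P ∧ ∀ x : POmega F ⇑Q, x ∈ P → x ≠ 1 → χ x = 0 := by
  let D : PForm F (ι → F) :=
    { σ := RingHom.id F
      ε := 1
      hε := one_ne_zero
      B := fun x y => polar Q x y
      add_right := fun x y z => polar_add_right Q x y z
      smul_right := fun x y c => by rw [polar_smul_right, smul_eq_mul]
      refl := fun x y => by rw [one_mul, RingHom.id_apply]; exact polar_comm _ _ _
      nondeg := fun x h => hQ.1 x h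
      T := AddMonoidHom.id F
      Q := fun x => Q x
      Q_add := fun x y => by simp only [polar, AddMonoidHom.id_apply]; ring
      Q_smul := fun c x h => by rw [QuadraticMap.map_smul, h, smul_zero]
      lift := fun w l h1 h2 h3 => by
        have hz : Q (w + (-(Q w)) • l) = 0 := by
          rw [QuadraticMap.map_add Q, QuadraticMap.map_smul, polar_smul_right, h1, h2]
          simp
        exact ⟨-(Q w), hz, by rw [CfsgLib.ReflectionGen.pol_self, hz, mul_zero]⟩ }
  let Φ : isometryGroup F ⇑Q →* D.Iso :=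
    ((matAut (ι := ι) (F := F)).toMonoidHom.comp (isometryGroup F ⇑Q).subtype).codRestrict _ fun g => by
      have hg : ∀ v, Q (g.1.1 *ᵥ v) = Q v := fun v => g.2 v v
      refine ⟨fun x y => ?_, hg⟩
      show polar Q (g.1.1 *ᵥ x) (g.1.1 *ᵥ y) = polar Q x y
      simp only [polar, ← Matrix.mulVec_add, hg]
  have hΦ : Function.Bijective Φ := by
    refine ⟨fun a b h => Subtype.ext ((matAut (ι := ι) (F := F)).injective (congrArg Subtype.val h)), fun g => ?_⟩
    set A := (matAut (ι := ι) (F := F)).symm (g : (ι → F) ≃ₗ[F] (ι → F)) with hA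
    have hA' : matAut A = (g : (ι → F) ≃ₗ[F] (ι → F)) := by rw [hA, MulEquiv.apply_symm_apply]
    refine ⟨⟨A, fun v _ => ?_⟩, Subtype.ext hA'⟩
    show Q (A.1 *ᵥ v) = Q v
    rw [← matAut_apply, hA']
    exact g.2.2 v
  let ρ : Omega F ⇑Q →* D.Iso := Φ.comp (Omega F ⇑Q).subtype
  have hr : ρ.range = (Omega F ⇑Q).map Φ := by
    rw [MonoidHom.range_comp, Subgroup.range_subtype]
  haveI : ρ.range.Normal := hr ▸ Subgroup.Normal.map inferInstance Φ hΦ.2
  haveI : Finite (isometryGroup F ⇑Q) := Subtype.finite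
  have hidx : ρ.range.index = (Omega F ⇑Q).index := by
    rw [hr, Subgroup.index_map_of_bijective hΦ _]
  have hρ : Function.Injective ρ := hΦ.1.comp Subtype.val_injective
  have hc := CfsgLib.SpinorMatrix.hc_of Q hQ h4
  refine steinberg_of D p ρ hρ (fun x hsq hx => ?_) ?_
  · set g : (ι → F) ≃ₗ[F] (ι → F) := ((ρ x : D.Iso) : (ι → F) ≃ₗ[F] (ι → F)) with hg
    obtain ⟨z, hz⟩ := exists_dif_ne (g := g) fun e => hx (hρ (by rw [map_one]; exact Subtype.ext e))
    by_cases h2 : (2 : F) = 0
    · haveI : CharP F 2 := CharTwo.of_one_ne_zero_of_two_eq_zero one_ne_zero h2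
      set R := LinearMap.range (PForm.dif g) with hR
      have hB : ∀ a ∈ R, ∀ b ∈ R, polar Q a b = 0 := by
        rintro _ ⟨a, rfl⟩ _ ⟨b, rfl⟩
        exact PForm.fixed_perp (D := D) (ρ x).2 (sub_eq_zero.mp (hsq a)) ⟨b, rfl⟩
      have hrank : 2 ≤ finrank F R := by
        have hker : CfsgLib.SpinorNorm.fixSpace Q (CfsgLib.SpinorMatrix.isoEquiv Q (x : isometryGroup F ⇑Q)) =
            LinearMap.ker (PForm.dif g) := by
          ext v
          rw [CfsgLib.SpinorNorm.mem_fix, LinearMap.mem_ker, PForm.dif_apply, sub_eq_zero]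
          rfl
        have hd : CfsgLib.SpinorNorm.dicksonHom Q hQ hc (CfsgLib.SpinorMatrix.isoEquiv Q (x : isometryGroup F ⇑Q)) = 1 :=
          MonoidHom.mem_ker.mp (Abelianization.commutator_subset_ker
            ((CfsgLib.SpinorNorm.dicksonHom Q hQ hc).comp (CfsgLib.SpinorMatrix.isoEquiv Q).toMonoidHom) x.2)
        change CfsgLib.SpinorNorm.dickson Q _ = 1 at hd
        rw [CfsgLib.SpinorNorm.dickson, hker] at hd
        have hsum := LinearMap.finrank_range_add_finrank_ker (PForm.dif g)
        rw [← hR] at hsum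
        have hev : Even (finrank F (ι → F) + finrank F (LinearMap.ker (PForm.dif g))) := by
          rcases Nat.even_or_odd (finrank F (ι → F) + finrank F (LinearMap.ker (PForm.dif g))) with h | h
          · exact h
          · rw [h.neg_one_pow] at hd; exact absurd hd (by decide)
        have hpos : 0 < finrank F R := by
          haveI : Nontrivial R := ⟨⟨⟨_, z, rfl⟩, 0, fun e => hz (congrArg Subtype.val e)⟩⟩
          exact finrank_pos
        obtain ⟨r, hr'⟩ := hev
        omega
      have ha : PForm.dif g z ∈ R := ⟨z, rfl⟩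
      set a := PForm.dif g z
      by_cases hQa : Q a = 0
      · exact ⟨z, hz, hQa⟩
      obtain ⟨b, hb, hba⟩ : ∃ b ∈ R, b ∉ Submodule.span F {a} := by
        by_contra h
        push Not at h
        have := Submodule.finrank_mono (show R ≤ Submodule.span F {a} from h)
        rw [finrank_span_singleton hz] at this
        omega
      obtain ⟨c, hc'⟩ := FiniteField.isSquare_of_char_two (ringChar.eq F 2) (Q b / Q a)
      obtain ⟨w, hw⟩ : b + c • a ∈ R := add_mem hb (R.smul_mem c ha)
      refine ⟨w, fun e => hba ?_, ?_⟩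
      · rw [hw, add_eq_zero_iff_eq_neg] at e
        rw [e]
        exact neg_mem (Submodule.smul_mem _ c (Submodule.mem_span_singleton_self a))
      · show Q (PForm.dif g w) = 0
        rw [hw, QuadraticMap.map_add Q, QuadraticMap.map_smul, polar_smul_right, hB b hb a ha, ← hc',
          smul_eq_mul, smul_eq_mul, div_mul_cancel₀ _ hQa]
        linear_combination (Q b) * h2
    · refine ⟨z, hz, ?_⟩
      have h := B_dif_dif D (ρ x).2 hsq z
      have h' : (2 : F) * Q (PForm.dif g z) = 0 := by
        rw [← CfsgLib.ReflectionGen.pol_self]; exact h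
      exact (mul_eq_zero.mp h').resolve_left h2
  · rw [hidx]
    by_cases h2 : (2 : F) = 0
    · right
      haveI : CharP F 2 := CharTwo.of_one_ne_zero_of_two_eq_zero one_ne_zero h2
      exact ⟨CharP.eq F ‹CharP F p› this, ⟨h2, fun a => rfl, fun a => rfl, fun c v => by
        show Q (c • v) = _
        rw [QuadraticMap.map_smul, smul_eq_mul, _root_.sq]⟩,
        by rw [CfsgLib.SpinorMatrix.omega_index_two Q h2 hι hQ h4]⟩
    · left
      have hpq : IsPGroup 2 (isometryGroup F ⇑Q ⧸ Omega F ⇑Q) := fun t => by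
        refine ⟨1, ?_⟩
        obtain ⟨g, rfl⟩ := QuotientGroup.mk_surjective t
        rw [pow_one, _root_.sq, ← QuotientGroup.mk_mul, QuotientGroup.eq_one_iff]
        exact CfsgLib.OmegaList.sq_mem_commutator Q hc g
      obtain ⟨k, hk⟩ := (IsPGroup.iff_card).mp hpq
      rw [Subgroup.index_eq_card, hk]
      intro hp
      have hp2 : p = 2 := (Nat.prime_dvd_prime_iff_eq Fact.out Nat.prime_two).mp ((Fact.out : p.Prime).dvd_of_dvd_pow hp)
      subst hp2
      exact h2 (CharP.cast_eq_zero F 2)

end CfsgLib.PolarSt
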