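import Cfsg.Agent.S0300
import Cfsg.Agent.S2566
import Cfsg.Agent.Lib.PSLn.SteinbergChar
import Cfsg.Agent.Lib.SmallSimple.O6PlusS8
import Cfsg.Agent.Lib.CharTheory.Degree
import Cfsg.Agent.Lib.Blocks.DefectZeroCount
import Cfsg.Prelude.Def_Characters

/-!
The two orthogonal groups in dimension four over two elements.
-/

set_option autoImplicit false

namespace CfsgLib.PolarSt

open scoped Classical Matrix commutatorElement
open Cfsg CfsgLib.CharTheory

universe u v w

/-- Transport along an isomorphism. -/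
theorem steinberg_transport {X : Type u} {Y : Type v} [Group X] [Group Y] [Finite X] (p : ℕ) [Fact p.Prime]
    (e : X ≃* Y) (h : ∃ χ : Y → ℂ, IsIrrCharacter Y χ ∧ ∀ P : Sylow p Y, χ 1 = Nat.card P ∧
      ∀ x : Y, x ∈ P → x ≠ 1 → χ x = 0) :
    ∃ χ : X → ℂ, IsIrrCharacter X χ ∧ ∀ P : Sylow p X, χ 1 = Nat.card P ∧
      ∀ x : X, x ∈ P → x ≠ 1 → χ x = 0 := by
  obtain ⟨χ, hirr, hP⟩ := h
  refine ⟨fun x => χ (e x), isIrrCharacter_comp_surjective hirr e.toMonoidHom e.surjective, fun P => ?_⟩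
  let P' : Sylow p Y := P.mapSurjective (f := e.toMonoidHom) e.surjective
  obtain ⟨h1, h2⟩ := hP P'
  refine ⟨?_, fun x hx hne => h2 (e x) (Subgroup.mem_map_of_mem e.toMonoidHom hx)
    fun h => hne (e.injective (h.trans (map_one e).symm))⟩
  show χ (e 1) = _
  rw [map_one, h1]
  exact congrArg Nat.cast (Nat.card_congr
    (Subgroup.equivMapOfInjective (P : Subgroup X) e.toMonoidHom e.injective).toEquiv.symm)

/-- Derived groups modulo their centres correspond. -/
theorem commutator_center_congr {A : Type u} {B : Type v} [Group A] [Group B] (e : A ≃* B) :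
    Nonempty ((commutator A ⧸ Subgroup.center (commutator A)) ≃* (commutator B ⧸ Subgroup.center (commutator B))) := by
  let e' : commutator A ≃* commutator B := (e.subgroupMap (commutator A)).trans (MulEquiv.subgroupCongr (by
    rw [commutator_def, commutator_def, Subgroup.map_commutator,
      Subgroup.map_top_of_surjective _ e.surjective]))
  refine ⟨QuotientGroup.congr _ _ e' ?_⟩
  ext b
  obtain ⟨a, rfl⟩ := e'.surjective b
  refine (Subgroup.mem_map_iff_mem (f := e'.toMonoidHom) e'.injective).trans ?_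
  simp only [Subgroup.mem_center_iff]
  constructor
  · intro h c
    obtain ⟨c, rfl⟩ := e'.surjective c
    show e' c * e' a = e' a * e' c
    rw [← map_mul, ← map_mul, h c]
  · intro h c
    exact e'.injective (by rw [map_mul, map_mul]; exact h (e' c))

theorem minus_four_two {F : Type u} [Field F] [Fintype F] [CharP F 2] (hF : Fintype.card F = 2) (a b : F)
    (hab : ∀ z₁ z₂ : F, z₁ ^ 2 + a * z₁ * z₂ + b * z₂ ^ 2 = 0 → z₁ = 0 ∧ z₂ = 0) :
    ∃ χ : POmega F (quadFormMinus 1 F a b) → ℂ, IsIrrCharacter (POmega F (quadFormMinus 1 F a b)) χ ∧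
      ∀ P : Sylow 2 (POmega F (quadFormMinus 1 F a b)), χ 1 = Nat.card P ∧
        ∀ x : POmega F (quadFormMinus 1 F a b), x ∈ P → x ≠ 1 → χ x = 0 := by
  haveI : Fact (Nat.Prime 2) := ⟨Nat.prime_two⟩
  letI := Fintype.ofFinite (GaloisField 2 2)
  have hK : Fintype.card (GaloisField 2 2) = 2 ^ 2 := by
    rw [← Nat.card_eq_fintype_card, GaloisField.card 2 2 two_ne_zero]
  obtain ⟨e⟩ := Cfsg.Agent.S0300.omega4minus hF hK a b hab
  exact steinberg_transport 2 e (CfsgLib.PSLn.St.psl_steinberg (F := GaloisField 2 2) (n := 2) 2)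

/-- A group of order dividing eighteen, not commutative and of even order. -/
theorem steinberg_of_dvd_eighteen {X : Type u} [Group X] [Finite X] (h18 : Nat.card X ∣ 18)
    (h2 : 2 ∣ Nat.card X) (hna : ∃ a b : X, a * b ≠ b * a) :
    ∃ χ : X → ℂ, IsIrrCharacter X χ ∧ ∀ P : Sylow 2 X, χ 1 = Nat.card P ∧
      ∀ x : X, x ∈ P → x ≠ 1 → χ x = 0 := by
  haveI : Fact (Nat.Prime 2) := ⟨Nat.prime_two⟩
  haveI : Fact (Nat.Prime 3) := ⟨Nat.prime_three⟩
  haveI := Fintype.ofFinite X
  obtain ⟨r, hr⟩ := h2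
  have hr9 : r ∣ 3 ^ 2 := by
    have : 2 * r ∣ 2 * 3 ^ 2 := by rw [← hr]; exact h18
    exact Nat.dvd_of_mul_dvd_mul_left two_pos this
  obtain ⟨A⟩ := (inferInstance : Nonempty (Sylow 3 X))
  obtain ⟨k, hk2, rfl⟩ := (Nat.dvd_prime_pow Nat.prime_three).mp hr9
  have hAc : Nat.card A = 3 ^ k := by
    rw [A.card_eq_multiplicity, hr, Nat.factorization_mul two_ne_zero (pow_ne_zero _ (by norm_num)),
      Nat.Prime.factorization_pow Nat.prime_three, Nat.Prime.factorization Nat.prime_two]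
    simp
  have hAi : (A : Subgroup X).index = 2 := by
    have h := (A : Subgroup X).card_mul_index
    rw [hAc, hr, mul_comm 2] at h
    exact Nat.eq_of_mul_eq_mul_left (pow_pos (by norm_num) k) h
  haveI : (A : Subgroup X).Normal := Subgroup.normal_of_index_eq_two hAi
  have hAcomm : ∀ a ∈ (A : Subgroup X), ∀ b ∈ (A : Subgroup X), a * b = b * a := by
    intro a ha b hb
    have hmul : ∀ s t : A, s * t = t * s := by
      interval_cases k
      · haveI := (Nat.card_eq_one_iff_unique.mp (hAc.trans (pow_zero 3))).1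
        exact fun s t => Subsingleton.elim _ _
      · haveI := isCyclic_of_prime_card (hAc.trans (pow_one 3))
        letI : CommGroup A := IsCyclic.commGroup
        exact fun s t => mul_comm s t
      · exact fun s t => IsPGroup.commutative_of_card_eq_prime_sq hAc s t
    exact congrArg Subtype.val (hmul ⟨a, ha⟩ ⟨b, hb⟩)
  obtain ⟨χ, hirr, hne⟩ : ∃ χ : X → ℂ, IsIrrCharacter X χ ∧ χ 1 ≠ 1 := by
    by_contra hall
    push Not at hall
    obtain ⟨a, b, hab⟩ := hna
    exact hab (commutative_iff_degree_one.mpr (fun ψ => hall ψ.1 ψ.2) a b)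
  have hd : χ 1 = (2 : ℕ) := by
    obtain ⟨n, ρ, hρ, rfl⟩ := hirr
    rw [ρ.char_one] at hne ⊢
    have h := @degree_dvd_index_of_abelian_normal _ _ _ _ _ _ _ ρ hρ (A : Subgroup X) _ hAcomm
    rw [hAi] at h
    rcases (Nat.dvd_prime Nat.prime_two).mp h with h | h
    · exact absurd (by rw [h, Nat.cast_one]) hne
    · rw [h]
  have hf : (Nat.card X).factorization 2 = 1 := by
    rw [hr, Nat.factorization_mul two_ne_zero (pow_ne_zero _ (by norm_num)),
      Nat.Prime.factorization_pow Nat.prime_three, Nat.Prime.factorization Nat.prime_two]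
    simp
  obtain ⟨M, hM⟩ := CfsgLib.Blocks.exists_pModular (p := 2) Nat.prime_two
  refine ⟨χ, hirr, fun P => ⟨?_, fun x hx hx1 => ?_⟩⟩
  · rw [hd, P.card_eq_multiplicity, hf, pow_one]
  · refine CfsgLib.Blocks.ThreePrimes.vanish_of_defZero hM ⟨χ, hirr⟩ ?_ ?_
    · rw [CfsgLib.Blocks.dv_of_one (n := 2) hd, hf, Nat.Prime.factorization_self Nat.prime_two]
    · obtain ⟨j, hj⟩ := P.2 ⟨x, hx⟩
      obtain ⟨i, -, hi⟩ := (Nat.dvd_prime_pow Nat.prime_two).mp
        (orderOf_dvd_of_pow_eq_one (congrArg Subtype.val hj : x ^ 2 ^ j = 1))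
      rcases Nat.eq_zero_or_pos i with rfl | hi0
      · rw [pow_zero, orderOf_eq_one_iff] at hi; exact absurd hi hx1
      · rw [hi]; exact dvd_pow_self 2 hi0.ne'

namespace PlusFour

open Cfsg.Agent.S2566

/-- The orthogonal group. -/
abbrev G4 : Type := isometryGroup (ZMod 2) (quadFormPlus 2 (ZMod 2))

/-- Its elements as words. -/
def el (p : Perm3 × Perm3 × Bool) : G4 :=
  ⟨⟨Mat p, Inv p, (mul_Inv p).1, (mul_Inv p).2⟩, fun u _ => isometry_Mat p u⟩

theorem qv (g : G4) (i : Fin 6) : Q (g.1.1 *ᵥ vec i) = 1 := (g.2 (vec i) (vec i)).trans (Q_vec i)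

/-- The permutation of the six non-singular vectors. -/
def act (g : G4) : Equiv.Perm (Fin 6) where
  toFun i := idx (g.1.1 *ᵥ vec i)
  invFun i := idx ((g⁻¹ : G4).1.1 *ᵥ vec i)
  left_inv i := by
    show idx ((g⁻¹ : G4).1.1 *ᵥ vec (idx (g.1.1 *ᵥ vec i))) = i
    rw [vec_idx _ (qv g i), Matrix.mulVec_mulVec]
    have e : (g⁻¹ : G4).1.1 * g.1.1 = 1 := congrArg (fun t : G4 => t.1.1) (inv_mul_cancel g)
    rw [e, Matrix.one_mulVec]
    exact idx_vec i
  right_inv i := by
    show idx (g.1.1 *ᵥ vec (idx ((g⁻¹ : G4).1.1 *ᵥ vec i))) = i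
    rw [vec_idx _ (qv g⁻¹ i), Matrix.mulVec_mulVec]
    have e : g.1.1 * (g⁻¹ : G4).1.1 = 1 := congrArg (fun t : G4 => t.1.1) (mul_inv_cancel g)
    rw [e, Matrix.one_mulVec]
    exact idx_vec i
where idx_vec : ∀ i : Fin 6, idx (vec i) = i := by decide +kernel

theorem act_apply (g : G4) (i : Fin 6) : act g i = idx (g.1.1 *ᵥ vec i) := rfl

theorem act_mul (g h : G4) : act (g * h) = act g * act h := Equiv.ext fun i => by
  rw [Equiv.Perm.mul_apply, act_apply, act_apply, act_apply, vec_idx _ (qv h i), Matrix.mulVec_mulVec]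
  exact congrArg (fun M => idx (M *ᵥ vec i)) (Units.val_mul g.1 h.1)

/-- The sign of the permutation. -/
def sgn : G4 →* ℤˣ := Equiv.Perm.sign.comp (MonoidHom.mk' act act_mul)

theorem facts :
    let x := ⁅el (Equiv.swap 0 1, 1, false), el (1, 1, true)⁆
    let y := ⁅el (Equiv.swap 0 1, 1, false), el (Equiv.swap 0 1 * Equiv.swap 1 2, 1, false)⁆
    x.1.1 * x.1.1 = 1 ∧ x.1.1 * y.1.1 ≠ y.1.1 * x.1.1 ∧ ⁅x, y⁆.1.1 * x.1.1 ≠ x.1.1 * ⁅x, y⁆.1.1 := by
  decide +kernel

theorem odd_elements : sgn (el (Equiv.swap 0 1, 1, false)) = -1 := by decide +kernel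

theorem el_surjective : Function.Surjective el := by
  have hinj : Function.Injective el := fun p p' h => Mat_injective p p' (congrArg (fun g : G4 => g.1.1) h)
  haveI : Finite G4 := Subtype.finite
  refine (hinj.bijective_of_nat_card_le ?_).2
  rw [Cfsg.Agent.S2566.result.1]
  simp [Nat.card_eq_fintype_card, Fintype.card_perm, Nat.factorial]

theorem blocks : ∀ p : Perm3 × Perm3 × Bool, ∀ i : Fin 6,
    ((idx (Mat p *ᵥ vec i)).val < 3 ↔ ((idx (Mat p *ᵥ vec 0)).val < 3 ↔ i.val < 3)) := by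
  decide +kernel

/-- Whether the two triangles are exchanged. -/
def tri : G4 →* ℤˣ :=
  MonoidHom.mk' (fun g => if (idx (g.1.1 *ᵥ vec 0)).val < 3 then 1 else -1) fun g h => by
    obtain ⟨p, rfl⟩ := el_surjective g
    have hb := blocks p (idx (h.1.1 *ᵥ vec 0))
    have hm : (el p * h : G4).1.1 *ᵥ vec 0 = Mat p *ᵥ vec (idx (h.1.1 *ᵥ vec 0)) := by
      rw [vec_idx _ (qv h 0), Matrix.mulVec_mulVec]; rfl
    rw [hm]
    show _ = (if (idx (Mat p *ᵥ vec 0)).val < 3 then (1 : ℤˣ) else -1) * _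
    by_cases h1 : (idx (Mat p *ᵥ vec 0)).val < 3 <;> by_cases h2 : (idx (h.1.1 *ᵥ vec 0)).val < 3 <;>
      simp [h1, h2, hb]

theorem odd_swap : sgn (el (1, 1, true)) = -1 ∧ (idx (Mat (1, 1, true) *ᵥ vec 0)).val = 3 ∧
    (idx (Mat (Equiv.swap 0 1, 1, false) *ᵥ vec 0)).val < 3 := by
  decide +kernel

theorem commutator_dvd : Nat.card (commutator G4) ∣ 18 := by
  let φ : G4 →* ℤˣ × ℤˣ := sgn.prod tri
  have hs : Function.Surjective φ := by
    obtain ⟨hw, ht, htb⟩ := odd_swap
    have hta : tri (el (Equiv.swap 0 1, 1, false)) = 1 := by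
      show (if (idx (Mat (Equiv.swap 0 1, 1, false) *ᵥ vec 0)).val < 3 then (1 : ℤˣ) else -1) = 1
      exact if_pos htb
    have htw : tri (el (1, 1, true)) = -1 := by
      show (if (idx (Mat (1, 1, true) *ᵥ vec 0)).val < 3 then (1 : ℤˣ) else -1) = -1
      exact if_neg (by omega)
    rintro ⟨s, t⟩
    rcases Int.units_eq_one_or s with rfl | rfl <;> rcases Int.units_eq_one_or t with rfl | rfl
    · exact ⟨1, map_one _⟩
    · exact ⟨el (Equiv.swap 0 1, 1, false) * el (1, 1, true),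
        Prod.ext (by simp [φ, odd_elements, hw]) (by simp [φ, hta, htw])⟩
    · exact ⟨el (Equiv.swap 0 1, 1, false), Prod.ext (by simp [φ, odd_elements]) (by simp [φ, hta])⟩
    · exact ⟨el (1, 1, true), Prod.ext (by simp [φ, hw]) (by simp [φ, htw])⟩
  have hk : Nat.card φ.ker = 18 := by
    have h := φ.ker.card_mul_index
    rw [Subgroup.index_ker, MonoidHom.range_eq_top.mpr hs, Subgroup.card_top, Cfsg.Agent.S2566.result.1,
      Nat.card_prod, Nat.card_eq_fintype_card (α := ℤˣ), Fintype.card_units_int] at h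
    omega
  exact hk ▸ Subgroup.card_dvd_of_le (Abelianization.commutator_subset_ker φ)

theorem steinberg :
    ∃ χ : POmega (ZMod 2) (quadFormPlus 2 (ZMod 2)) → ℂ,
      IsIrrCharacter (POmega (ZMod 2) (quadFormPlus 2 (ZMod 2))) χ ∧
      ∀ P : Sylow 2 (POmega (ZMod 2) (quadFormPlus 2 (ZMod 2))), χ 1 = Nat.card P ∧
        ∀ x : POmega (ZMod 2) (quadFormPlus 2 (ZMod 2)), x ∈ P → x ≠ 1 → χ x = 0 := by
  haveI : Fact (Nat.Prime 2) := ⟨Nat.prime_two⟩
  haveI : Finite G4 := Subtype.finite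
  obtain ⟨h1, h2, h3⟩ := facts
  set x : G4 := ⁅el (Equiv.swap 0 1, 1, false), el (1, 1, true)⁆
  set y : G4 := ⁅el (Equiv.swap 0 1, 1, false), el (Equiv.swap 0 1 * Equiv.swap 1 2, 1, false)⁆
  let x' : commutator G4 :=
    ⟨x, Subgroup.commutator_mem_commutator (Subgroup.mem_top _) (Subgroup.mem_top _)⟩
  let y' : commutator G4 :=
    ⟨y, Subgroup.commutator_mem_commutator (Subgroup.mem_top _) (Subgroup.mem_top _)⟩
  let π := QuotientGroup.mk' (Subgroup.center (commutator G4))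
  have hcx : ∀ t : commutator G4, π t = 1 → (t : G4).1.1 * x.1.1 = x.1.1 * (t : G4).1.1 := fun t ht => by
    have h := Subgroup.mem_center_iff.mp ((QuotientGroup.eq_one_iff t).mp ht) x'
    exact (congrArg (fun s : commutator G4 => (s : G4).1.1) h).symm
  refine steinberg_of_dvd_eighteen (dvd_trans (Subgroup.card_quotient_dvd_card _) commutator_dvd) ?_
    ⟨π x', π y', fun h => h3 (hcx ⁅x', y'⁆ (by rw [map_commutatorElement, commutatorElement_eq_one_iff_mul_comm]; exact h))⟩
  refine (dvd_of_eq (orderOf_eq_prime (p := 2) (x := π x') ?_ fun h => h2 ?_).symm).trans (orderOf_dvd_natCard _)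
  · rw [← map_pow, sq, show x' * x' = 1 from Subtype.ext (Subtype.ext (Units.ext h1)), map_one]
  · exact (congrArg (fun s : commutator G4 => (s : G4).1.1)
      (Subgroup.mem_center_iff.mp ((QuotientGroup.eq_one_iff x').mp h) y')).symm

end PlusFour

theorem plus_four_two {F : Type u} [Field F] [Fintype F] [CharP F 2] (hF : Fintype.card F = 2) :
    ∃ χ : POmega F (quadFormPlus 2 F) → ℂ, IsIrrCharacter (POmega F (quadFormPlus 2 F)) χ ∧
      ∀ P : Sylow 2 (POmega F (quadFormPlus 2 F)), χ 1 = Nat.card P ∧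
        ∀ x : POmega F (quadFormPlus 2 F), x ∈ P → x ≠ 1 → χ x = 0 := by
  haveI : Fact (Nat.Prime 2) := ⟨Nat.prime_two⟩
  obtain ⟨e⟩ := CfsgLib.O6PlusS8.isometry_congr (ZMod.ringEquivOfPrime F Nat.prime_two hF).symm 2
  obtain ⟨e'⟩ := commutator_center_congr e
  exact steinberg_transport 2 e' PlusFour.steinberg

end CfsgLib.PolarSt
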