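import Cfsg.Agent.Lib.PolarSteinberg.Form
import Cfsg.Agent.Lib.PolarSteinberg.Euler

/-!
Existence of frames, the posets of invariant totally singular subspaces and the recursion of their
Euler characteristics at a fixed subspace.
-/

set_option autoImplicit false

namespace CfsgLib.PolarSt

open scoped Classical

namespace PForm

variable {F V : Type*} [Field F] [AddCommGroup V] [Module F V] (D : PForm F V)

/-- Add a hyperbolic pair from the orthogonal. -/
def Frame.extend {D : PForm F V} {k : ℕ} (f : D.Frame k) (h : f.rest.Frame 1) : D.Frame (k + 1) where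
  l := Fin.snoc f.l (h.l 0 : V)
  w := Fin.snoc f.w (h.w 0 : V)
  ll i j := by
    refine Fin.lastCases ?_ (fun i => ?_) i <;> refine Fin.lastCases ?_ (fun j => ?_) j <;>
      simp only [Fin.snoc_last, Fin.snoc_castSucc]
    · exact h.ll 0 0
    · exact D.symm_zero ((f.mem_M.mp (h.l 0).2).1 j)
    · exact (f.mem_M.mp (h.l 0).2).1 i
    · exact f.ll i j
  ww i j := by
    refine Fin.lastCases ?_ (fun i => ?_) i <;> refine Fin.lastCases ?_ (fun j => ?_) j <;>
      simp only [Fin.snoc_last, Fin.snoc_castSucc]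
    · exact h.ww 0 0
    · exact D.symm_zero ((f.mem_M.mp (h.w 0).2).2 j)
    · exact (f.mem_M.mp (h.w 0).2).2 i
    · exact f.ww i j
  lw i j := by
    refine Fin.lastCases ?_ (fun i => ?_) i <;> refine Fin.lastCases ?_ (fun j => ?_) j <;>
      simp only [Fin.snoc_last, Fin.snoc_castSucc]
    · exact ((h.lw 0 0).trans (if_pos rfl)).trans (if_pos trivial).symm
    · rw [D.symm_zero ((f.mem_M.mp (h.l 0).2).2 j), if_neg]
      exact (Fin.castSucc_lt_last j).ne'
    · rw [(f.mem_M.mp (h.w 0).2).1 i, if_neg]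
      exact (Fin.castSucc_lt_last i).ne
    · rw [f.lw]; simp
  Ql i := by
    refine Fin.lastCases ?_ (fun i => ?_) i <;> simp only [Fin.snoc_last, Fin.snoc_castSucc]
    · exact h.Ql 0
    · exact f.Ql i
  Qw i := by
    refine Fin.lastCases ?_ (fun i => ?_) i <;> simp only [Fin.snoc_last, Fin.snoc_castSucc]
    · exact h.Qw 0
    · exact f.Qw i

/-- The empty frame. -/
def emptyFrame : D.Frame 0 where
  l := Fin.elim0
  w := Fin.elim0
  ll i := i.elim0
  ww i := i.elim0
  lw i := i.elim0
  Ql i := i.elim0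
  Qw i := i.elim0

variable [Module.Finite F V]

/-- A totally singular subspace is the first half of a frame. -/
theorem exists_frame (x : Submodule F V) (hx : D.IsSing x) :
    ∃ f : D.Frame (Module.finrank F x), f.X = x := by
  have key : ∀ j ≤ Module.finrank F x, ∃ f : D.Frame j, f.X ≤ x := by
    intro j
    induction j with
    | zero => exact fun _ => ⟨D.emptyFrame, by simp [Frame.X, emptyFrame]⟩
    | succ j ih =>
      intro hj
      obtain ⟨f, hf⟩ := ih (by omega)
      obtain ⟨u, hu, huX⟩ : ∃ u ∈ x, u ∉ f.X := by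
        by_contra h
        push Not at h
        have := Submodule.finrank_mono (show x ≤ f.X from h)
        rw [f.finrank_X] at this
        omega
      have hcW : f.cW u = 0 := funext fun i => hx.2 _ (hf (Submodule.subset_span ⟨i, rfl⟩)) u hu
      have hmx : f.proj u ∈ x := by
        rw [f.proj_apply, hcW, map_zero, sub_zero]
        exact sub_mem hu (hf (f.L_mem _))
      have hm0 : f.proj u ≠ 0 := fun h => by
        rw [f.proj_apply, hcW, map_zero, sub_zero, sub_eq_zero] at h
        exact huX (h ▸ f.L_mem _)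
      obtain ⟨w, hw1, hw2, hw3⟩ := f.rest.exists_opp_vec (l := ⟨f.proj u, f.proj_mem u⟩)
        (fun h => hm0 (congrArg Subtype.val h)) (hx.1 _ hmx) (hx.2 _ hmx _ hmx)
      let h := f.rest.frameOne (l := ⟨f.proj u, f.proj_mem u⟩) (hx.1 _ hmx) (hx.2 _ hmx _ hmx) hw1 hw2 hw3
      refine ⟨f.extend h, Submodule.span_le.mpr ?_⟩
      rintro _ ⟨i, rfl⟩
      refine Fin.lastCases ?_ (fun i => ?_) i
      · show (Fin.snoc f.l _ : Fin (j + 1) → V) (Fin.last j) ∈ x
        rw [Fin.snoc_last]; exact hmx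
      · show (Fin.snoc f.l _ : Fin (j + 1) → V) i.castSucc ∈ x
        rw [Fin.snoc_castSucc]; exact hf (Submodule.subset_span ⟨i, rfl⟩)
  obtain ⟨f, hf⟩ := key _ le_rfl
  exact ⟨f, Submodule.eq_of_le_of_finrank_eq hf f.finrank_X⟩

theorem exists_opp (x : Submodule F V) (hx : D.IsSing x) :
    ∃ b, D.IsSing b ∧ Module.finrank F b = Module.finrank F x ∧ b ⊓ D.perp x = ⊥ := by
  obtain ⟨f, hf⟩ := D.exists_frame x hx
  refine ⟨f.Y, f.isSing_Y, f.finrank_Y, (Submodule.eq_bot_iff _).mpr fun v hv => ?_⟩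
  obtain ⟨a, rfl⟩ := f.mem_Y.mp hv.1
  have : a = 0 := funext fun i => by
    have h := hv.2 (f.l i) (hf.le (Submodule.subset_span ⟨i, rfl⟩))
    rwa [f.BlW] at h
  rw [this, map_zero]

/-- The pairing of a subspace with vectors. -/
def pairMap {k : ℕ} (l : Fin k → V) (b : Submodule F V) : b →ₗ[F] (Fin k → F) :=
  LinearMap.pi fun i => (D.lin (l i)).comp b.subtype

theorem pairMap_injective {k : ℕ} (l : Fin k → V) (b : Submodule F V)
    (hint : b ⊓ D.perp (Submodule.span F (Set.range l)) = ⊥) : Function.Injective (D.pairMap l b) := by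
  rw [injective_iff_map_eq_zero]
  intro u hu
  have : (u : V) ∈ b ⊓ D.perp (Submodule.span F (Set.range l)) := by
    refine ⟨u.2, D.perp_span.mpr ?_⟩
    rintro _ ⟨i, rfl⟩
    exact congrFun hu i
  rw [hint, Submodule.mem_bot] at this
  exact Subtype.ext this

theorem finrank_le_of_inf_perp {x b : Submodule F V} (hint : b ⊓ D.perp x = ⊥) :
    Module.finrank F b ≤ Module.finrank F x := by
  set v := Module.finBasis F x
  have hspan : Submodule.span F (Set.range fun i => (v i : V)) = x := by
    rw [show (fun i => (v i : V)) = x.subtype ∘ v from rfl, Set.range_comp, Submodule.span_image,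
      v.span_eq, Submodule.map_subtype_top]
  have h := LinearMap.finrank_le_finrank_of_injective
    (D.pairMap_injective (fun i => (v i : V)) b (by rw [hspan]; exact hint))
  rwa [Module.finrank_fin_fun] at h

theorem inf_perp_ne_bot {x b : Submodule F V} (h : Module.finrank F b < Module.finrank F x) :
    x ⊓ D.perp b ≠ ⊥ := fun hb => absurd (D.finrank_le_of_inf_perp hb) (not_le.mpr h)

/-- The frame of an opposite pair with a prescribed basis. -/
theorem exists_frame_opp {k : ℕ} (l : Fin k → V) (hx : D.IsSing (Submodule.span F (Set.range l)))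
    (b : Submodule F V) (hb : D.IsSing b) (hdim : Module.finrank F b = k)
    (hint : b ⊓ D.perp (Submodule.span F (Set.range l)) = ⊥) :
    ∃ f : D.Frame k, f.l = l ∧ f.Y = b := by
  have hi := D.pairMap_injective l b hint
  have hs : Function.Surjective (D.pairMap l b) :=
    (LinearMap.injective_iff_surjective_of_finrank_eq_finrank
      (by rw [hdim, Module.finrank_fin_fun])).mp hi
  choose w hw using fun j : Fin k => hs (Pi.single j 1)
  let f : D.Frame k :=
    { l := l
      w := fun j => (w j : V)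
      ll := fun i j => hx.2 _ (Submodule.subset_span ⟨i, rfl⟩) _ (Submodule.subset_span ⟨j, rfl⟩)
      ww := fun i j => hb.2 _ (w i).2 _ (w j).2
      lw := fun i j => by
        have := congrFun (hw j) i
        rw [Pi.single_apply] at this
        exact this
      Ql := fun i => hx.1 _ (Submodule.subset_span ⟨i, rfl⟩)
      Qw := fun i => hb.1 _ (w i).2 }
  refine ⟨f, rfl, Submodule.eq_of_le_of_finrank_eq (Submodule.span_le.mpr ?_) ?_⟩
  · rintro _ ⟨i, rfl⟩; exact (w i).2
  · rw [hdim]; exact f.finrank_Y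

theorem exists_frame_of_opp {x b : Submodule F V} (hx : D.IsSing x) (hb : D.IsSing b)
    (hdim : Module.finrank F b = Module.finrank F x) (hint : b ⊓ D.perp x = ⊥) :
    ∃ f : D.Frame (Module.finrank F x), f.X = x ∧ f.Y = b := by
  obtain ⟨f, hf⟩ := D.exists_frame x hx
  obtain ⟨g, hg, hgY⟩ := D.exists_frame_opp f.l f.isSing_X b hb hdim (by rw [← hf] at hint; exact hint)
  refine ⟨g, ?_, hgY⟩
  show Submodule.span F (Set.range g.l) = x
  rw [hg]; exact hf

section Finite

variable [Finite F]

/-- Subspaces form a finite type. -/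
noncomputable def subsAll (F V : Type*) [Field F] [AddCommGroup V] [Module F V] [Finite F]
    [Module.Finite F V] : Finset (Submodule F V) :=
  haveI : Finite V := Module.finite_of_finite F
  (Set.finite_univ (α := Submodule F V)).toFinset

theorem mem_subsAll (W : Submodule F V) : W ∈ subsAll F V := by
  simp [subsAll]

/-- The invariant totally singular subspaces. -/
noncomputable def subs (g : V ≃ₗ[F] V) : Finset (Submodule F V) :=
  (subsAll F V).filter fun W => W ≠ ⊥ ∧ D.IsSing W ∧ W.map (g : V →ₗ[F] V) = W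

theorem mem_subs {g : V ≃ₗ[F] V} {W : Submodule F V} :
    W ∈ D.subs g ↔ W ≠ ⊥ ∧ D.IsSing W ∧ W.map (g : V →ₗ[F] V) = W := by
  simp [subs, mem_subsAll]

/-- The Euler characteristic. -/
noncomputable def e (g : V ≃ₗ[F] V) : ℤ := eul (D.subs g)

/-- The Euler characteristic of the proper invariant subspaces of a vector space. -/
noncomputable def gl {X : Type*} [AddCommGroup X] [Module F X] [Module.Finite F X] (h : X ≃ₗ[F] X) : ℤ :=
  eul ((subsAll F X).filter fun W => W ≠ ⊥ ∧ W ≠ ⊤ ∧ W.map (h : X →ₗ[F] X) = W)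

variable {D}

/-- The restriction to an invariant subspace. -/
noncomputable def resS (g : V ≃ₗ[F] V) (b : Submodule F V) (hb : b.map (g : V →ₗ[F] V) = b) : b ≃ₗ[F] b :=
  g.ofSubmodules b b hb

omit [Finite F] [Module.Finite F V] in
theorem resS_apply (g : V ≃ₗ[F] V) (b : Submodule F V) (hb : b.map (g : V →ₗ[F] V) = b) (v : b) :
    (resS g b hb v : V) = g v := rfl

omit [Finite F] [Module.Finite F V] in
theorem map_map_resS (g : V ≃ₗ[F] V) (b : Submodule F V) (hb : b.map (g : V →ₗ[F] V) = b)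
    (U : Submodule F b) : (U.map ((resS g b hb : b ≃ₗ[F] b) : b →ₗ[F] b)).map b.subtype =
      (U.map b.subtype).map (g : V →ₗ[F] V) := by
  rw [← Submodule.map_comp, ← Submodule.map_comp]
  rfl

omit [Finite F] in
/-- Invariant subspaces of an invariant subspace. -/
theorem below_eq [Finite F] (g : V ≃ₗ[F] V) {b : Submodule F V} (hb : b ∈ D.subs g) :
    eul ((D.subs g).filter (· < b)) = gl (resS g b (D.mem_subs.mp hb).2.2) := by
  obtain ⟨-, hbs, hbg⟩ := D.mem_subs.mp hb
  have hinj := Submodule.map_injective_of_injective (f := b.subtype) b.injective_subtype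
  refine eul_map _ _ (fun W => W.comap b.subtype) (fun U => U.map b.subtype) ?_ ?_ ?_ ?_
    (fun W _ U _ h => Submodule.comap_mono h) (fun W _ U _ h => Submodule.map_mono h)
  · intro W hW
    obtain ⟨hW, hlt⟩ := Finset.mem_filter.mp hW
    obtain ⟨h0, -, hWg⟩ := D.mem_subs.mp hW
    have e : (W.comap b.subtype).map b.subtype = W := by
      rw [Submodule.map_comap_subtype, inf_eq_right.mpr hlt.le]
    refine Finset.mem_filter.mpr ⟨mem_subsAll _, fun h => ?_, fun h => ?_, ?_⟩
    · rw [h, Submodule.map_bot] at e; exact h0 e.symm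
    · rw [h, Submodule.map_subtype_top] at e; exact hlt.ne e.symm
    · apply hinj
      rw [map_map_resS, e, hWg]
  · intro U hU
    obtain ⟨-, h0, h1, hUg⟩ := Finset.mem_filter.mp hU
    have hle : U.map b.subtype ≤ b := Submodule.map_subtype_le _ _
    refine Finset.mem_filter.mpr ⟨D.mem_subs.mpr ⟨fun h => h0 (hinj (by rw [h, Submodule.map_bot])),
      hbs.mono D hle, by rw [← map_map_resS g b hbg, hUg]⟩, lt_of_le_of_ne hle fun h => h1 (hinj ?_)⟩
    rw [h, Submodule.map_subtype_top]
  · intro W hW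
    show (W.comap b.subtype).map b.subtype = W
    rw [Submodule.map_comap_subtype, inf_eq_right.mpr (Finset.mem_filter.mp hW).2.le]
  · intro U _
    exact Submodule.comap_map_eq_of_injective b.injective_subtype U

variable (D)

theorem perp_invariant {g : V ≃ₗ[F] V} (hg : g ∈ D.Iso) {W : Submodule F V}
    (hW : W.map (g : V →ₗ[F] V) = W) : (D.perp W).map (g : V →ₗ[F] V) = D.perp W := by
  rw [D.perp_map hg, hW]

/-- The opposites of a fixed subspace. -/
noncomputable def opps (g : V ≃ₗ[F] V) (x : Submodule F V) : Finset (Submodule F V) :=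
  (D.subs g).filter fun b => Module.finrank F b = Module.finrank F x ∧ b ⊓ D.perp x = ⊥

/-- The recursion at a fixed totally singular subspace. -/
theorem e_rec {g : V ≃ₗ[F] V} (hg : g ∈ D.Iso) {x : Submodule F V} (hx : x ∈ D.subs g) :
    D.e g = ∑ b ∈ D.opps g x,
      eul ((D.subs g).filter (· < b)) * eul ((D.subs g).filter (b < ·)) := by
  obtain ⟨hx0, hxs, hxg⟩ := D.mem_subs.mp hx
  have hpg := D.perp_invariant hg hxg
  set s := D.subs g with hs
  set Bd := s.filter fun b => b ⊓ D.perp x = ⊥ with hBd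
  have hmem' : ∀ W, W ∈ s \ Bd ↔ W ∈ s ∧ W ⊓ D.perp x ≠ ⊥ := fun W => by
    simp only [hBd, Finset.mem_sdiff, Finset.mem_filter]; tauto
  have hmapinf : ∀ W U : Submodule F V, W.map (g : V →ₗ[F] V) = W → U.map (g : V →ₗ[F] V) = U →
      (W ⊓ U).map (g : V →ₗ[F] V) = W ⊓ U := fun W U hW hU => by
    rw [Submodule.map_inf (g : V →ₗ[F] V) g.injective, hW, hU]
  have hcone : eul (s \ Bd) = 0 := by
    rw [eul_retract_down (s.filter fun W => W ≤ D.perp x) (s \ Bd) ?_ (fun W => W ⊓ D.perp x) ?_
      (fun W _ => inf_le_left) ?_ (fun W _ U _ h => inf_le_inf_right _ h)]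
    · rw [eul_retract_up (s.filter fun W => W ≤ D.perp x ∧ x ≤ W) (s.filter fun W => W ≤ D.perp x) ?_
        (fun W => W ⊔ x) ?_ (fun W _ => le_sup_left) ?_ (fun W _ U _ h => sup_le_sup_right h _)]
      · exact eul_least _ (z := x) (Finset.mem_filter.mpr ⟨hx, D.le_perp hxs, le_rfl⟩)
          fun W hW => (Finset.mem_filter.mp hW).2.2
      · intro W hW
        exact Finset.mem_filter.mpr ⟨(Finset.mem_filter.mp hW).1, (Finset.mem_filter.mp hW).2.1⟩
      · intro W hW
        obtain ⟨hW, hle⟩ := Finset.mem_filter.mp hW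
        obtain ⟨-, hWs, hWg⟩ := D.mem_subs.mp hW
        refine Finset.mem_filter.mpr ⟨D.mem_subs.mpr ⟨fun h => hx0 (le_bot_iff.mp (h ▸ le_sup_right)),
          ?_, by rw [Submodule.map_sup, hWg, hxg]⟩, sup_le hle (D.le_perp hxs), le_sup_right⟩
        exact D.isSing_sup hWs hxs fun u hu w hw => D.symm_zero (hle hw u hu)
      · intro W hW
        exact sup_eq_left.mpr (Finset.mem_filter.mp hW).2.2
    · intro W hW
      obtain ⟨hW, hle⟩ := Finset.mem_filter.mp hW
      exact (hmem' W).mpr ⟨hW, by rw [inf_eq_left.mpr hle]; exact (D.mem_subs.mp hW).1⟩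
    · intro W hW
      obtain ⟨hW, hne⟩ := (hmem' W).mp hW
      obtain ⟨-, hWs, hWg⟩ := D.mem_subs.mp hW
      exact Finset.mem_filter.mpr ⟨D.mem_subs.mpr ⟨hne, hWs.mono D inf_le_left,
        hmapinf _ _ hWg hpg⟩, inf_le_right⟩
    · intro W hW
      exact inf_eq_left.mpr (Finset.mem_filter.mp hW).2
  have hsplit : eul s = eul (s \ Bd) +
      ∑ b ∈ Bd, eul (s.filter (· < b)) * eul ((s \ Bd).filter (b < ·)) := by
    convert eul_split s Bd (Finset.filter_subset _ _) fun b hb y hy hyb =>
      Finset.mem_filter.mpr ⟨hy, le_bot_iff.mp (le_trans (inf_le_inf_right _ hyb.le)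
        (Finset.mem_filter.mp hb).2.le)⟩
  rw [PForm.e, hsplit, hcone, zero_add]
  symm
  have hopps : D.opps g x = Bd.filter fun (b : Submodule F V) => Module.finrank F b = Module.finrank F x := by
    ext b
    simp only [opps, hBd, Finset.mem_filter, ← hs]
    tauto
  rw [hopps, Finset.sum_filter]
  refine Finset.sum_congr rfl fun b hb => ?_
  obtain ⟨hbm, hint⟩ := Finset.mem_filter.mp hb
  obtain ⟨hb0, hbs, hbg⟩ := D.mem_subs.mp hbm
  split_ifs with hdim
  · congr 1
    congr 1
    ext W
    simp only [Finset.mem_filter, hmem']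
    refine ⟨fun ⟨hW, hlt⟩ => ⟨⟨hW, fun h => ?_⟩, hlt⟩, fun h => ⟨h.1.1, h.2⟩⟩
    have h1 := D.finrank_le_of_inf_perp h
    have h2 := Submodule.finrank_lt_finrank_of_lt hlt
    omega
  · have hlt : Module.finrank F b < Module.finrank F x :=
      lt_of_le_of_ne (D.finrank_le_of_inf_perp hint) hdim
    set c := x ⊓ D.perp b with hc
    have hc0 : c ≠ ⊥ := D.inf_perp_ne_bot hlt
    have hbpg := D.perp_invariant hg hbg
    have hcg : c.map (g : V →ₗ[F] V) = c := hmapinf _ _ hxg hbpg
    set P := b ⊔ D.perp x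
    have hzero : eul ((s \ Bd).filter (b < ·)) = 0 := by
      rw [eul_retract_down ((s \ Bd).filter fun W => b < W ∧ W ≤ P) ((s \ Bd).filter (b < ·)) ?_
        (fun W => W ⊓ P) ?_ (fun W _ => inf_le_left) ?_ (fun W _ U _ h => inf_le_inf_right _ h)]
      · rw [eul_retract_up ((s \ Bd).filter fun W => (b < W ∧ W ≤ P) ∧ c ≤ W)
          ((s \ Bd).filter fun W => b < W ∧ W ≤ P) ?_ (fun W => W ⊔ c) ?_ (fun W _ => le_sup_left) ?_
          (fun W _ U _ h => sup_le_sup_right h _)]
        · have hcx : c ≤ D.perp x := le_trans inf_le_left (D.le_perp hxs)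
          have hz : b ⊔ c ∈ (s \ Bd).filter fun W => (b < W ∧ W ≤ P) ∧ c ≤ W := by
            refine Finset.mem_filter.mpr ⟨(hmem' _).mpr ⟨D.mem_subs.mpr ⟨fun h => hb0
              (le_bot_iff.mp (h ▸ le_sup_left)), D.isSing_sup hbs (hxs.mono D inf_le_left)
                fun u hu w hw => hu.2 w hw, by rw [Submodule.map_sup, hbg, hcg]⟩, fun h => hc0
              (le_bot_iff.mp (h ▸ le_inf le_sup_right hcx))⟩,
              ⟨lt_of_le_of_ne le_sup_left fun h => hc0 (le_bot_iff.mp (hint ▸ le_inf (h ▸ le_sup_right) hcx)),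
                sup_le le_sup_left (le_trans hcx le_sup_right)⟩, le_sup_right⟩
          refine eul_least _ hz fun W hW => ?_
          obtain ⟨-, ⟨hW1, -⟩, hW2⟩ := Finset.mem_filter.mp hW
          exact sup_le hW1.le hW2
        · intro W hW
          exact Finset.mem_filter.mpr ⟨(Finset.mem_filter.mp hW).1, (Finset.mem_filter.mp hW).2.1⟩
        · intro W hW
          obtain ⟨hW, hbW, hWP⟩ := Finset.mem_filter.mp hW
          obtain ⟨hW, hne⟩ := (hmem' W).mp hW
          obtain ⟨hW0, hWs, hWg⟩ := D.mem_subs.mp hW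
          refine Finset.mem_filter.mpr ⟨(hmem' _).mpr ⟨D.mem_subs.mpr ⟨fun h => hW0
            (le_bot_iff.mp (h ▸ le_sup_left)), D.isSing_sup hWs (hxs.mono D inf_le_left) ?_,
            by rw [Submodule.map_sup, hWg, hcg]⟩, fun h => hne (le_bot_iff.mp (h ▸
              inf_le_inf_right _ le_sup_left))⟩, ⟨lt_of_lt_of_le hbW le_sup_left, ?_⟩, le_sup_right⟩
          · intro u hu w hw
            obtain ⟨y, hy, z, hz, rfl⟩ := Submodule.mem_sup.mp (hWP hw)
            rw [D.add_left, hu.2 y hy, D.symm_zero (hz u hu.1), add_zero]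
          · exact sup_le hWP (le_trans (le_trans inf_le_left (D.le_perp hxs)) le_sup_right)
        · intro W hW
          exact sup_eq_left.mpr (Finset.mem_filter.mp hW).2.2
      · intro W hW
        exact Finset.mem_filter.mpr ⟨(Finset.mem_filter.mp hW).1, (Finset.mem_filter.mp hW).2.1⟩
      · intro W hW
        obtain ⟨hW, hbW⟩ := Finset.mem_filter.mp hW
        obtain ⟨hW, hne⟩ := (hmem' W).mp hW
        obtain ⟨hW0, hWs, hWg⟩ := D.mem_subs.mp hW
        have h1 : W ⊓ D.perp x ≤ W ⊓ P := inf_le_inf_left _ le_sup_right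
        refine Finset.mem_filter.mpr ⟨(hmem' _).mpr ⟨D.mem_subs.mpr ⟨fun h => hne
          (le_bot_iff.mp (h ▸ h1)), hWs.mono D inf_le_left, hmapinf _ _ hWg
            (by rw [Submodule.map_sup, hbg, hpg])⟩, fun h => hne ?_⟩, ?_, inf_le_right⟩
        · exact le_bot_iff.mp (h ▸ le_inf h1 inf_le_right)
        · refine lt_of_le_of_ne (le_inf hbW.le le_sup_left) fun h => hne (le_bot_iff.mp ?_)
          exact hint ▸ le_inf (h ▸ h1) inf_le_right
      · intro W hW
        exact inf_eq_left.mpr (Finset.mem_filter.mp hW).2.2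
    rw [hzero, mul_zero]

variable {D} {k : ℕ} (f : D.Frame k)

/-- The restriction to the orthogonal of a fixed frame. -/
theorem M_invariant {g : V ≃ₗ[F] V} (hg : g ∈ D.Iso) (hX : f.X.map (g : V →ₗ[F] V) = f.X)
    (hY : f.Y.map (g : V →ₗ[F] V) = f.Y) : f.M.map (g : V →ₗ[F] V) = f.M := by
  rw [Frame.M, Submodule.map_inf (g : V →ₗ[F] V) g.injective, D.perp_invariant hg hX,
    D.perp_invariant hg hY]

omit [Finite F] [Module.Finite F V] in
theorem resS_mem {g : V ≃ₗ[F] V} (hg : g ∈ D.Iso) (h : f.M.map (g : V →ₗ[F] V) = f.M) :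
    resS g f.M h ∈ f.rest.Iso :=
  ⟨fun u v => hg.1 (u : V) (v : V), fun v => hg.2 (v : V)⟩

/-- The subspaces above one half of a fixed frame. -/
theorem above_eq {g : V ≃ₗ[F] V} (hM : f.M.map (g : V →ₗ[F] V) = f.M) (Z : Submodule F V)
    (hZ : Z = f.X ∨ Z = f.Y) (hZg : Z.map (g : V →ₗ[F] V) = Z) :
    eul ((D.subs g).filter (Z < ·)) = f.rest.e (resS g f.M hM) := by
  have hZs : D.IsSing Z := by
    rcases hZ with rfl | rfl
    exacts [f.isSing_X, f.isSing_Y]
  have hMZ : f.M ≤ D.perp Z := by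
    rcases hZ with rfl | rfl
    exacts [inf_le_left, inf_le_right]
  have hproj0 : ∀ v ∈ Z, f.proj v = 0 := by
    intro v hv
    rcases hZ with rfl | rfl
    · exact f.proj_X hv
    · obtain ⟨a, rfl⟩ := f.mem_Y.mp hv
      simpa using f.proj_combo 0 a (zero_mem _)
  have hsub : ∀ v ∈ D.perp Z, v - f.proj v ∈ Z := by
    intro v hv
    rcases hZ with rfl | rfl
    · have hc : f.cW v = 0 := funext fun i => hv _ (Submodule.subset_span ⟨i, rfl⟩)
      rw [f.proj_apply, hc, map_zero, sub_zero, sub_sub_cancel]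
      exact f.L_mem _
    · have hc : f.cL v = 0 := funext fun i => by
        rw [f.cL_apply, hv _ (Submodule.subset_span ⟨i, rfl⟩), mul_zero]; rfl
      rw [f.proj_apply, hc, map_zero, sub_zero, sub_sub_cancel]
      exact f.W_mem _
  have hinj := Submodule.map_injective_of_injective (f := f.M.subtype) f.M.injective_subtype
  have hdec : ∀ W : Submodule F V, Z ≤ W → D.IsSing W →
      Z ⊔ (W.comap f.M.subtype).map f.M.subtype = W := by
    intro W hle hW
    rw [Submodule.map_comap_subtype]
    refine le_antisymm (sup_le hle inf_le_right) fun v hv => ?_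
    have h1 := hsub v fun z hz => hW.2 z (hle hz) v hv
    refine Submodule.mem_sup.mpr ⟨_, h1, f.proj v, ⟨f.proj_mem v, ?_⟩, sub_add_cancel v _⟩
    simpa using sub_mem hv (hle h1)
  refine eul_map _ _ (fun W => W.comap f.M.subtype) (fun U => Z ⊔ U.map f.M.subtype) ?_ ?_ ?_ ?_
    (fun W _ U _ h => Submodule.comap_mono h) (fun W _ U _ h => sup_le_sup_left (Submodule.map_mono h) _)
  · intro W hW
    obtain ⟨hW, hlt⟩ := Finset.mem_filter.mp hW
    obtain ⟨h0, hWs, hWg⟩ := D.mem_subs.mp hW
    refine f.rest.mem_subs.mpr ⟨fun h => hlt.ne ?_, ⟨fun u hu => hWs.1 (u : V) hu,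
      fun u hu v hv => hWs.2 (u : V) hu (v : V) hv⟩, hinj ?_⟩
    · have := hdec W hlt.le hWs
      rwa [h, Submodule.map_bot, sup_bot_eq] at this
    · rw [map_map_resS, Submodule.map_comap_subtype, Submodule.map_inf (g : V →ₗ[F] V) g.injective,
        hM, hWg]
  · intro U hU
    obtain ⟨h0, hUs, hUg⟩ := f.rest.mem_subs.mp hU
    have hle : U.map f.M.subtype ≤ f.M := Submodule.map_subtype_le _ _
    have hU' : D.IsSing (U.map f.M.subtype) := by
      refine ⟨?_, ?_⟩
      · rintro _ ⟨u, hu, rfl⟩; exact hUs.1 u hu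
      · rintro _ ⟨u, hu, rfl⟩ _ ⟨v, hv, rfl⟩; exact hUs.2 u hu v hv
    have hne : Z ⊔ U.map f.M.subtype ≠ Z := fun h => h0 (hinj (by
      rw [Submodule.map_bot, eq_bot_iff]
      intro v hv
      rw [Submodule.mem_bot, ← f.proj_M (hle hv)]
      exact hproj0 v (h.le (Submodule.mem_sup_right hv))))
    refine Finset.mem_filter.mpr ⟨D.mem_subs.mpr ⟨fun h => h0 (hinj (by
      rw [Submodule.map_bot]; exact le_bot_iff.mp (h ▸ le_sup_right))),
      D.isSing_sup hZs hU' fun u hu w hw => hMZ (hle hu) w hw,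
      by rw [Submodule.map_sup, hZg, ← map_map_resS g f.M hM, hUg]⟩,
      lt_of_le_of_ne le_sup_left (Ne.symm hne)⟩
  · intro W hW
    obtain ⟨hW, hlt⟩ := Finset.mem_filter.mp hW
    exact hdec W hlt.le (D.mem_subs.mp hW).2.1
  · intro U hU
    apply hinj
    show ((Z ⊔ U.map f.M.subtype).comap f.M.subtype).map f.M.subtype = _
    rw [Submodule.map_comap_subtype]
    have hle : U.map f.M.subtype ≤ f.M := Submodule.map_subtype_le _ _
    refine le_antisymm ?_ (le_inf hle le_sup_right)
    rintro v ⟨hvM, hv⟩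
    obtain ⟨z, hz, m, hm, rfl⟩ := Submodule.mem_sup.mp hv
    have : z = 0 := by
      have h := f.proj_M hvM
      rw [map_add, hproj0 z hz, zero_add, f.proj_M (hle hm)] at h
      simpa using h.symm
    rwa [this, zero_add]

end Finite

end PForm

end CfsgLib.PolarSt
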