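import Cfsg.Agent.Lib.PolarSteinberg.Poset

/-!
Sums of the Euler characteristics over the isometry group: the mean is zero and the norm is one.
-/

set_option autoImplicit false

namespace CfsgLib.PolarSt

open scoped Classical

universe u v

/-- A sum along a surjective homomorphism. -/
theorem sum_comp_hom {H K : Type*} [Group H] [Group K] [Fintype H] [Fintype K] (φ : H →* K)
    (hφ : Function.Surjective φ) (f : K → ℤ) :
    (Fintype.card K : ℤ) * ∑ h, f (φ h) = (Fintype.card H : ℤ) * ∑ k, f k := by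
  have hfib : ∀ k, (Finset.univ.filter fun h => φ h = k).card = (Finset.univ.filter fun h => φ h = 1).card := by
    intro k
    obtain ⟨t, rfl⟩ := hφ k
    refine Finset.card_bij' (fun h _ => t⁻¹ * h) (fun h _ => t * h) ?_ ?_ ?_ ?_ <;>
      simp +contextual
  have h1 : ∑ h, f (φ h) = (Finset.univ.filter fun h => φ h = 1).card * ∑ k, f k := by
    rw [← Finset.sum_fiberwise_of_maps_to (g := φ) (t := Finset.univ) (fun h _ => Finset.mem_univ _),
      Finset.mul_sum]
    refine Finset.sum_congr rfl fun k _ => ?_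
    rw [Finset.sum_congr rfl fun h hh => by rw [(Finset.mem_filter.mp hh).2], Finset.sum_const, hfib,
      nsmul_eq_mul]
  have h2 : Fintype.card H = (Finset.univ.filter fun h => φ h = 1).card * Fintype.card K := by
    rw [← Finset.card_univ (α := H),
      Finset.card_eq_sum_card_fiberwise (f := φ) (t := Finset.univ) (fun h _ => Finset.mem_univ _)]
    simp only [hfib, Finset.sum_const, Finset.card_univ, smul_eq_mul, mul_comm]
  rw [h1, h2]
  push_cast
  ring

/-- Orbit-stabiliser for a transitive action given by a function. -/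
theorem sum_stab {H α : Type*} [Group H] [Fintype H] (act : H → α → α)
    (hmul : ∀ a b x, act (a * b) x = act a (act b x)) (hone : ∀ x, act 1 x = x) (s : Finset α)
    (hs : s.Nonempty) (hst : ∀ h, ∀ x ∈ s, act h x ∈ s) (htr : ∀ x ∈ s, ∀ y ∈ s, ∃ h, act h x = y) :
    ∑ x ∈ s, (Finset.univ.filter fun h => act h x = x).card = Fintype.card H := by
  obtain ⟨a, ha⟩ := hs
  rw [← Finset.card_univ, Finset.card_eq_sum_card_fiberwise (f := fun h => act h a) (t := s)
    (fun h _ => hst h a ha)]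
  refine Finset.sum_congr rfl fun x hx => ?_
  obtain ⟨t, rfl⟩ := htr a ha x hx
  refine Finset.card_bij' (fun h _ => h * t) (fun h _ => h * t⁻¹) ?_ ?_ ?_ ?_
  · intro h hh
    simp only [Finset.mem_filter, Finset.mem_univ, true_and] at hh ⊢
    rw [hmul, hh]
  · intro h hh
    simp only [Finset.mem_filter, Finset.mem_univ, true_and] at hh ⊢
    rw [hmul, ← hmul t⁻¹ t, inv_mul_cancel, hone, hh]
  · simp
  · simp

variable {F : Type u} [Field F] [Finite F]

noncomputable instance equivFintype {V : Type v} [AddCommGroup V] [Module F V] [Module.Finite F V] :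
    Fintype (V ≃ₗ[F] V) :=
  haveI : Finite V := Module.finite_of_finite F
  haveI : Finite (V ≃ₗ[F] V) := Finite.of_injective (fun g => (g : V → V)) DFunLike.coe_injective
  Fintype.ofFinite _

variable {V : Type v} [AddCommGroup V] [Module F V] [Module.Finite F V]

theorem exists_equiv_map {W W' : Submodule F V} (h : Module.finrank F W = Module.finrank F W')
    (φ : W ≃ₗ[F] W') : ∃ g : V ≃ₗ[F] V, ∀ w : W, g w = φ w := by
  obtain ⟨C, hC⟩ := W.exists_isCompl
  obtain ⟨C', hC'⟩ := W'.exists_isCompl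
  have hdim : Module.finrank F C = Module.finrank F C' := by
    have h1 := Submodule.finrank_add_eq_of_isCompl hC
    have h2 := Submodule.finrank_add_eq_of_isCompl hC'
    omega
  refine ⟨(Submodule.prodEquivOfIsCompl W C hC).symm ≪≫ₗ
    (φ.prodCongr (LinearEquiv.ofFinrankEq C C' hdim)) ≪≫ₗ Submodule.prodEquivOfIsCompl W' C' hC', fun w => ?_⟩
  simp [Submodule.prodEquivOfIsCompl_symm_apply_left]

/-- The stabiliser of a subspace in a group of linear automorphisms. -/
def stabS (H : Subgroup (V ≃ₗ[F] V)) (W : Submodule F V) : Subgroup H where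
  carrier := {g | W.map ((g : V ≃ₗ[F] V) : V →ₗ[F] V) = W}
  mul_mem' {a b} ha hb := by
    show W.map (((a * b : H) : V ≃ₗ[F] V) : V →ₗ[F] V) = W
    rw [show (((a * b : H) : V ≃ₗ[F] V) : V →ₗ[F] V) =
      ((a : V ≃ₗ[F] V) : V →ₗ[F] V).comp ((b : V ≃ₗ[F] V) : V →ₗ[F] V) from rfl,
      Submodule.map_comp, hb, ha]
  one_mem' := Submodule.map_id W
  inv_mem' {a} ha := by
    show W.map (((a⁻¹ : H) : V ≃ₗ[F] V) : V →ₗ[F] V) = W
    conv_lhs => rw [← show W.map ((a : V ≃ₗ[F] V) : V →ₗ[F] V) = W from ha]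
    rw [← Submodule.map_comp]
    convert Submodule.map_id W
    ext v
    exact (a : V ≃ₗ[F] V).symm_apply_apply v

theorem mem_stabS {H : Subgroup (V ≃ₗ[F] V)} {W : Submodule F V} {g : H} :
    g ∈ stabS H W ↔ W.map ((g : V ≃ₗ[F] V) : V →ₗ[F] V) = W := Iff.rfl

/-- Restriction to the subspace. -/
noncomputable def stabHom (H : Subgroup (V ≃ₗ[F] V)) (W : Submodule F V) :
    stabS H W →* (W ≃ₗ[F] W) where
  toFun g := PForm.resS ((g : H) : V ≃ₗ[F] V) W g.2
  map_one' := LinearEquiv.ext fun w => Subtype.ext rfl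
  map_mul' a b := LinearEquiv.ext fun w => Subtype.ext rfl

theorem sum_filter_stab (H : Subgroup (V ≃ₗ[F] V)) (W : Submodule F V) (Φ : H → ℤ) :
    ∑ g ∈ Finset.univ.filter (fun g : H => W.map ((g : V ≃ₗ[F] V) : V →ₗ[F] V) = W), Φ g =
      ∑ g : stabS H W, Φ g := by
  rw [Finset.sum_subtype (p := fun g => g ∈ stabS H W) _ (fun g => by simp [mem_stabS]) Φ]

theorem card_filter_stab (H : Subgroup (V ≃ₗ[F] V)) (W : Submodule F V) :
    (Finset.univ.filter fun g : H => W.map ((g : V ≃ₗ[F] V) : V →ₗ[F] V) = W).card =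
      Fintype.card (stabS H W) := by
  rw [Fintype.card_subtype]
  exact congrArg Finset.card (Finset.filter_congr fun g _ => Iff.rfl)

/-- Transitive stabiliser sums. -/
theorem sum_card_stabS (H : Subgroup (V ≃ₗ[F] V)) (s : Finset (Submodule F V)) (hs : s.Nonempty)
    (hst : ∀ g : H, ∀ W ∈ s, W.map ((g : V ≃ₗ[F] V) : V →ₗ[F] V) ∈ s)
    (htr : ∀ W ∈ s, ∀ W' ∈ s, ∃ g : H, W.map ((g : V ≃ₗ[F] V) : V →ₗ[F] V) = W') :
    ∑ W ∈ s, Fintype.card (stabS H W) = Fintype.card H := by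
  rw [← sum_stab (fun (g : H) (W : Submodule F V) => W.map ((g : V ≃ₗ[F] V) : V →ₗ[F] V))
    (fun a b W => by
      rw [← Submodule.map_comp]; rfl) (fun W => Submodule.map_id W) s hs hst htr]
  exact Finset.sum_congr rfl fun W _ => (card_filter_stab H W).symm

theorem below_gl (h : V ≃ₗ[F] V) {W : Submodule F V} (hW : W ≠ ⊤) (hWh : W.map (h : V →ₗ[F] V) = W) :
    eul (((PForm.subsAll F V).filter fun U => U ≠ ⊥ ∧ U ≠ ⊤ ∧ U.map (h : V →ₗ[F] V) = U).filter (· < W)) =
      PForm.gl (PForm.resS h W hWh) := by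
  have hinj := Submodule.map_injective_of_injective (f := W.subtype) W.injective_subtype
  refine eul_map _ _ (fun U => U.comap W.subtype) (fun U => U.map W.subtype) ?_ ?_ ?_ ?_
    (fun U _ U' _ h => Submodule.comap_mono h) (fun U _ U' _ h => Submodule.map_mono h)
  · intro U hU
    obtain ⟨hU, hlt⟩ := Finset.mem_filter.mp hU
    obtain ⟨-, h0, -, hUg⟩ := Finset.mem_filter.mp hU
    have e : (U.comap W.subtype).map W.subtype = U := by
      rw [Submodule.map_comap_subtype, inf_eq_right.mpr hlt.le]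
    refine Finset.mem_filter.mpr ⟨PForm.mem_subsAll _, fun h => ?_, fun h => ?_, ?_⟩
    · rw [h, Submodule.map_bot] at e; exact h0 e.symm
    · rw [h, Submodule.map_subtype_top] at e; exact hlt.ne e.symm
    · apply hinj
      rw [PForm.map_map_resS, e, hUg]
  · intro U hU
    obtain ⟨-, h0, h1, hUg⟩ := Finset.mem_filter.mp hU
    have hle : U.map W.subtype ≤ W := Submodule.map_subtype_le _ _
    have hlt : U.map W.subtype < W := lt_of_le_of_ne hle fun e => h1 (hinj (by
      rw [e, Submodule.map_subtype_top]))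
    exact Finset.mem_filter.mpr ⟨Finset.mem_filter.mpr ⟨PForm.mem_subsAll _,
      fun e => h0 (hinj (by rw [e, Submodule.map_bot])), hlt.ne_top,
      by rw [← PForm.map_map_resS h W hWh, hUg]⟩, hlt⟩
  · intro U hU
    show (U.comap W.subtype).map W.subtype = U
    rw [Submodule.map_comap_subtype, inf_eq_right.mpr (Finset.mem_filter.mp hU).2.le]
  · intro U _
    exact Submodule.comap_map_eq_of_injective W.injective_subtype U

theorem gl_sum : ∀ (n : ℕ) (X : Type v) [AddCommGroup X] [Module F X] [Module.Finite F X],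
    Module.finrank F X = n → 0 < n →
    ∑ h : X ≃ₗ[F] X, PForm.gl h = if n = 1 then -(Fintype.card (X ≃ₗ[F] X) : ℤ) else 0 := by
  intro n
  induction n using Nat.strong_induction_on with
  | h n ih =>
  intro X _ _ _ hn hpos
  set proper := (PForm.subsAll F X).filter fun W => W ≠ ⊥ ∧ W ≠ ⊤ with hproper
  have hgl : ∀ h : X ≃ₗ[F] X, PForm.gl h = -1 - ∑ W ∈ proper,
      if hW : W ≠ ⊤ ∧ W.map (h : X →ₗ[F] X) = W then PForm.gl (PForm.resS h W hW.2) else 0 := by
    intro h
    rw [PForm.gl, eul_eq_down]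
    congr 1
    rw [← Finset.sum_filter_add_sum_filter_not proper (fun W => W.map (h : X →ₗ[F] X) = W)]
    have hz : ∑ W ∈ proper.filter (fun W => ¬ W.map (h : X →ₗ[F] X) = W),
        (if hW : W ≠ ⊤ ∧ W.map (h : X →ₗ[F] X) = W then PForm.gl (PForm.resS h W hW.2) else 0) = 0 :=
      Finset.sum_eq_zero fun W hW => dif_neg fun hc => (Finset.mem_filter.mp hW).2 hc.2
    rw [hz, add_zero]
    refine Finset.sum_congr (by rw [hproper, Finset.filter_filter]; simp [and_assoc]) fun W hW => ?_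
    rw [hproper, Finset.mem_filter, Finset.mem_filter] at hW
    rw [dif_pos ⟨hW.1.2.2, hW.2⟩]
    exact below_gl h hW.1.2.2 hW.2
  simp only [hgl]
  rw [Finset.sum_sub_distrib, Finset.sum_const, Finset.card_univ, nsmul_eq_mul, Finset.sum_comm]
  set top : Subgroup (X ≃ₗ[F] X) := ⊤ with htop
  have hterm : ∀ W ∈ proper, ∑ h : X ≃ₗ[F] X,
      (if hW : W ≠ ⊤ ∧ W.map (h : X →ₗ[F] X) = W then PForm.gl (PForm.resS h W hW.2) else 0) =
      if Module.finrank F W = 1 then -(Fintype.card (stabS top W) : ℤ) else 0 := by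
    intro W hW
    rw [hproper, Finset.mem_filter] at hW
    obtain ⟨-, h0, h1⟩ := hW
    have hsurj : Function.Surjective (stabHom top W) := by
      intro φ
      obtain ⟨g, hg⟩ := exists_equiv_map rfl φ
      have hm : W.map (g : X →ₗ[F] X) = W := by
        refine Submodule.eq_of_le_of_finrank_eq ?_ (LinearEquiv.finrank_map_eq g W)
        rintro _ ⟨w, hw, rfl⟩
        exact (hg ⟨w, hw⟩) ▸ (φ ⟨w, hw⟩).2
      exact ⟨⟨⟨g, trivial⟩, hm⟩, LinearEquiv.ext fun w => Subtype.ext (hg w)⟩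
    have hWpos : 0 < Module.finrank F W :=
      Nat.pos_of_ne_zero fun e => h0 (Submodule.finrank_eq_zero.mp e)
    have hWlt : Module.finrank F W < n := hn ▸ Submodule.finrank_lt h1
    have key : ∑ h : X ≃ₗ[F] X,
        (if hW : W ≠ ⊤ ∧ W.map (h : X →ₗ[F] X) = W then PForm.gl (PForm.resS h W hW.2) else 0) =
        ∑ g : stabS top W, PForm.gl (stabHom top W g) := by
      symm
      refine Finset.sum_bij_ne_zero (fun g _ _ => ((g : top) : X ≃ₗ[F] X)) (fun _ _ _ => Finset.mem_univ _)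
        (fun a _ _ b _ _ h => Subtype.ext (Subtype.ext h)) (fun b _ hb => ?_) (fun a _ _ => ?_)
      · by_cases hc : W ≠ ⊤ ∧ W.map (b : X →ₗ[F] X) = W
        · rw [dif_pos hc] at hb
          exact ⟨⟨⟨b, trivial⟩, hc.2⟩, Finset.mem_univ _, hb, rfl⟩
        · rw [dif_neg hc] at hb
          exact absurd rfl hb
      · rw [dif_pos ⟨h1, a.2⟩]; rfl
    rw [key]
    have hs := sum_comp_hom (stabHom top W) hsurj PForm.gl
    rw [ih _ hWlt W rfl hWpos] at hs
    have hne : (Fintype.card (W ≃ₗ[F] W) : ℤ) ≠ 0 := Int.natCast_ne_zero.mpr Fintype.card_ne_zero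
    split_ifs at hs ⊢ with h
    · exact mul_left_cancel₀ hne (by rw [hs]; ring)
    · rw [mul_zero] at hs
      exact (mul_eq_zero.mp hs).resolve_left hne
  rw [Finset.sum_congr rfl hterm, ← Finset.sum_filter]
  set lines := proper.filter fun (W : Submodule F X) => Module.finrank F W = 1 with hlines
  by_cases h1 : n = 1
  · rw [if_pos h1]
    have : lines = ∅ := by
      refine Finset.filter_eq_empty_iff.mpr fun W hW hWd => ?_
      rw [hproper, Finset.mem_filter] at hW
      exact hW.2.2 (Submodule.eq_top_of_finrank_eq (by rw [hWd, hn, h1]))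
    rw [this, Finset.sum_empty]; ring
  · rw [if_neg h1]
    have hmem : ∀ W : Submodule F X, W ∈ lines ↔ Module.finrank F W = 1 := by
      intro W
      rw [hlines, hproper, Finset.mem_filter, Finset.mem_filter]
      refine ⟨fun h => h.2, fun h => ⟨⟨PForm.mem_subsAll _, fun e => ?_, fun e => ?_⟩, h⟩⟩
      · rw [e, finrank_bot] at h; omega
      · rw [e, finrank_top] at h; omega
    have hne : lines.Nonempty := by
      haveI : Nontrivial X := Module.nontrivial_of_finrank_pos (R := F) (by omega)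
      obtain ⟨u, hu⟩ := exists_ne (0 : X)
      exact ⟨Submodule.span F {u}, (hmem _).mpr (finrank_span_singleton hu)⟩
    have := sum_card_stabS top lines hne
      (fun g W hW => (hmem _).mpr (((g : X ≃ₗ[F] X).finrank_map_eq W).trans ((hmem _).mp hW)))
      (fun W hW W' hW' => by
        have hd : Module.finrank F W = Module.finrank F W' := by rw [(hmem _).mp hW, (hmem _).mp hW']
        obtain ⟨g, hg⟩ := exists_equiv_map hd (LinearEquiv.ofFinrankEq W W' hd)
        refine ⟨⟨g, trivial⟩, Submodule.eq_of_le_of_finrank_eq ?_ ((g.finrank_map_eq W).trans hd)⟩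
        rintro _ ⟨w, hw, rfl⟩
        exact (hg ⟨w, hw⟩) ▸ (LinearEquiv.ofFinrankEq W W' hd ⟨w, hw⟩).2)
    rw [Finset.sum_neg_distrib, ← Nat.cast_sum, this,
      show Fintype.card top = Fintype.card (X ≃ₗ[F] X) from
        Fintype.card_congr Subgroup.topEquiv.toEquiv]
    ring

namespace PForm

variable (D : PForm F V)

theorem glue_map_X {k : ℕ} (f f' : D.Frame k) (φ : f.M ≃ₗ[F] f'.M) :
    f.X.map ((f.glue f' φ : V ≃ₗ[F] V) : V →ₗ[F] V) = f'.X := by
  refine Submodule.eq_of_le_of_finrank_eq ?_ (by rw [(f.glue f' φ).finrank_map_eq, f.finrank_X, f'.finrank_X])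
  rw [Submodule.map_le_iff_le_comap]
  refine Submodule.span_le.mpr ?_
  rintro _ ⟨i, rfl⟩
  show f.glue f' φ (f.l i) ∈ f'.X
  rw [f.glue_l]
  exact Submodule.subset_span ⟨i, rfl⟩

theorem glue_map_Y {k : ℕ} (f f' : D.Frame k) (φ : f.M ≃ₗ[F] f'.M) :
    f.Y.map ((f.glue f' φ : V ≃ₗ[F] V) : V →ₗ[F] V) = f'.Y := by
  refine Submodule.eq_of_le_of_finrank_eq ?_ (by rw [(f.glue f' φ).finrank_map_eq, f.finrank_Y, f'.finrank_Y])
  rw [Submodule.map_le_iff_le_comap]
  refine Submodule.span_le.mpr ?_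
  rintro _ ⟨i, rfl⟩
  show f.glue f' φ (f.w i) ∈ f'.Y
  rw [f.glue_w]
  exact Submodule.subset_span ⟨i, rfl⟩

/-- The singular subspaces. -/
noncomputable def sing : Finset (Submodule F V) :=
  (subsAll F V).filter fun W => W ≠ ⊥ ∧ D.IsSing W

theorem mem_sing {W : Submodule F V} : W ∈ D.sing ↔ W ≠ ⊥ ∧ D.IsSing W := by
  simp [sing, mem_subsAll]

/-- The singular lines. -/
noncomputable def lines : Finset (Submodule F V) := D.sing.filter fun W => Module.finrank F W = 1

theorem mem_lines {W : Submodule F V} : W ∈ D.lines ↔ D.IsSing W ∧ Module.finrank F W = 1 := by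
  rw [lines, Finset.mem_filter, mem_sing]
  refine ⟨fun h => ⟨h.1.2, h.2⟩, fun h => ⟨⟨fun e => ?_, h.1⟩, h.2⟩⟩
  rw [e, finrank_bot] at h
  exact absurd h.2 zero_ne_one

theorem lines_nonempty (h : D.sing.Nonempty) : D.lines.Nonempty := by
  obtain ⟨W, hW⟩ := h
  obtain ⟨h0, hs⟩ := D.mem_sing.mp hW
  obtain ⟨u, hu, hu0⟩ := Submodule.exists_mem_ne_zero_of_ne_bot h0
  exact ⟨Submodule.span F {u}, D.mem_lines.mpr ⟨hs.mono D ((Submodule.span_singleton_le_iff_mem _ _).mpr hu),
    finrank_span_singleton hu0⟩⟩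

/-- The opposites of a subspace. -/
noncomputable def Opp (x : Submodule F V) : Finset (Submodule F V) :=
  D.sing.filter fun b => Module.finrank F b = Module.finrank F x ∧ b ⊓ D.perp x = ⊥

theorem mem_Opp {x b : Submodule F V} : b ∈ D.Opp x ↔ b ≠ ⊥ ∧ D.IsSing b ∧
    Module.finrank F b = Module.finrank F x ∧ b ⊓ D.perp x = ⊥ := by
  simp [Opp, mem_sing, and_assoc]

theorem Opp_nonempty {x : Submodule F V} (hx : x ∈ D.sing) : (D.Opp x).Nonempty := by
  obtain ⟨h0, hs⟩ := D.mem_sing.mp hx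
  obtain ⟨b, hb1, hb2, hb3⟩ := D.exists_opp x hs
  refine ⟨b, D.mem_Opp.mpr ⟨fun e => h0 ?_, hb1, hb2, hb3⟩⟩
  rw [e, finrank_bot] at hb2
  exact Submodule.finrank_eq_zero.mp hb2.symm

/-- The stabiliser of a subspace is transitive on its opposites. -/
theorem opp_trans {x b b' : Submodule F V} (hx : D.IsSing x) (hb : b ∈ D.Opp x) (hb' : b' ∈ D.Opp x) :
    ∃ g : D.Iso, x.map ((g : V ≃ₗ[F] V) : V →ₗ[F] V) = x ∧ b.map ((g : V ≃ₗ[F] V) : V →ₗ[F] V) = b' := by
  obtain ⟨-, hbs, hbd, hbi⟩ := D.mem_Opp.mp hb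
  obtain ⟨-, hbs', hbd', hbi'⟩ := D.mem_Opp.mp hb'
  obtain ⟨f, hfX, hfY⟩ := D.exists_frame_of_opp hx hbs hbd hbi
  obtain ⟨f', hl, hfY'⟩ := D.exists_frame_opp f.l f.isSing_X b' hbs' hbd' (by rw [← hfX] at hbi'; exact hbi')
  have hXX : f.X = f'.X := by show _ = Submodule.span F (Set.range f'.l); rw [hl]; rfl
  obtain ⟨φ, hB, hQ⟩ := f.exists_same_X f' hXX
  exact ⟨⟨f.glue f' φ, f.glue_mem f' φ hB hQ⟩,
    by have h := D.glue_map_X f f' φ; rw [← hXX, hfX] at h; exact h,
    by have h := D.glue_map_Y f f' φ; rw [hfY, hfY'] at h; exact h⟩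

/-- Opposite pairs can be exchanged. -/
theorem opp_swap {x b : Submodule F V} (hx : D.IsSing x) (hb : b ∈ D.Opp x) :
    x ∈ D.Opp b ∧ ∃ g : D.Iso, x.map ((g : V ≃ₗ[F] V) : V →ₗ[F] V) = b := by
  obtain ⟨hb0, hbs, hbd, hbi⟩ := D.mem_Opp.mp hb
  obtain ⟨f, hfX, hfY⟩ := D.exists_frame_of_opp hx hbs hbd hbi
  refine ⟨D.mem_Opp.mpr ⟨fun e => hb0 ?_, hx, hbd.symm, ?_⟩, ?_⟩
  · rw [e, finrank_bot] at hbd
    exact Submodule.finrank_eq_zero.mp hbd
  · rw [← hfX, ← hfY, Submodule.eq_bot_iff]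
    rintro v ⟨hv1, hv2⟩
    obtain ⟨a, rfl⟩ := f.mem_X.mp hv1
    have : a = 0 := funext fun i => by
      have h := hv2 (f.w i) (Submodule.subset_span ⟨i, rfl⟩)
      rw [f.BwL] at h
      exact (mul_eq_zero.mp h).resolve_left D.hε
    rw [this, map_zero]
  · refine ⟨⟨f.glue f.swap (LinearEquiv.ofEq _ _ f.swap_M.symm),
      f.glue_mem _ _ (fun _ _ => rfl) (fun _ => rfl)⟩, ?_⟩
    have h := D.glue_map_X f f.swap (LinearEquiv.ofEq _ _ f.swap_M.symm)
    rw [f.swap_X, hfX, hfY] at h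
    exact h

/-- The isometry group is transitive on singular lines. -/
theorem line_trans {x x' : Submodule F V} (hx : x ∈ D.lines) (hx' : x' ∈ D.lines) :
    ∃ g : D.Iso, x.map ((g : V ≃ₗ[F] V) : V →ₗ[F] V) = x' := by
  obtain ⟨hs, hd⟩ := D.mem_lines.mp hx
  obtain ⟨hs', hd'⟩ := D.mem_lines.mp hx'
  have hne' : x' ≠ ⊥ := (D.mem_sing.mp (Finset.mem_filter.mp hx').1).1
  by_cases hopp : x' ⊓ D.perp x = ⊥
  · exact (D.opp_swap hs (D.mem_Opp.mpr ⟨hne', hs', by rw [hd, hd'], hopp⟩)).2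
  obtain ⟨u, hu, hu0⟩ := Submodule.exists_mem_ne_zero_of_ne_bot
    (D.mem_sing.mp (Finset.mem_filter.mp hx).1).1
  obtain ⟨u', hu', hu0'⟩ := Submodule.exists_mem_ne_zero_of_ne_bot hne'
  have hxu : x = Submodule.span F {u} := (Submodule.eq_of_le_of_finrank_eq
    ((Submodule.span_singleton_le_iff_mem _ _).mpr hu) (by rw [finrank_span_singleton hu0, hd])).symm
  have hxu' : x' = Submodule.span F {u'} := (Submodule.eq_of_le_of_finrank_eq
    ((Submodule.span_singleton_le_iff_mem _ _).mpr hu') (by rw [finrank_span_singleton hu0', hd'])).symm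
  have hperp : x' ≤ D.perp x := by
    by_contra h
    refine hopp (Submodule.eq_bot_iff _ |>.mpr fun v hv => ?_)
    by_contra hv0
    refine h (fun t ht => ?_)
    obtain ⟨c, rfl⟩ := Submodule.mem_span_singleton.mp (hxu' ▸ hv.1)
    obtain ⟨d, rfl⟩ := Submodule.mem_span_singleton.mp (hxu' ▸ ht)
    have hc : c ≠ 0 := fun e => hv0 (by rw [e, zero_smul])
    have h1 : u' ∈ D.perp x := by
      have := (D.perp x).smul_mem c⁻¹ hv.2
      rwa [smul_smul, inv_mul_cancel₀ hc, one_smul] at this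
    exact (D.perp x).smul_mem d h1
  have hy : D.IsSing (x ⊔ x') := D.isSing_sup hs hs' fun a ha b hb => hperp ha b hb
  obtain ⟨f, hf⟩ := D.exists_frame (x ⊔ x') hy
  have hdet : ∀ v ∈ x ⊔ x', v ≠ 0 → ∃ a, D.B v (f.W a) ≠ 0 := by
    intro v hv hv0
    obtain ⟨c, rfl⟩ := f.mem_X.mp (hf.symm ▸ hv)
    by_contra h
    push Not at h
    refine hv0 ?_
    have : c = 0 := funext fun i => by
      have h1 := D.symm_zero (h (Pi.single i 1))
      rw [f.W_apply] at h1
      simp [Pi.single_apply, D.sum_left, f.BwL, D.hε] at h1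
      exact h1
    rw [this, map_zero]
  obtain ⟨a, ha⟩ := hdet u (le_sup_left (a := x) hu) hu0
  obtain ⟨a', ha'⟩ := hdet u' (le_sup_right (b := x') hu') hu0'
  obtain ⟨c, hc1, hc2⟩ : ∃ c, D.B u (f.W c) ≠ 0 ∧ D.B u' (f.W c) ≠ 0 := by
    by_cases h1 : D.B u' (f.W a) ≠ 0
    · exact ⟨a, ha, h1⟩
    by_cases h2 : D.B u (f.W a') ≠ 0
    · exact ⟨a', h2, ha'⟩
    push Not at h1 h2
    refine ⟨a + a', ?_, ?_⟩
    · rw [map_add, D.add_right, h2, add_zero]; exact ha
    · rw [map_add, D.add_right, h1, zero_add]; exact ha'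
  have hw0 : f.W c ≠ 0 := fun e => hc1 (by rw [e, D.zero_right])
  set z := Submodule.span F {f.W c} with hz
  have hzs : D.IsSing z := f.isSing_Y.mono D ((Submodule.span_singleton_le_iff_mem _ _).mpr (f.W_mem c))
  have hzopp : ∀ t : V, t ≠ 0 → D.IsSing (Submodule.span F {t}) → D.B t (f.W c) ≠ 0 →
      Submodule.span F {t} ∈ D.Opp z := by
    intro t ht0 hts ht
    refine D.mem_Opp.mpr ⟨by simp [ht0], hts,
      by rw [finrank_span_singleton ht0, finrank_span_singleton hw0], ?_⟩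
    rw [Submodule.eq_bot_iff]
    rintro v ⟨hv, hv2⟩
    obtain ⟨d, rfl⟩ := Submodule.mem_span_singleton.mp hv
    have h1 := D.symm_zero (hv2 (f.W c) (Submodule.mem_span_singleton_self _))
    rw [D.smul_left, mul_eq_zero] at h1
    rcases h1 with h1 | h1
    · rw [(map_eq_zero D.σ).mp h1, zero_smul]
    · exact absurd h1 ht
  obtain ⟨g, -, hg⟩ := D.opp_trans hzs (hzopp u hu0 (hxu ▸ hs) hc1) (hzopp u' hu0' (hxu' ▸ hs') hc2)
  exact ⟨g, by rw [hxu, hxu']; exact hg⟩

theorem sum_lines (h : D.sing.Nonempty) :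
    ∑ x ∈ D.lines, Fintype.card (stabS D.Iso x) = Fintype.card D.Iso :=
  sum_card_stabS D.Iso D.lines (D.lines_nonempty h)
    (fun g W hW => D.mem_lines.mpr ⟨D.isSing_map g.2 (D.mem_lines.mp hW).1,
      ((g : V ≃ₗ[F] V).finrank_map_eq W).trans (D.mem_lines.mp hW).2⟩)
    (fun _ hW _ hW' => D.line_trans hW hW')

theorem subs_eq (g : V ≃ₗ[F] V) : D.subs g = D.sing.filter fun W => W.map (g : V →ₗ[F] V) = W := by
  ext W
  simp [mem_subs, mem_sing, and_assoc]

theorem stab_surjective {x : Submodule F V} (hx : x ∈ D.sing) :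
    Function.Surjective (stabHom D.Iso x) := by
  intro φ
  obtain ⟨b, hb⟩ := D.Opp_nonempty hx
  obtain ⟨-, hbs, hbd, hbi⟩ := D.mem_Opp.mp hb
  have hxs := (D.mem_sing.mp hx).2
  obtain ⟨f, hfX, hfY⟩ := D.exists_frame_of_opp hxs hbs hbd hbi
  have hmem : ∀ i, f.l i ∈ x := fun i => hfX.le (Submodule.subset_span ⟨i, rfl⟩)
  let l' : Fin _ → V := fun i => (φ ⟨f.l i, hmem i⟩ : V)
  have hspan : Submodule.span F (Set.range l') = x := by
    have e1 : Submodule.span F (Set.range fun i => (⟨f.l i, hmem i⟩ : x)) = ⊤ :=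
      Submodule.map_injective_of_injective x.injective_subtype (by
        rw [Submodule.map_span, ← Set.range_comp, Submodule.map_subtype_top]; exact hfX)
    have e2 := congrArg (Submodule.map (x.subtype.comp (φ : x →ₗ[F] x))) e1
    rw [Submodule.map_span, ← Set.range_comp, Submodule.map_top, LinearMap.range_comp,
      LinearEquiv.range, Submodule.map_subtype_top] at e2
    exact e2
  obtain ⟨f', hl, hfY'⟩ := D.exists_frame_opp l' (by rw [hspan]; exact hxs) b hbs hbd
    (by rw [hspan]; exact hbi)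
  have hX' : f'.X = x := by show Submodule.span F (Set.range f'.l) = x; rw [hl]; exact hspan
  have hM : f.M = f'.M := by rw [Frame.M, Frame.M, hfX, hX', hfY, hfY']
  let g : D.Iso := ⟨f.glue f' (LinearEquiv.ofEq _ _ hM), f.glue_mem _ _ (fun _ _ => rfl) (fun _ => rfl)⟩
  have hgx : x.map ((g : V ≃ₗ[F] V) : V →ₗ[F] V) = x := by
    have h := D.glue_map_X f f' (LinearEquiv.ofEq _ _ hM)
    rw [hfX, hX'] at h
    exact h
  refine ⟨⟨g, hgx⟩, LinearEquiv.ext fun v => Subtype.ext ?_⟩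
  have key : ((g : V ≃ₗ[F] V) : V →ₗ[F] V).comp f.L =
      (x.subtype.comp (φ : x →ₗ[F] x)).comp (LinearMap.codRestrict x f.L fun a => hfX.le (f.L_mem a)) := by
    refine (Pi.basisFun F _).ext fun i => ?_
    have hL : f.L (Pi.single i 1) = f.l i := by simp [Frame.L, Fintype.linearCombination_apply_single]
    simp only [Pi.basisFun_apply, LinearMap.comp_apply, LinearEquiv.coe_coe, hL]
    show f.glue f' _ (f.l i) = _
    rw [f.glue_l, hl]
    show (φ ⟨f.l i, hmem i⟩ : V) = _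
    congr 2
    exact Subtype.ext hL.symm
  obtain ⟨a, ha⟩ := f.mem_X.mp (hfX.ge v.2)
  have h1 := LinearMap.congr_fun key a
  simp only [LinearMap.comp_apply, LinearEquiv.coe_coe] at h1
  show (g : V ≃ₗ[F] V) (v : V) = (φ v : V)
  rw [← ha, h1]
  show (φ _ : V) = _
  exact congrArg (fun t => (φ t : V)) (Subtype.ext ha)

theorem sum_e (h : D.sing.Nonempty) : ∑ g : D.Iso, D.e (g : V ≃ₗ[F] V) = 0 := by
  have he : ∀ g : D.Iso, D.e (g : V ≃ₗ[F] V) = -1 - ∑ x ∈ D.sing,
      if hx : x.map ((g : V ≃ₗ[F] V) : V →ₗ[F] V) = x then gl (resS (g : V ≃ₗ[F] V) x hx) else 0 := by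
    intro g
    rw [PForm.e, eul_eq_down, D.subs_eq, Finset.sum_filter]
    congr 1
    refine Finset.sum_congr rfl fun x hx => ?_
    split_ifs with hfix
    · rw [← D.subs_eq, below_eq]
      exact D.mem_subs.mpr ⟨(D.mem_sing.mp hx).1, (D.mem_sing.mp hx).2, hfix⟩
    · rfl
  simp only [he]
  rw [Finset.sum_sub_distrib, Finset.sum_const, Finset.card_univ, nsmul_eq_mul, Finset.sum_comm]
  have hterm : ∀ x ∈ D.sing, ∑ g : D.Iso,
      (if hx : x.map ((g : V ≃ₗ[F] V) : V →ₗ[F] V) = x then gl (resS (g : V ≃ₗ[F] V) x hx) else 0) =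
      if Module.finrank F x = 1 then -(Fintype.card (stabS D.Iso x) : ℤ) else 0 := by
    intro x hx
    have key : ∑ g : D.Iso,
        (if hx : x.map ((g : V ≃ₗ[F] V) : V →ₗ[F] V) = x then gl (resS (g : V ≃ₗ[F] V) x hx) else 0) =
        ∑ g : stabS D.Iso x, gl (stabHom D.Iso x g) := by
      symm
      refine Finset.sum_bij_ne_zero (fun g _ _ => (g : D.Iso)) (fun _ _ _ => Finset.mem_univ _)
        (fun a _ _ b _ _ h => Subtype.ext h) (fun b _ hb => ?_) (fun a _ _ => ?_)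
      · by_cases hc : x.map ((b : V ≃ₗ[F] V) : V →ₗ[F] V) = x
        · rw [dif_pos hc] at hb; exact ⟨⟨b, hc⟩, Finset.mem_univ _, hb, rfl⟩
        · rw [dif_neg hc] at hb; exact absurd rfl hb
      · rw [dif_pos (mem_stabS.mp a.2)]; rfl
    rw [key]
    have hs := sum_comp_hom (stabHom D.Iso x) (D.stab_surjective hx) gl
    rw [gl_sum (Module.finrank F x) x rfl
      (Nat.pos_of_ne_zero fun e => (D.mem_sing.mp hx).1 (Submodule.finrank_eq_zero.mp e))] at hs
    have hne : (Fintype.card (x ≃ₗ[F] x) : ℤ) ≠ 0 := Int.natCast_ne_zero.mpr Fintype.card_ne_zero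
    split_ifs at hs ⊢ with h1
    · exact mul_left_cancel₀ hne (by rw [hs]; ring)
    · rw [mul_zero] at hs
      exact (mul_eq_zero.mp hs).resolve_left hne
  rw [Finset.sum_congr rfl hterm, ← Finset.sum_filter]
  show _ - ∑ x ∈ D.lines, _ = (0 : ℤ)
  rw [Finset.sum_neg_distrib, ← Nat.cast_sum, D.sum_lines h]
  ring

variable {D} {k : ℕ} (f : D.Frame k)

/-- The stabiliser of both halves of a frame. -/
abbrev pairStab : Subgroup D.Iso := stabS D.Iso f.X ⊓ stabS D.Iso f.Y

/-- The Levi decomposition. -/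
noncomputable def pairHom : pairStab f →* (f.X ≃ₗ[F] f.X) × f.rest.Iso where
  toFun g := (resS ((g : D.Iso) : V ≃ₗ[F] V) f.X g.2.1,
    ⟨resS ((g : D.Iso) : V ≃ₗ[F] V) f.M (M_invariant f (g : D.Iso).2 g.2.1 g.2.2),
      resS_mem f (g : D.Iso).2 _⟩)
  map_one' := Prod.ext (LinearEquiv.ext fun _ => Subtype.ext rfl)
    (Subtype.ext (LinearEquiv.ext fun _ => Subtype.ext rfl))
  map_mul' a b := Prod.ext (LinearEquiv.ext fun _ => Subtype.ext rfl)
    (Subtype.ext (LinearEquiv.ext fun _ => Subtype.ext rfl))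

theorem pairHom_bijective : Function.Bijective (pairHom f) := by
  constructor
  · rw [injective_iff_map_eq_one]
    intro g hg
    set t : V ≃ₗ[F] V := ((g : D.Iso) : V ≃ₗ[F] V) with ht
    have hX : ∀ v ∈ f.X, t v = v := fun v hv => by
      have := congrArg (fun p => ((p.1 : f.X ≃ₗ[F] f.X) ⟨v, hv⟩ : V)) hg
      exact this
    have hM : ∀ v ∈ f.M, t v = v := fun v hv => by
      have := congrArg (fun p : (f.X ≃ₗ[F] f.X) × f.rest.Iso => (((p.2 : f.M ≃ₗ[F] f.M)) ⟨v, hv⟩ : V)) hg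
      exact this
    have hY : ∀ v ∈ f.Y, t v = v := fun v hv => by
      have hmem : t v ∈ f.Y := (mem_stabS.mp g.2.2).le (Submodule.mem_map_of_mem hv)
      obtain ⟨c, hc⟩ := f.mem_Y.mp hmem
      obtain ⟨d, rfl⟩ := f.mem_Y.mp hv
      have : c = d := funext fun i => by
        have h1 := (g : D.Iso).2.1 (f.l i) (f.W d)
        rw [← ht, hX _ (Submodule.subset_span ⟨i, rfl⟩), ← hc, f.BlW, f.BlW] at h1
        exact h1
      rw [← hc, this]
    refine Subtype.ext (Subtype.ext (LinearEquiv.ext fun v => ?_))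
    show t v = v
    conv_lhs => rw [← f.decomp v]
    rw [map_add, map_add, hX _ (f.L_mem _), hY _ (f.W_mem _), hM _ (f.proj_mem _), f.decomp]
  · rintro ⟨φ, ψ⟩
    have hmem : ∀ i, f.l i ∈ f.X := fun i => Submodule.subset_span ⟨i, rfl⟩
    let l' : Fin k → V := fun i => (φ ⟨f.l i, hmem i⟩ : V)
    have hspan : Submodule.span F (Set.range l') = f.X := by
      have e1 : Submodule.span F (Set.range fun i => (⟨f.l i, hmem i⟩ : f.X)) = ⊤ :=
        Submodule.map_injective_of_injective f.X.injective_subtype (by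
          rw [Submodule.map_span, ← Set.range_comp, Submodule.map_subtype_top]; rfl)
      have e2 := congrArg (Submodule.map (f.X.subtype.comp (φ : f.X →ₗ[F] f.X))) e1
      rw [Submodule.map_span, ← Set.range_comp, Submodule.map_top, LinearMap.range_comp,
        LinearEquiv.range, Submodule.map_subtype_top] at e2
      exact e2
    obtain ⟨f', hl, hfY'⟩ := D.exists_frame_opp l' (by rw [hspan]; exact f.isSing_X) f.Y f.isSing_Y
      f.finrank_Y (by
        rw [hspan, Submodule.eq_bot_iff]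
        rintro v ⟨hv1, hv2⟩
        obtain ⟨c, rfl⟩ := f.mem_Y.mp hv1
        have : c = 0 := funext fun i => by
          have h := hv2 (f.l i) (hmem i)
          rwa [f.BlW] at h
        rw [this, map_zero])
    have hX' : f'.X = f.X := by show Submodule.span F (Set.range f'.l) = f.X; rw [hl]; exact hspan
    have hM : f.M = f'.M := by rw [Frame.M, Frame.M, hX', hfY']
    let χ : f.M ≃ₗ[F] f'.M := (ψ : f.M ≃ₗ[F] f.M) ≪≫ₗ LinearEquiv.ofEq _ _ hM
    let g : D.Iso := ⟨f.glue f' χ, f.glue_mem _ _ (fun u v => ψ.2.1 u v) (fun v => ψ.2.2 v)⟩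
    have hgX : g ∈ stabS D.Iso f.X := mem_stabS.mpr ((D.glue_map_X f f' χ).trans hX')
    have hgY : g ∈ stabS D.Iso f.Y := mem_stabS.mpr ((D.glue_map_Y f f' χ).trans hfY')
    refine ⟨⟨g, hgX, hgY⟩, Prod.ext ?_ (Subtype.ext ?_)⟩
    · refine LinearEquiv.toLinearMap_injective ?_
      refine LinearMap.ext_on (Submodule.map_injective_of_injective f.X.injective_subtype (by
          rw [Submodule.map_span, ← Set.range_comp, Submodule.map_subtype_top]; rfl) :
        Submodule.span F (Set.range fun i => (⟨f.l i, hmem i⟩ : f.X)) = ⊤) ?_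
      rintro _ ⟨i, rfl⟩
      apply Subtype.ext
      show f.glue f' χ (f.l i) = _
      rw [f.glue_l, hl]; rfl
    · refine LinearEquiv.ext fun m => Subtype.ext ?_
      show f.glue f' χ (m : V) = _
      rw [f.glue_M]; rfl

variable (D)

/-- The opposite-pair contribution to the norm. -/
theorem pair_term {x b : Submodule F V} (hx : x ∈ D.sing) (hb : b ∈ D.Opp x)
    (ih : ∀ (k : ℕ) (f : D.Frame k), 0 < k →
      ∑ g : f.rest.Iso, f.rest.e (g : f.M ≃ₗ[F] f.M) ^ 2 = (Fintype.card f.rest.Iso : ℤ)) :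
    ∑ g ∈ Finset.univ.filter (fun g : D.Iso => x.map ((g : V ≃ₗ[F] V) : V →ₗ[F] V) = x ∧
        b.map ((g : V ≃ₗ[F] V) : V →ₗ[F] V) = b),
      eul ((D.subs (g : V ≃ₗ[F] V)).filter (· < b)) * eul ((D.subs (g : V ≃ₗ[F] V)).filter (b < ·)) *
        eul ((D.subs (g : V ≃ₗ[F] V)).filter (x < ·)) =
      if Module.finrank F x = 1 then -((Finset.univ.filter fun g : D.Iso =>
        x.map ((g : V ≃ₗ[F] V) : V →ₗ[F] V) = x ∧ b.map ((g : V ≃ₗ[F] V) : V →ₗ[F] V) = b).card : ℤ)
      else 0 := by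
  obtain ⟨hb0, hbs, hbd, hbi⟩ := D.mem_Opp.mp hb
  obtain ⟨hx0, hxs⟩ := D.mem_sing.mp hx
  obtain ⟨k, f, rfl, rfl⟩ : ∃ (k : ℕ) (f : D.Frame k), f.X = b ∧ f.Y = x := by
    obtain ⟨f₀, hfX, hfY⟩ := D.exists_frame_of_opp hxs hbs hbd hbi
    exact ⟨_, f₀.swap, f₀.swap_X.trans hfY, f₀.swap_Y.trans hfX⟩
  have hk : 0 < Module.finrank F f.Y :=
    Nat.pos_of_ne_zero fun e => hx0 (Submodule.finrank_eq_zero.mp e)
  have hmem : ∀ g : D.Iso, g ∈ Finset.univ.filter (fun g : D.Iso =>
      f.Y.map ((g : V ≃ₗ[F] V) : V →ₗ[F] V) = f.Y ∧ f.X.map ((g : V ≃ₗ[F] V) : V →ₗ[F] V) = f.X) ↔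
      g ∈ pairStab f := fun g => by
    simp [pairStab, Subgroup.mem_inf, mem_stabS, and_comm]
  have hcard : (Finset.univ.filter fun g : D.Iso => f.Y.map ((g : V ≃ₗ[F] V) : V →ₗ[F] V) = f.Y ∧
      f.X.map ((g : V ≃ₗ[F] V) : V →ₗ[F] V) = f.X).card = Fintype.card (pairStab f) := by
    rw [Fintype.card_subtype]
    exact congrArg Finset.card (Finset.ext fun g => by rw [hmem]; simp)
  rw [Finset.sum_subtype (p := fun g => g ∈ pairStab f) _ hmem, hcard]
  have hval : ∀ g : pairStab f,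
      eul ((D.subs ((g : D.Iso) : V ≃ₗ[F] V)).filter (· < f.X)) *
        eul ((D.subs ((g : D.Iso) : V ≃ₗ[F] V)).filter (f.X < ·)) *
        eul ((D.subs ((g : D.Iso) : V ≃ₗ[F] V)).filter (f.Y < ·)) =
      gl (pairHom f g).1 * f.rest.e ((pairHom f g).2 : f.M ≃ₗ[F] f.M) ^ 2 := by
    intro g
    have hM := M_invariant f (g : D.Iso).2 g.2.1 g.2.2
    rw [below_eq _ (D.mem_subs.mpr ⟨hb0, hbs, mem_stabS.mp g.2.1⟩),
      above_eq f hM f.X (Or.inl rfl) (mem_stabS.mp g.2.1),
      above_eq f hM f.Y (Or.inr rfl) (mem_stabS.mp g.2.2), sq, mul_assoc]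
    rfl
  rw [Finset.sum_congr rfl fun g _ => hval g]
  rw [(pairHom_bijective f).sum_comp (fun p => gl p.1 * f.rest.e (p.2 : f.M ≃ₗ[F] f.M) ^ 2),
    Fintype.sum_prod_type, Fintype.card_of_bijective (pairHom_bijective f)]
  simp only [← Finset.mul_sum, ih _ f (by rw [f.finrank_Y] at hk; exact hk), ← Finset.sum_mul]
  rw [gl_sum (Module.finrank F f.X) f.X rfl (by rw [f.finrank_X]; rw [f.finrank_Y] at hk; exact hk),
    f.finrank_X, f.finrank_Y, Fintype.card_prod]
  split_ifs <;> push_cast <;> ring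

theorem norm_step (ih : ∀ (k : ℕ) (f : D.Frame k), 0 < k →
      ∑ g : f.rest.Iso, f.rest.e (g : f.M ≃ₗ[F] f.M) ^ 2 = (Fintype.card f.rest.Iso : ℤ)) :
    ∑ g : D.Iso, D.e (g : V ≃ₗ[F] V) ^ 2 = (Fintype.card D.Iso : ℤ) := by
  rcases D.sing.eq_empty_or_nonempty with h0 | hne
  · have : ∀ g : D.Iso, D.e (g : V ≃ₗ[F] V) = -1 := fun g => by
      rw [PForm.e, D.subs_eq, h0, Finset.filter_empty, eul_empty]
    simp [this]
  have he : ∀ g : D.Iso, D.e (g : V ≃ₗ[F] V) ^ 2 = -D.e (g : V ≃ₗ[F] V) - ∑ x ∈ D.sing, ∑ b ∈ D.Opp x,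
      if x.map ((g : V ≃ₗ[F] V) : V →ₗ[F] V) = x ∧ b.map ((g : V ≃ₗ[F] V) : V →ₗ[F] V) = b then
        eul ((D.subs (g : V ≃ₗ[F] V)).filter (· < b)) * eul ((D.subs (g : V ≃ₗ[F] V)).filter (b < ·)) *
          eul ((D.subs (g : V ≃ₗ[F] V)).filter (x < ·)) else 0 := by
    intro g
    have hin : ∀ x ∈ D.sing, (∑ b ∈ D.Opp x,
        if x.map ((g : V ≃ₗ[F] V) : V →ₗ[F] V) = x ∧ b.map ((g : V ≃ₗ[F] V) : V →ₗ[F] V) = b then
          eul ((D.subs (g : V ≃ₗ[F] V)).filter (· < b)) * eul ((D.subs (g : V ≃ₗ[F] V)).filter (b < ·)) *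
            eul ((D.subs (g : V ≃ₗ[F] V)).filter (x < ·)) else 0) =
        if x.map ((g : V ≃ₗ[F] V) : V →ₗ[F] V) = x then
          D.e (g : V ≃ₗ[F] V) * eul ((D.subs (g : V ≃ₗ[F] V)).filter (x < ·)) else 0 := by
      intro x hx
      by_cases hfix : x.map ((g : V ≃ₗ[F] V) : V →ₗ[F] V) = x
      · rw [if_pos hfix, D.e_rec g.2 (D.mem_subs.mpr ⟨(D.mem_sing.mp hx).1, (D.mem_sing.mp hx).2, hfix⟩),
          Finset.sum_mul, ← Finset.sum_filter]
        refine Finset.sum_congr (Finset.ext fun b => ?_) fun b _ => rfl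
        simp [opps, mem_subs, mem_Opp, hfix]
        tauto
      · rw [if_neg hfix]
        exact Finset.sum_eq_zero fun b _ => if_neg fun h => hfix h.1
    rw [Finset.sum_congr rfl hin, ← Finset.sum_filter, ← D.subs_eq, ← Finset.mul_sum]
    have := eul_eq (D.subs (g : V ≃ₗ[F] V))
    rw [← PForm.e] at this
    linear_combination (D.e (g : V ≃ₗ[F] V)) * this
  simp only [he]
  rw [Finset.sum_sub_distrib, Finset.sum_neg_distrib, D.sum_e hne, neg_zero, zero_sub, Finset.sum_comm]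
  have hterm : ∀ x ∈ D.sing, ∑ g : D.Iso, ∑ b ∈ D.Opp x,
      (if x.map ((g : V ≃ₗ[F] V) : V →ₗ[F] V) = x ∧ b.map ((g : V ≃ₗ[F] V) : V →ₗ[F] V) = b then
        eul ((D.subs (g : V ≃ₗ[F] V)).filter (· < b)) * eul ((D.subs (g : V ≃ₗ[F] V)).filter (b < ·)) *
          eul ((D.subs (g : V ≃ₗ[F] V)).filter (x < ·)) else 0) =
      if Module.finrank F x = 1 then -(Fintype.card (stabS D.Iso x) : ℤ) else 0 := by
    intro x hx
    rw [Finset.sum_comm]
    have : ∀ b ∈ D.Opp x, ∑ g : D.Iso,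
        (if x.map ((g : V ≃ₗ[F] V) : V →ₗ[F] V) = x ∧ b.map ((g : V ≃ₗ[F] V) : V →ₗ[F] V) = b then
          eul ((D.subs (g : V ≃ₗ[F] V)).filter (· < b)) * eul ((D.subs (g : V ≃ₗ[F] V)).filter (b < ·)) *
            eul ((D.subs (g : V ≃ₗ[F] V)).filter (x < ·)) else 0) =
        if Module.finrank F x = 1 then -((Finset.univ.filter fun g : D.Iso =>
          x.map ((g : V ≃ₗ[F] V) : V →ₗ[F] V) = x ∧ b.map ((g : V ≃ₗ[F] V) : V →ₗ[F] V) = b).card : ℤ)
        else 0 := fun b hb => by rw [← Finset.sum_filter]; exact D.pair_term hx hb ih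
    rw [Finset.sum_congr rfl this]
    split_ifs with h1
    · rw [Finset.sum_neg_distrib, ← Nat.cast_sum]
      congr 2
      have hs := sum_stab (fun (g : stabS D.Iso x) (W : Submodule F V) =>
        W.map (((g : D.Iso) : V ≃ₗ[F] V) : V →ₗ[F] V)) (fun a b W => by rw [← Submodule.map_comp]; rfl)
        (fun W => Submodule.map_id W) (D.Opp x) (D.Opp_nonempty hx) ?_ ?_
      · rw [← hs]
        refine Finset.sum_congr rfl fun b _ => ?_
        refine Finset.card_bij' (fun g hg => (⟨g, (Finset.mem_filter.mp hg).2.1⟩ : stabS D.Iso x))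
          (fun g _ => (g : D.Iso)) ?_ ?_ (fun _ _ => rfl) (fun _ _ => rfl)
        · intro g hg
          exact Finset.mem_filter.mpr ⟨Finset.mem_univ _, (Finset.mem_filter.mp hg).2.2⟩
        · intro g hg
          exact Finset.mem_filter.mpr ⟨Finset.mem_univ _, g.2, (Finset.mem_filter.mp hg).2⟩
      · intro g b hb
        obtain ⟨hb0, hbs, hbd, hbi⟩ := D.mem_Opp.mp hb
        have hgx := mem_stabS.mp g.2
        refine D.mem_Opp.mpr ⟨fun e => hb0 ?_, D.isSing_map (g : D.Iso).2 hbs,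
          (((g : D.Iso) : V ≃ₗ[F] V).finrank_map_eq b).trans hbd, ?_⟩
        · exact Submodule.map_injective_of_injective ((g : D.Iso) : V ≃ₗ[F] V).injective
            (e.trans (Submodule.map_bot _).symm)
        · rw [← D.perp_invariant (g : D.Iso).2 hgx,
            ← Submodule.map_inf _ ((g : D.Iso) : V ≃ₗ[F] V).injective, hbi, Submodule.map_bot]
      · intro b hb b' hb'
        obtain ⟨g, hg1, hg2⟩ := D.opp_trans (D.mem_sing.mp hx).2 hb hb'
        exact ⟨⟨g, hg1⟩, hg2⟩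
    · simp
  rw [Finset.sum_congr rfl hterm, ← Finset.sum_filter]
  show -∑ x ∈ D.lines, _ = _
  rw [Finset.sum_neg_distrib, neg_neg, ← Nat.cast_sum, D.sum_lines hne]

end PForm

/-- The norm is one. -/
theorem norm_eq : ∀ (n : ℕ) (V : Type v) [AddCommGroup V] [Module F V] [Module.Finite F V]
    (D : PForm F V), Module.finrank F V = n →
    ∑ g : D.Iso, D.e (g : V ≃ₗ[F] V) ^ 2 = (Fintype.card D.Iso : ℤ) := by
  intro n
  induction n using Nat.strong_induction_on with
  | h n ih =>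
  intro V _ _ _ D hn
  exact D.norm_step fun k f hk => ih _ (hn ▸ f.finrank_M_lt hk) f.M f.rest rfl

end CfsgLib.PolarSt
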