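import Cfsg.Agent.Lib.PolarSteinberg.Apps
import Cfsg.Prelude.Def_Classical

/-!
The symplectic case.
-/

set_option autoImplicit false

namespace CfsgLib.PolarSt

open scoped Classical Matrix
open Cfsg

universe u

variable {F : Type u} [Field F]

/-- The alternating form in coordinates. -/
def altB (m : ℕ) (x y : Fin m ⊕ Fin m → F) : F :=
  ∑ i, (x (.inr i) * y (.inl i) - x (.inl i) * y (.inr i))

theorem altB_eq (m : ℕ) (x y : Fin m ⊕ Fin m → F) : x ⬝ᵥ (Matrix.J (Fin m) F *ᵥ y) = altB m x y := by
  rw [altB, Matrix.J, Matrix.fromBlocks_mulVec]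
  simp [dotProduct, Fintype.sum_sum_type, Matrix.neg_mulVec, Finset.sum_sub_distrib]
  ring

/-- The symplectic polar space. -/
def sympPForm (m : ℕ) (F : Type u) [Field F] : PForm F (Fin m ⊕ Fin m → F) where
  σ := RingHom.id F
  ε := -1
  hε := neg_ne_zero.mpr one_ne_zero
  B := altB m
  add_right x y z := by
    simp only [altB, Pi.add_apply, ← Finset.sum_add_distrib]
    exact Finset.sum_congr rfl fun i _ => by ring
  smul_right x y c := by
    simp only [altB, Pi.smul_apply, smul_eq_mul, Finset.mul_sum]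
    exact Finset.sum_congr rfl fun i _ => by ring
  refl x y := by
    simp only [altB, RingHom.id_apply, Finset.mul_sum]
    exact Finset.sum_congr rfl fun i _ => by ring
  nondeg x h := by
    funext s
    rcases s with i | i
    · simpa [altB, Finset.sum_sub_distrib, Pi.single_apply] using h (Pi.single (Sum.inr i) 1)
    · simpa [altB, Finset.sum_sub_distrib, Pi.single_apply] using h (Pi.single (Sum.inl i) 1)
  T := 0
  Q _ := 0
  Q_add _ _ := by simp
  Q_smul _ _ _ := rfl
  lift w l _ _ _ := ⟨0, rfl, by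
    simp only [altB]
    exact Finset.sum_eq_zero fun i _ => by ring⟩

/-- The symplectic group acting on the polar space. -/
noncomputable def sympRho (m : ℕ) (F : Type u) [Field F] :
    Matrix.symplecticGroup (Fin m) F →* (sympPForm m F).Iso :=
  ((matAut (ι := Fin m ⊕ Fin m) (F := F)).toMonoidHom.comp
    (Matrix.symplecticGroup (Fin m) F).subtype.toHomUnits).codRestrict _ fun A => by
    refine ⟨fun x y => ?_, fun _ => rfl⟩
    show altB m (A.1 *ᵥ x) (A.1 *ᵥ y) = altB m x y
    have hA : A.1ᵀ * Matrix.J (Fin m) F * A.1 = Matrix.J (Fin m) F := by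
      have := SymplecticGroup.mem_iff.mp (SymplecticGroup.transpose_mem A.2)
      rwa [Matrix.transpose_transpose] at this
    rw [← altB_eq, ← altB_eq, Matrix.mulVec_mulVec, Matrix.dotProduct_mulVec, ← Matrix.vecMul_transpose,
      Matrix.vecMul_vecMul, ← mul_assoc, hA, Matrix.dotProduct_mulVec]

theorem sympRho_injective (m : ℕ) : Function.Injective (sympRho m F) := fun A A' h => by
  refine Subtype.ext (Matrix.ext_of_mulVec_single fun i => ?_)
  exact congrArg (fun g : (sympPForm m F).Iso => (g : (Fin m ⊕ Fin m → F) ≃ₗ[F] (Fin m ⊕ Fin m → F)) (Pi.single i 1)) h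

theorem sympRho_surjective (m : ℕ) : Function.Surjective (sympRho m F) := by
  rintro ⟨g, hg⟩
  set A := (matAut (ι := Fin m ⊕ Fin m) (F := F)).symm g with hA
  have hag : ∀ x, A.1 *ᵥ x = g x := fun x => by rw [← matAut_apply, hA, MulEquiv.apply_symm_apply]
  have hmem : A.1ᵀ * Matrix.J (Fin m) F * A.1 = Matrix.J (Fin m) F := by
    refine Matrix.ext fun i j => ?_
    have h : altB m (A.1 *ᵥ Pi.single i 1) (A.1 *ᵥ Pi.single j 1) = altB m (Pi.single i 1) (Pi.single j 1) := by
      rw [hag, hag]; exact hg.1 _ _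
    rw [← altB_eq, ← altB_eq, Matrix.mulVec_mulVec, Matrix.dotProduct_mulVec, ← Matrix.vecMul_transpose,
      Matrix.vecMul_vecMul, ← mul_assoc, Matrix.dotProduct_mulVec] at h
    simpa using h
  have h' : A.1 ∈ Matrix.symplecticGroup (Fin m) F := by
    have := SymplecticGroup.transpose_mem (A := A.1ᵀ) (SymplecticGroup.mem_iff.mpr (by rwa [Matrix.transpose_transpose]))
    rwa [Matrix.transpose_transpose] at this
  exact ⟨⟨A.1, h'⟩, Subtype.ext (LinearEquiv.ext hag)⟩

theorem psp_steinberg [Finite F] (p : ℕ) [Fact p.Prime] [CharP F p] (m : ℕ) :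
    ∃ χ : PSp m F → ℂ, IsIrrCharacter (PSp m F) χ ∧
      ∀ P : Sylow p (PSp m F), χ 1 = Nat.card P ∧ ∀ x : PSp m F, x ∈ P → x ≠ 1 → χ x = 0 := by
  have hr : (sympRho m F).range = ⊤ := MonoidHom.range_eq_top.mpr (sympRho_surjective m)
  haveI : (sympRho m F).range.Normal := by rw [hr]; infer_instance
  haveI : Finite (Matrix.symplecticGroup (Fin m) F) := Finite.of_injective _ Subtype.val_injective
  refine steinberg_of (sympPForm m F) p (sympRho m F) (sympRho_injective m) (fun x _ hx => ?_)
    (Or.inl (by rw [hr, Subgroup.index_top]; exact (Fact.out : p.Prime).not_dvd_one))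
  by_contra h
  push Not at h
  refine hx (sympRho_injective m ?_)
  rw [map_one]
  refine Subtype.ext (LinearEquiv.ext fun t => ?_)
  by_contra ht
  exact h t (fun e => ht (sub_eq_zero.mp e)) rfl

end CfsgLib.PolarSt
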