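import Cfsg.Agent.Lib.PolarSteinberg.Apps
import Cfsg.Agent.Lib.IsotropicHerm
import Cfsg.Prelude.Def_Classical

/-!
The unitary case.
-/

set_option autoImplicit false

namespace CfsgLib.PolarSt

open scoped Classical Matrix
open Cfsg

universe u v

theorem exists_dif_ne {F : Type u} [Field F] {V : Type v} [AddCommGroup V] [Module F V]
    {g : V ≃ₗ[F] V} (h : g ≠ 1) : ∃ z, PForm.dif g z ≠ 0 := by
  by_contra hall
  push Not at hall
  exact h (LinearEquiv.ext fun t => sub_eq_zero.mp (hall t))

variable {F : Type u} [Field F] [Fintype F]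

theorem psu_steinberg (p : ℕ) [Fact p.Prime] [CharP F p] (n q : ℕ) (hF : Fintype.card F = q ^ 2) :
    ∃ χ : PSU n F q → ℂ, IsIrrCharacter (PSU n F q) χ ∧
      ∀ P : Sylow p (PSU n F q), χ 1 = Nat.card P ∧ ∀ x : PSU n F q, x ∈ P → x ≠ 1 → χ x = 0 := by
  obtain ⟨σ, B, hσid, hσ2, -, hS, hN, hB⟩ := CfsgLib.IsotropicCount.herm_sesq hF n
  let T : F →+ F := (RingHom.id F).toAddMonoidHom + σ.toAddMonoidHom
  let D : PForm F (Fin n → F) :=
    { σ := σ
      ε := 1
      hε := one_ne_zero
      B := fun x y => B x y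
      add_right := fun x y z => map_add (B x) y z
      smul_right := fun x y c => by rw [map_smul, smul_eq_mul]
      refl := fun x y => by rw [one_mul]; exact (hS.eq x y).symm
      nondeg := fun x h => hN.1 x h
      T := T
      Q := fun x => B x x
      Q_add := fun x y => by
        simp only [map_add, LinearMap.add_apply]
        show _ = _ + _ + (B x y + σ (B x y))
        rw [hS.eq]; ring
      Q_smul := fun c x h => by simp [h]
      lift := fun w l h1 h2 _ => by
        obtain ⟨k, hk⟩ := CfsgLib.WittExtension.exists_trace hσid hσ2 (c := -(B w w))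
          (by rw [map_neg, hS.eq])
        have h4 : B l w = 1 := by rw [← hS.eq w l, h1, map_one]
        have h5 : B (w + k • l) (w + k • l) = 0 := by
          simp only [map_add, LinearMap.add_apply, map_smulₛₗ, LinearMap.smul_apply, RingHom.id_apply,
            smul_eq_mul, h1, h4, show B l l = 0 from h2]
          linear_combination hk
        exact ⟨k, h5, h5⟩ }
  have hD : ∀ g : GL (Fin n) F, g ∈ Cfsg.GU n F q ↔ matAut g ∈ D.Iso := fun g => by
    rw [CfsgLib.UnitaryBasic.mem_GU]
    constructor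
    · intro h
      refine ⟨fun x y => ?_, fun x => ?_⟩ <;>
      · show B (g.1 *ᵥ _) (g.1 *ᵥ _) = B _ _
        rw [hB, hB, h]
    · intro h x y
      rw [← hB, ← hB]
      exact h.1 y x
  let det' : D.Iso →* Fˣ := (Matrix.GeneralLinearGroup.det).comp
    ((matAut (ι := Fin n) (F := F)).symm.toMonoidHom.comp D.Iso.subtype)
  let ρ : SU n F q →* D.Iso :=
    ((matAut (ι := Fin n) (F := F)).toMonoidHom.comp
      ((Matrix.SpecialLinearGroup.toGL).comp (SU n F q).subtype)).codRestrict _
      fun x => (hD _).mp x.2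
  have hρ : Function.Injective ρ := fun x y h => by
    have h1 : matAut (Matrix.SpecialLinearGroup.toGL (x : Matrix.SpecialLinearGroup (Fin n) F)) =
        matAut (Matrix.SpecialLinearGroup.toGL (y : Matrix.SpecialLinearGroup (Fin n) F)) := congrArg Subtype.val h
    exact Subtype.ext (Matrix.SpecialLinearGroup.toGL_injective ((matAut (ι := Fin n) (F := F)).injective h1))
  have hr : ρ.range = det'.ker := by
    ext g
    constructor
    · rintro ⟨x, rfl⟩
      show Matrix.GeneralLinearGroup.det ((matAut (ι := Fin n) (F := F)).symm (matAut _)) = 1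
      rw [MulEquiv.symm_apply_apply]
      exact Units.ext (x : Matrix.SpecialLinearGroup (Fin n) F).2
    · intro hg
      set A := (matAut (ι := Fin n) (F := F)).symm (g : (Fin n → F) ≃ₗ[F] (Fin n → F)) with hA
      have hA' : matAut A = (g : (Fin n → F) ≃ₗ[F] (Fin n → F)) := by rw [hA, MulEquiv.apply_symm_apply]
      have hmem : A ∈ Cfsg.GU n F q := (hD A).mpr (hA' ▸ g.2)
      let x : Matrix.SpecialLinearGroup (Fin n) F := ⟨A.1, congrArg Units.val hg⟩
      have hx : Matrix.SpecialLinearGroup.toGL x = A := Units.ext rfl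
      refine ⟨⟨x, fun a b => hmem a b⟩, Subtype.ext ?_⟩
      show matAut (Matrix.SpecialLinearGroup.toGL x) = (g : (Fin n → F) ≃ₗ[F] (Fin n → F))
      rw [hx, hA']
  haveI : ρ.range.Normal := hr ▸ MonoidHom.normal_ker det'
  haveI : Finite (SU n F q) := Subtype.finite
  refine steinberg_of D p ρ hρ (fun x h2 hx => ?_) (Or.inl ?_)
  · obtain ⟨z, hz⟩ := exists_dif_ne (g := ((ρ x : D.Iso) : (Fin n → F) ≃ₗ[F] (Fin n → F))) fun e =>
      hx (hρ (by rw [map_one]; exact Subtype.ext e))
    exact ⟨z, hz, B_dif_dif D (ρ x).2 h2 z⟩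
  · rw [hr, Subgroup.index_ker]
    intro hp
    obtain ⟨t, ht⟩ := exists_prime_orderOf_dvd_card' p hp
    obtain ⟨⟨g, hg⟩, hgt⟩ := t.2
    have h1 : (t : Fˣ) ^ (q + 1) = 1 := by
      rw [← hgt]
      refine CfsgLib.UnitaryBasic.det_pow hF ((hD _).mpr ?_)
      show matAut ((matAut (ι := Fin n) (F := F)).symm g) ∈ D.Iso
      rwa [MulEquiv.apply_symm_apply]
    have h2 : p ∣ q + 1 := ht ▸ (orderOf_dvd_of_pow_eq_one (Subtype.ext h1 : t ^ (q + 1) = 1))
    obtain ⟨e, hp', he⟩ := FiniteField.card F p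
    have h3 : p ∣ q := hp'.dvd_of_dvd_pow (n := 2) (by rw [← hF, he]; exact dvd_pow_self p e.ne_zero)
    exact hp'.not_dvd_one ((Nat.dvd_add_right h3).mp h2)

end CfsgLib.PolarSt
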