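import Cfsg.Agent.Lib.PolarSteinberg.Char

/-!
The character vanishes at the admissible unipotent elements; bounds on subgroups of such elements.
-/

set_option autoImplicit false

namespace CfsgLib.PolarSt

open scoped Classical ComplexConjugate
open Cfsg CfsgLib.CharTheory

universe u v w

variable {F : Type u} [Field F] [Finite F]

namespace PForm

variable {V : Type v} [AddCommGroup V] [Module F V] [Module.Finite F V] (D : PForm F V)

theorem sub_left (a b c : V) : D.B (a - b) c = D.B a c - D.B b c := by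
  have h := D.add_left (a - b) b c
  rw [sub_add_cancel] at h
  linear_combination -h

/-- The nilpotent part. -/
def dif (g : V ≃ₗ[F] V) : V →ₗ[F] V := (g : V →ₗ[F] V) - LinearMap.id

omit [Finite F] [Module.Finite F V] in
theorem dif_apply (g : V ≃ₗ[F] V) (v : V) : dif g v = g v - v := rfl

/-- The admissible unipotent elements. -/
def Good (g : V ≃ₗ[F] V) : Prop :=
  (∃ N : ℕ, ∀ v, (⇑(dif g))^[N] v = 0) ∧
    ((∀ v, dif g (dif g v) = 0) → g ≠ 1 → ∃ z, dif g z ≠ 0 ∧ D.Q (dif g z) = 0)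

theorem perp_range {g : V ≃ₗ[F] V} (hg : g ∈ D.Iso) {v : V} (hv : g v = v) (t : V) :
    D.B v (dif g t) = 0 := by
  have h := hg.1 v t
  rw [hv] at h
  rw [dif_apply, D.sub_right, h, sub_self]

variable {D}

/-- A singular fixed vector in the range. -/
theorem exists_fixed {g : V ≃ₗ[F] V} (hg : g ∈ D.Iso) (hG : D.Good g) (h1 : g ≠ 1) :
    ∃ v, v ≠ 0 ∧ g v = v ∧ v ∈ LinearMap.range (dif g) ∧ D.Q v = 0 := by
  obtain ⟨⟨N, hN⟩, hsq⟩ := hG
  by_cases h2 : ∀ v, dif g (dif g v) = 0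
  · obtain ⟨z, hz, hQ⟩ := hsq h2 h1
    exact ⟨dif g z, hz, sub_eq_zero.mp (h2 z), ⟨z, rfl⟩, hQ⟩
  push Not at h2
  obtain ⟨z, hz⟩ := h2
  have hex : ∃ k, (⇑(dif g))^[k] z = 0 := ⟨N, hN z⟩
  have hk := Nat.find_spec hex
  have hmin : ∀ j < Nat.find hex, (⇑(dif g))^[j] z ≠ 0 := fun j hj => Nat.find_min hex hj
  generalize Nat.find hex = k at hk hmin
  have hk3 : 3 ≤ k := by
    by_contra h
    have h' : (⇑(dif g))^[2] z = 0 := by
      rw [show 2 = (2 - k) + k by omega, Function.iterate_add_apply, hk, iterate_map_zero]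
    exact hz h'
  obtain ⟨j, rfl⟩ : ∃ j, k = j + 3 := ⟨k - 3, by omega⟩
  set y' := (⇑(dif g))^[j] z
  have e1 : dif g (dif g y') = (⇑(dif g))^[j + 2] z := by
    rw [Function.iterate_succ_apply', Function.iterate_succ_apply']
  have e2 : dif g (dif g (dif g y')) = 0 := by
    rw [e1, ← Function.iterate_succ_apply' (⇑(dif g))]; exact hk
  set y := dif g y' with hy
  set v := dif g y with hv
  have hfix : g v = v := sub_eq_zero.mp e2
  refine ⟨v, e1 ▸ hmin (j + 2) (by omega), hfix, ⟨y, rfl⟩, ?_⟩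
  have hyv : D.B y v = 0 := D.symm_zero (D.perp_range hg hfix y')
  have h := hg.2 y
  rw [show g y = y + v by rw [hv, dif_apply]; abel, D.Q_add, hyv, map_zero, add_zero] at h
  linear_combination h

theorem fixed_perp {g : V ≃ₗ[F] V} (hg : g ∈ D.Iso) {v w : V} (hv : g v = v)
    (hw : w ∈ LinearMap.range (dif g)) : D.B v w = 0 := by
  obtain ⟨t, rfl⟩ := hw
  exact D.perp_range hg hv t

variable {k : ℕ} (f : D.Frame k)

/-- Fixing the first half pointwise and the second setwise fixes both pointwise. -/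
theorem fix_Y {g : V ≃ₗ[F] V} (hg : g ∈ D.Iso) (hX : ∀ v ∈ f.X, g v = v)
    (hY : f.Y.map (g : V →ₗ[F] V) = f.Y) : ∀ v ∈ f.Y, g v = v := by
  intro v hv
  obtain ⟨c, hc⟩ := f.mem_Y.mp (hY.le (Submodule.mem_map_of_mem hv))
  obtain ⟨d, rfl⟩ := f.mem_Y.mp hv
  have : c = d := funext fun i => by
    have h1 := hg.1 (f.l i) (f.W d)
    rw [hX _ (Submodule.subset_span ⟨i, rfl⟩),
      show g (f.W d) = f.W c from hc.symm, f.BlW, f.BlW] at h1
    exact h1
  rw [show g (f.W d) = f.W c from hc.symm, this]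

theorem dif_proj {g : V ≃ₗ[F] V} (hg : g ∈ D.Iso) (hX : ∀ v ∈ f.X, g v = v)
    (hY : f.Y.map (g : V →ₗ[F] V) = f.Y) (v : V) : dif g v = dif g (f.proj v) := by
  conv_lhs => rw [← f.decomp v]
  rw [map_add, map_add, dif_apply g (f.L _), hX _ (f.L_mem _), dif_apply g (f.W _),
    fix_Y f hg hX hY _ (f.W_mem _), sub_self, sub_self, zero_add, zero_add]

/-- The restriction to the orthogonal of a frame inherits admissibility and non-triviality. -/
theorem good_rest {g : V ≃ₗ[F] V} (hg : g ∈ D.Iso) (hX : ∀ v ∈ f.X, g v = v)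
    (hY : f.Y.map (g : V →ₗ[F] V) = f.Y) (hM : f.M.map (g : V →ₗ[F] V) = f.M) (hG : D.Good g)
    (h1 : g ≠ 1) : resS g f.M hM ≠ 1 ∧ f.rest.Good (resS g f.M hM) := by
  have hne : resS g f.M hM ≠ 1 := fun h => h1 (LinearEquiv.ext fun v => by
    have h2 := dif_proj f hg hX hY v
    have h3 : g (f.proj v) = f.proj v :=
      congrArg (fun e : f.M ≃ₗ[F] f.M => (e ⟨f.proj v, f.proj_mem v⟩ : V)) h
    rw [dif_apply, dif_apply, h3, sub_self, sub_eq_zero] at h2
    exact h2)
  refine ⟨hne, ?_, fun h2 _ => ?_⟩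
  · obtain ⟨N, hN⟩ := hG.1
    refine ⟨N, fun m => Subtype.ext ?_⟩
    have : ∀ j, (((⇑(dif (resS g f.M hM)))^[j] m : f.M) : V) = (⇑(dif g))^[j] (m : V) := by
      intro j
      induction j with
      | zero => rfl
      | succ j ih => rw [Function.iterate_succ_apply', Function.iterate_succ_apply', ← ih]; rfl
    rw [this N, hN]; rfl
  · obtain ⟨z, hz, hQ⟩ := hG.2 (fun v => by
      rw [dif_proj f hg hX hY v]
      exact congrArg Subtype.val (h2 ⟨f.proj v, f.proj_mem v⟩)) h1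
    rw [dif_proj f hg hX hY z] at hz hQ
    exact ⟨⟨f.proj z, f.proj_mem z⟩, fun h => hz (congrArg Subtype.val h), hQ⟩

omit [Finite F] [Module.Finite F V] in
theorem map_eq_of_fix {g : V ≃ₗ[F] V} {W : Submodule F V} (h : ∀ v ∈ W, g v = v) :
    W.map (g : V →ₗ[F] V) = W := by
  ext v
  rw [Submodule.mem_map]
  exact ⟨fun ⟨a, ha, e⟩ => e ▸ (h a ha).symm ▸ ha, fun hv => ⟨v, hv, h v hv⟩⟩

end PForm

/-- The character vanishes at admissible elements. -/
theorem e_good : ∀ (n : ℕ) (V : Type v) [AddCommGroup V] [Module F V] [Module.Finite F V]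
    (D : PForm F V), Module.finrank F V = n → ∀ g ∈ D.Iso, D.Good g → g ≠ 1 → D.e g = 0 := by
  intro n
  induction n using Nat.strong_induction_on with
  | h n ih =>
  intro V _ _ _ D hn g hg hG h1
  obtain ⟨v, hv0, hvfix, hvr, hvQ⟩ := PForm.exists_fixed hg hG h1
  set x := Submodule.span F {v}
  have hxs : D.IsSing x := D.isSing_span _ (by rintro _ rfl; exact hvQ)
    (by rintro _ rfl _ rfl; exact PForm.fixed_perp hg hvfix hvr)
  have hxfix : ∀ t ∈ x, g t = t := fun t ht => by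
    obtain ⟨c, rfl⟩ := Submodule.mem_span_singleton.mp ht
    rw [map_smul, hvfix]
  have hx : x ∈ D.subs g := D.mem_subs.mpr ⟨by simp [x, hv0], hxs, PForm.map_eq_of_fix hxfix⟩
  rw [D.e_line hg hx (finrank_span_singleton hv0), neg_eq_zero]
  refine Finset.sum_eq_zero fun b hb => ?_
  obtain ⟨hbm, hbd, hbi⟩ := Finset.mem_filter.mp hb
  obtain ⟨-, hbs, hbg⟩ := D.mem_subs.mp hbm
  obtain ⟨f, hfX, rfl⟩ := D.exists_frame_of_opp hxs hbs hbd hbi
  have hX : ∀ t ∈ f.X, g t = t := fun t ht => hxfix t (hfX ▸ ht)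
  have hM := PForm.M_invariant f hg (PForm.map_eq_of_fix hX) hbg
  obtain ⟨hne, hGood⟩ := PForm.good_rest f hg hX hbg hM hG h1
  rw [PForm.above_eq f hM f.Y (Or.inr rfl) hbg]
  exact ih _ (hn ▸ f.finrank_M_lt (by rw [finrank_span_singleton hv0]; exact one_pos)) f.M f.rest rfl _
    (PForm.resS_mem f hg hM) hGood hne

namespace PForm

variable {V : Type v} [AddCommGroup V] [Module F V] [Module.Finite F V] {D : PForm F V}

/-- A group of admissible elements has order dividing the degree. -/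
theorem card_dvd_deg {P : Type w} [Group P] [Finite P] (φ : P →* D.Iso) (hφ : Function.Injective φ)
    (hgood : ∀ u, u ≠ 1 → D.Good ((φ u : D.Iso) : V ≃ₗ[F] V)) : Nat.card P ∣ D.deg := by
  haveI := Fintype.ofFinite P
  let a : P → ℂ := fun u => D.eFun (φ u)
  obtain ⟨s, t, hs, ht, hst⟩ := D.isGenChar_eFun
  have ha : IsGeneralizedCharacter P a :=
    ⟨_, _, isCharacter_comp hs φ, isCharacter_comp ht φ, funext fun u => congrFun hst (φ u)⟩
  obtain ⟨z, hz⟩ := classInner_genChar_int ha (isGenChar_of_char (isCharacter_one (G := P)))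
  have hsum : ∑ u : P, a u = (D.e 1 : ℂ) := by
    rw [Finset.sum_eq_single 1 (fun u _ hu => ?_) (by simp)]
    · simp [a, eFun]
    · show ((D.e _ : ℤ) : ℂ) = 0
      rw [e_good _ V D rfl _ (φ u).2 (hgood u hu) (fun h => hu (hφ (by
        rw [map_one]; exact Subtype.ext h))), Int.cast_zero]
  rw [classInner] at hz
  simp only [map_one, mul_one] at hz
  rw [hsum, inv_mul_eq_iff_eq_mul₀ (Nat.cast_ne_zero.mpr Nat.card_pos.ne')] at hz
  have hz' : D.e 1 = (Nat.card P : ℤ) * z := by exact_mod_cast hz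
  exact ⟨z.natAbs, by rw [deg, hz', Int.natAbs_mul, Int.natAbs_natCast]⟩

end PForm

end CfsgLib.PolarSt
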